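import Groth.Agent.Stk.K751.Inv
import Mathlib.CategoryTheory.Sites.SheafOfTypes

/-!
# Presheaves of sets as categories over `C`: sheaves are stacks (seat 751)
-/

set_option autoImplicit false
set_option backward.isDefEq.respectTransparency false
set_option backward.isDefEq.respectTransparency.types false

universe w v₄ u₄ v₃ u₃ v₂ u₂ v u

open CategoryTheory CategoryTheory.Limits Functor K751.FG K751.Test FibCat Opposite

namespace K751.OfPsh

variable {C : Type u} [Category.{v} C] {P : Cᵒᵖ ⥤ Type w}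

theorem isHomLift_of_hom {X Y : Stk.EltObj P} (a : X ⟶ Y) (f : X.base ⟶ Y.base) (h : a.hom = f) :
    (Stk.ofPsh P).p.IsHomLift f a := by
  subst h
  exact CategoryTheory.IsHomLift.map (Stk.ofPsh P).p a

theorem hom_of_isHomLift {X Y : Stk.EltObj P} (a : X ⟶ Y) (f : X.base ⟶ Y.base)
    (h : (Stk.ofPsh P).p.IsHomLift f a) : a.hom = f :=
  (IsHomLift.eq_of_isHomLift (a := X) (b := Y) (Stk.ofPsh P).p f a).symm

theorem map_map {U V W : C} (f : V ⟶ U) (g : W ⟶ V) (t : P.obj (op U)) :
    P.map g.op (P.map f.op t) = P.map (g ≫ f).op t := by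
  rw [op_comp, Functor.map_comp_apply]

theorem map_id' {U : C} (t : P.obj (op U)) : P.map (𝟙 U).op t = t := by
  simp

/-- the objects of the descent datum of a family of sections -/
abbrev datObj {U : C} {R : Sieve U} (x : Presieve.FamilyOfElements P R.arrows) (a : R.arrows.category) :
    Stk.EltObj P := ⟨a.obj.left, x a.obj.hom a.property⟩

/-- its morphisms -/
def datHom {U : C} {R : Sieve U} (x : Presieve.FamilyOfElements P R.arrows) (hx : x.Compatible)
    {a b : R.arrows.category} (f : a ⟶ b) : datObj x a ⟶ datObj x b :=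
  ⟨f.hom.left, by
      have h := (Presieve.compatible_iff_sieveCompatible x).1 hx b.obj.hom f.hom.left b.property
      have e : f.hom.left ≫ b.obj.hom = a.obj.hom := Over.w f.hom
      have : ∀ (k : a.obj.left ⟶ U) (hk : R k), k = a.obj.hom → x k hk = x a.obj.hom a.property := by
        intro k hk e; subst e; rfl
      change P.map f.hom.left.op (x b.obj.hom b.property) = x a.obj.hom a.property
      rw [← h, this _ _ e]⟩

/-- the descent datum of a compatible family of sections -/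
def dat {U : C} {R : Sieve U} (x : Presieve.FamilyOfElements P R.arrows) (hx : x.Compatible) :
    Stk.sieveCat R ⥤ᵇ Stk.ofPsh P :=
  mkFunctor (𝒳 := Stk.sieveCat R) (𝒴 := Stk.ofPsh P)
    (fun a => datObj x a)
    (fun f => datHom x hx f)
    (fun f => by exact isHomLift_of_hom (datHom x hx f) f.hom.left rfl)
    (fun _ => rfl)
    (fun _ _ => rfl)

theorem isSheaf_of_isStack (J : GrothendieckTopology C) (h : Stk.IsStack J (Stk.ofPsh P)) :
    Presieve.IsSheaf J P := by
  intro U R hR x hx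
  obtain ⟨⟨pt, ι, hι, nι, rfl⟩⟩ := exists_eff h hR (dat x hx)
  have key : ∀ ⦃V : C⦄ (f : V ⟶ pt.base) (hf : R f), (ι (mkS f hf)).hom = f := fun V f hf =>
    hom_of_isHomLift (X := datObj x (mkS f hf)) (Y := pt) (ι (mkS f hf)) f (hι (mkS f hf))
  refine ⟨pt.sec, fun V f hf => ?_, fun t' ht' => ?_⟩
  · have h1 := (ι (mkS f hf)).map_sec
    rw [key f hf] at h1
    exact h1
  · have hg := glueFrom_of_isPrestack (isPrestack_of_isStack h) pt R hR
    let Y : Stk.EltObj P := ⟨pt.base, t'⟩
    have hR' : ∀ ⦃z : Stk.EltObj P⦄ (a : z ⟶ pt), R a.hom → P.map a.hom.op t' = z.sec := by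
      intro z a ha
      have h1 := (ι (mkS a.hom ha)).map_sec
      rw [key a.hom ha] at h1
      have h2 : P.map a.hom.op t' = x a.hom ha := ht' a.hom ha
      exact h2.trans (h1.symm.trans a.map_sec)
    obtain ⟨ψ, ⟨hψ, -⟩, -⟩ := hg (y := Y) (𝟙 pt.base) (fun z a ha => ⟨a.hom, hR' a ha⟩)
      (fun z a ha => (Category.comp_id _).symm) (fun z' z b a ha hba => rfl)
    have h2 := ψ.map_sec
    have h3 : ψ.hom = 𝟙 pt.base := hψ
    rw [h3] at h2
    exact (map_id' (P := P) (U := pt.base) t').symm.trans h2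

theorem isPrestack_of_isSeparated (J : GrothendieckTopology C) (h : Presieve.IsSeparated J P) :
    Stk.IsPrestack J (Stk.ofPsh P) := by
  rw [isPrestack_iff]
  refine ⟨Stk.isFibGrpd_ofPsh P, fun X R hR Y g φ hφ cφ => ?_⟩
  have hs : P.map g.op Y.sec = X.sec := by
    refine (h R hR).ext fun V f hf => ?_
    let z : Stk.EltObj P := ⟨V, P.map f.op X.sec⟩
    let a : z ⟶ X := ⟨f, rfl⟩
    have h1 := (φ a hf).map_sec
    have h2 : (φ a hf).hom = f ≫ g := hφ a hf
    rw [h2, op_comp, Functor.map_comp_apply] at h1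
    exact h1
  refine ⟨⟨g, hs⟩, ⟨rfl, fun z a ha => Stk.EltObj.hom_ext (hφ a ha).symm⟩, ?_⟩
  rintro ψ ⟨h1, -⟩
  exact Stk.EltObj.hom_ext h1

theorem isStack_of_isSheaf (J : GrothendieckTopology C) (h : Presieve.IsSheaf J P) :
    Stk.IsStack J (Stk.ofPsh P) := by
  rw [isStack_iff]
  refine ⟨isPrestack_of_isSeparated J h.isSeparated, fun U R hR D => ?_⟩
  have hb : ∀ a : R.arrows.category, (D.obj a).base = a.obj.left := fun a => D.w_obj a
  have hm : ∀ {a b : R.arrows.category} (f : a ⟶ b), (D.map f).hom = eqToHom (hb a) ≫ f.hom.left ≫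
      eqToHom (hb b).symm := fun {a b} f => by
    have h1 : (Stk.ofPsh P).p.IsHomLift f.hom.left (D.map f) := by
      have : (Stk.sieveCat R).p.IsHomLift f.hom.left f := IsHomLift.map (Stk.sieveCat R).p f
      exact BasedFunctor.preserves_isHomLift D _ f
    exact IsHomLift.fac' (Stk.ofPsh P).p f.hom.left (D.map f)
  let x : Presieve.FamilyOfElements P R.arrows := fun V f hf =>
    P.map (eqToHom (hb (mkS f hf)).symm).op (D.obj (mkS f hf)).sec
  have hx : x.Compatible := by
    rw [Presieve.compatible_iff_sieveCompatible]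
    intro V W f g hf
    have h1 := (D.map (homS g rfl : mkS (g ≫ f) (R.downward_closed hf g) ⟶ mkS f hf)).map_sec
    rw [hm] at h1
    simp only [x]
    rw [← h1]
    simp only [← Functor.map_comp_apply, ← op_comp]
    simp
  obtain ⟨t, ht, -⟩ := h R hR x hx
  refine ⟨⟨⟨U, t⟩, fun a => ⟨eqToHom (hb a) ≫ a.obj.hom, ?_⟩, fun a => ?_, fun {a b} f => ?_, rfl⟩⟩
  · have h1 := ht a.obj.hom a.property
    have h2 : P.map (eqToHom (hb a) ≫ a.obj.hom).op t = P.map (eqToHom (hb a)).op (x a.obj.hom a.property) := by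
      rw [← h1, ← Functor.map_comp_apply, op_comp]
    refine h2.trans ((map_map (eqToHom (hb a).symm) (eqToHom (hb a)) (D.obj a).sec).trans ?_)
    rw [eqToHom_trans, eqToHom_refl]
    exact map_id' _
  · exact IsHomLift.of_fac' (Stk.ofPsh P).p a.obj.hom _ (hb a) rfl (by simp)
  · apply Stk.EltObj.hom_ext
    change (D.map f).hom ≫ eqToHom (hb b) ≫ b.obj.hom = eqToHom (hb a) ≫ a.obj.hom
    rw [hm]
    have e : f.hom.left ≫ b.obj.hom = a.obj.hom := Over.w f.hom
    simp [e]

theorem isStack_ofPsh_iff (J : GrothendieckTopology C) :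
    Stk.IsStack J (Stk.ofPsh P) ↔ Presieve.IsSheaf J P :=
  ⟨isSheaf_of_isStack J, isStack_of_isSheaf J⟩

/-- `ofPsh P` is fibred in setoids -/
theorem isFibSetoid_ofPsh : IsFibSetoid (Stk.ofPsh P).p := by
  rw [K751.Inv.isFibSetoid_iff (Stk.isFibGrpd_ofPsh P)]
  intro x y a b e
  exact Stk.EltObj.hom_ext e

section Yoneda

variable (U : C)

/-- the category of the representable presheaf is the slice -/
def ofYon : Stk.ofPsh (yoneda.obj U) ⥤ᵇ overCat U :=
  mkFunctor (𝒳 := Stk.ofPsh (yoneda.obj U)) (𝒴 := overCat U) (fun a => Over.mk (Y := a.base) (a.sec : a.base ⟶ U))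
    (fun f => Over.homMk f.hom f.map_sec)
    (fun {a b} f => CategoryTheory.IsHomLift.map (overCat U).p (Over.homMk f.hom f.map_sec :
      Over.mk (Y := a.base) (a.sec : a.base ⟶ U) ⟶ Over.mk (Y := b.base) (b.sec : b.base ⟶ U)))
    (fun _ => rfl) (fun _ _ => rfl)

/-- the morphisms of the category of the representable presheaf -/
def toYonHom {a b : Over U} (f : a ⟶ b) :
    (⟨a.left, a.hom⟩ : Stk.EltObj (yoneda.obj U)) ⟶ ⟨b.left, b.hom⟩ := ⟨f.left, Over.w f⟩

/-- the slice as the category of the representable presheaf -/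
def toYon : overCat U ⥤ᵇ Stk.ofPsh (yoneda.obj U) :=
  mkFunctor (𝒳 := overCat U) (𝒴 := Stk.ofPsh (yoneda.obj U))
    (fun a => (⟨a.left, a.hom⟩ : Stk.EltObj (yoneda.obj U)))
    (fun f => toYonHom U f)
    (fun f => CategoryTheory.IsHomLift.map (Stk.ofPsh (yoneda.obj U)).p (toYonHom U f))
    (fun _ => rfl) (fun _ _ => rfl)

theorem isEquivOver_ofYon : IsEquivOver (ofYon U) :=
  ⟨toYon U, ⟨Iso.refl _⟩, ⟨Iso.refl _⟩⟩

theorem isEquivOver_toYon : IsEquivOver (toYon U) :=
  ⟨ofYon U, ⟨Iso.refl _⟩, ⟨Iso.refl _⟩⟩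

theorem isFibGrpd_overCat : IsFibGrpd (overCat U).p :=
  K751.Inv.isFibGrpd_of_isEquivOver (isEquivOver_ofYon U) (Stk.isFibGrpd_ofPsh _)

theorem isStack_overCat_iff (J : GrothendieckTopology C) :
    Stk.IsStack J (overCat U) ↔ Presieve.IsSheaf J (yoneda.obj U) :=
  (K751.Inv.isStack_iff_of_isEquivOver (isEquivOver_toYon U)).trans (isStack_ofPsh_iff J)

end Yoneda

end K751.OfPsh
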