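import Groth.Agent.Stk.K751.Test

/-!
# Invariance of the prestack and stack conditions under equivalence over the base (seat 751)
-/

set_option autoImplicit false
set_option backward.isDefEq.respectTransparency false
set_option backward.isDefEq.respectTransparency.types false

universe v₅ u₅ v₄ u₄ v₃ u₃ v₂ u₂ v u

open CategoryTheory Functor K751.FG K751.Test

namespace K751.Inv

variable {C : Type u} [Category.{v} C]

section General

variable {A : Type u₂} [Category.{v₂} A] {B : Type u₃} [Category.{v₃} B] {A' : Type u₄} [Category.{v₄} A']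
  {B' : Type u₅} [Category.{v₅} B'] {L : A ⥤ B} {L' : A' ⥤ B'} {E₁ : A ⥤ A'} {E₂ : B ⥤ B'}

theorem full_faithful_of_square [E₁.IsEquivalence] [E₂.IsEquivalence] (e : L ⋙ E₂ ≅ E₁ ⋙ L')
    (h : L.Full ∧ L.Faithful) : L'.Full ∧ L'.Faithful := by
  obtain ⟨h1, h2⟩ := h
  have e' : E₁.inv ⋙ L ⋙ E₂ ≅ L' :=
    isoWhiskerLeft E₁.inv e ≪≫ (Functor.associator _ _ _).symm ≪≫
      isoWhiskerRight E₁.asEquivalence.counitIso L' ≪≫ L'.leftUnitor
  exact ⟨Functor.Full.of_iso e', Functor.Faithful.of_iso e'⟩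

theorem isEquivalence_of_square [E₁.IsEquivalence] [E₂.IsEquivalence] (e : L ⋙ E₂ ≅ E₁ ⋙ L')
    [L.IsEquivalence] : L'.IsEquivalence := by
  have e' : E₁.inv ⋙ L ⋙ E₂ ≅ L' :=
    isoWhiskerLeft E₁.inv e ≪≫ (Functor.associator _ _ _).symm ≪≫
      isoWhiskerRight E₁.asEquivalence.counitIso L' ≪≫ L'.leftUnitor
  exact Functor.isEquivalence_of_iso e'

end General

variable {𝒳 : BasedCategory.{v₂, u₂} C} {𝒴 : BasedCategory.{v₃, u₃} C}

/-- postcomposition with `F`, on functors over `C` from `𝒜` -/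
def post (𝒜 : BasedCategory.{v₄, u₄} C) (F : 𝒳 ⥤ᵇ 𝒴) : (𝒜 ⥤ᵇ 𝒳) ⥤ (𝒜 ⥤ᵇ 𝒴) where
  obj G := BasedFunctor.comp G F
  map α := BasedCategory.whiskerRight α F
  map_id G := by
    apply natTrans_ext
    intro a
    exact F.map_id _
  map_comp α β := by
    apply natTrans_ext
    intro a
    exact F.map_comp _ _

@[simp] theorem post_map_app (𝒜 : BasedCategory.{v₄, u₄} C) (F : 𝒳 ⥤ᵇ 𝒴) {G H : 𝒜 ⥤ᵇ 𝒳} (α : G ⟶ H) (a : 𝒜.obj) :
    ((post 𝒜 F).map α).toNatTrans.app a = F.map (α.toNatTrans.app a) := rfl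

/-- if `F ⋙ G ≅ 𝟭` over `C` then postcomposition satisfies the same -/
def postIso (𝒜 : BasedCategory.{v₄, u₄} C) (F : 𝒳 ⥤ᵇ 𝒴) (G : 𝒴 ⥤ᵇ 𝒳)
    (e : BasedFunctor.comp F G ≅ BasedFunctor.id 𝒳) : post 𝒜 F ⋙ post 𝒜 G ≅ 𝟭 (𝒜 ⥤ᵇ 𝒳) :=
  NatIso.ofComponents
    (fun H =>
      { hom := BasedCategory.whiskerLeft H e.hom
        inv := BasedCategory.whiskerLeft H e.inv
        hom_inv_id := by
          apply natTrans_ext
          intro a
          exact congrArg (fun t => t.toNatTrans.app (H.obj a)) e.hom_inv_id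
        inv_hom_id := by
          apply natTrans_ext
          intro a
          exact congrArg (fun t => t.toNatTrans.app (H.obj a)) e.inv_hom_id })
    (fun {H K} α => by
      apply natTrans_ext
      intro a
      exact e.hom.toNatTrans.naturality (α.toNatTrans.app a))

theorem post_isEquivalence (𝒜 : BasedCategory.{v₄, u₄} C) {F : 𝒳 ⥤ᵇ 𝒴} (hF : FibCat.IsEquivOver F) :
    (post 𝒜 F).IsEquivalence := by
  obtain ⟨G, ⟨e⟩, ⟨e'⟩⟩ := hF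
  exact (CategoryTheory.Equivalence.mk (post 𝒜 F) (post 𝒜 G) (postIso 𝒜 F G e).symm
    (postIso 𝒜 G F e')).isEquivalence_functor

theorem isEquivOver_symm {F : 𝒳 ⥤ᵇ 𝒴} (hF : FibCat.IsEquivOver F) :
    ∃ G : 𝒴 ⥤ᵇ 𝒳, FibCat.IsEquivOver G := by
  obtain ⟨G, e, e'⟩ := hF
  exact ⟨G, F, e', e⟩

theorem isPrestackFor_of_isEquivOver {F : 𝒳 ⥤ᵇ 𝒴} (hF : FibCat.IsEquivOver F) {U : C} {R : Sieve U}
    (h : Stk.IsPrestackFor R 𝒳) : Stk.IsPrestackFor R 𝒴 := by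
  have h1 := post_isEquivalence (FibCat.overCat U) hF
  have h2 := post_isEquivalence (Stk.sieveCat R) hF
  exact full_faithful_of_square (L := Stk.resSieve R 𝒳) (L' := Stk.resSieve R 𝒴)
    (E₁ := post (FibCat.overCat U) F) (E₂ := post (Stk.sieveCat R) F) (Iso.refl _) h

theorem isStackFor_of_isEquivOver {F : 𝒳 ⥤ᵇ 𝒴} (hF : FibCat.IsEquivOver F) {U : C} {R : Sieve U}
    (h : Stk.IsStackFor R 𝒳) : Stk.IsStackFor R 𝒴 := by
  have h1 := post_isEquivalence (FibCat.overCat U) hF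
  have h2 := post_isEquivalence (Stk.sieveCat R) hF
  have h3 : (Stk.resSieve R 𝒳).IsEquivalence := h
  exact isEquivalence_of_square (L := Stk.resSieve R 𝒳) (L' := Stk.resSieve R 𝒴)
    (E₁ := post (FibCat.overCat U) F) (E₂ := post (Stk.sieveCat R) F) (Iso.refl _)

/-- the underlying functor of an equivalence over `C` is an equivalence -/
theorem isEquivalence_toFunctor {F : 𝒳 ⥤ᵇ 𝒴} (hF : FibCat.IsEquivOver F) : F.toFunctor.IsEquivalence := by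
  obtain ⟨G, ⟨e⟩, ⟨e'⟩⟩ := hF
  exact (CategoryTheory.Equivalence.mk F.toFunctor G.toFunctor
    ((BasedNatTrans.forgetful _ _).mapIso e).symm
    ((BasedNatTrans.forgetful _ _).mapIso e')).isEquivalence_functor

/-- being fibred in groupoids is invariant under equivalence over `C` -/
theorem isFibGrpd_of_isEquivOver {F : 𝒳 ⥤ᵇ 𝒴} (hF : FibCat.IsEquivOver F) (h𝒳 : FibCat.IsFibGrpd 𝒳.p) :
    FibCat.IsFibGrpd 𝒴.p := by
  obtain ⟨G, hG⟩ := isEquivOver_symm hF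
  have hFe := isEquivalence_toFunctor hF
  have hGe := isEquivalence_toFunctor hG
  obtain ⟨G', ⟨e⟩, ⟨e'⟩⟩ := hF
  refine ⟨fun {y V} f => ?_, fun {y' y} φ => ⟨?_⟩⟩
  · have hy : 𝒳.p.obj (G'.obj y) = 𝒴.p.obj y := G'.w_obj y
    obtain ⟨x, a, ha⟩ := exists_lift h𝒳 hy f
    have h1 : 𝒴.p.IsHomLift f (F.map a) := BasedFunctor.preserves_isHomLift F f a
    have h2 : 𝒴.p.IsHomLift (𝟙 (𝒴.p.obj y)) (e'.hom.toNatTrans.app y) := e'.hom.isHomLift' y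
    exact ⟨F.obj x, F.map a ≫ e'.hom.toNatTrans.app y, IsHomLift.comp_lift_id_right 𝒴.p f _ _⟩
  · intro z g ψ hψ
    have h1 : 𝒳.p.IsHomLift (𝒴.p.map φ) (G.map φ) := BasedFunctor.preserves_isHomLift G _ φ
    have h2 : 𝒳.p.IsHomLift (g ≫ 𝒴.p.map φ) (G.map ψ) := BasedFunctor.preserves_isHomLift G _ ψ
    obtain ⟨χ, ⟨hχ, eχ⟩, uχ⟩ := existsUnique_factor h𝒳 g rfl (G.map φ) (G.map ψ) h1 h2
    obtain ⟨χ', rfl⟩ := G.toFunctor.map_surjective χ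
    refine ⟨χ', ⟨(BasedFunctor.isHomLift_iff G g χ').1 hχ, G.toFunctor.map_injective (by
      rw [G.toFunctor.map_comp]; exact eχ)⟩, ?_⟩
    rintro χ'' ⟨h3, h4⟩
    exact G.toFunctor.map_injective (uχ (G.map χ'') ⟨BasedFunctor.preserves_isHomLift G _ χ'', by
      rw [← h4]; exact (G.toFunctor.map_comp _ _).symm⟩)

theorem isPrestack_of_isEquivOver {J : GrothendieckTopology C} {F : 𝒳 ⥤ᵇ 𝒴} (hF : FibCat.IsEquivOver F)
    (h : Stk.IsPrestack J 𝒳) : Stk.IsPrestack J 𝒴 :=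
  ⟨isFibGrpd_of_isEquivOver hF h.1, fun _ R hR => isPrestackFor_of_isEquivOver hF (h.2 R hR)⟩

theorem isStack_of_isEquivOver {J : GrothendieckTopology C} {F : 𝒳 ⥤ᵇ 𝒴} (hF : FibCat.IsEquivOver F)
    (h : Stk.IsStack J 𝒳) : Stk.IsStack J 𝒴 :=
  ⟨isFibGrpd_of_isEquivOver hF h.1, fun _ R hR => isStackFor_of_isEquivOver hF (h.2 R hR)⟩

theorem isPrestack_iff_of_isEquivOver {J : GrothendieckTopology C} {F : 𝒳 ⥤ᵇ 𝒴} (hF : FibCat.IsEquivOver F) :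
    Stk.IsPrestack J 𝒳 ↔ Stk.IsPrestack J 𝒴 := by
  obtain ⟨G, hG⟩ := isEquivOver_symm hF
  exact ⟨isPrestack_of_isEquivOver hF, isPrestack_of_isEquivOver hG⟩

theorem isStack_iff_of_isEquivOver {J : GrothendieckTopology C} {F : 𝒳 ⥤ᵇ 𝒴} (hF : FibCat.IsEquivOver F) :
    Stk.IsStack J 𝒳 ↔ Stk.IsStack J 𝒴 := by
  obtain ⟨G, hG⟩ := isEquivOver_symm hF
  exact ⟨isStack_of_isEquivOver hF, isStack_of_isEquivOver hG⟩

/-- `IsFibSetoid` in elementary form -/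
theorem isFibSetoid_iff (h𝒳 : FibCat.IsFibGrpd 𝒳.p) :
    FibCat.IsFibSetoid 𝒳.p ↔ ∀ ⦃x y : 𝒳.obj⦄ (a b : x ⟶ y), 𝒳.p.map a = 𝒳.p.map b → a = b := by
  constructor
  · rintro ⟨-, h⟩ x y a b e
    -- reduce to an automorphism
    obtain ⟨c, hc, ec⟩ := exists_factor_map h𝒳 b a (𝟙 (𝒳.p.obj x)) (by rw [Category.id_comp, e])
    have h1 : 𝒳.p.IsHomLift (𝟙 (𝒳.p.obj x)) c := isHomLift_of_map_eq c hc
    let X : 𝒳.p.Fiber (𝒳.p.obj x) := ⟨x, rfl⟩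
    let c' : X ⟶ X := ⟨c, h1⟩
    have h2 : c' = 𝟙 X := (h (𝒳.p.obj x) X X).elim _ _
    have h3 : c = 𝟙 x := congrArg (fun t : X ⟶ X => t.1) h2
    rw [← ec, h3, Category.id_comp]
  · intro h
    refine ⟨h𝒳, fun U X Y => ⟨fun a b => ?_⟩⟩
    have ha := a.2
    have hb := b.2
    apply Subtype.ext
    refine h _ _ ?_
    rw [IsHomLift.fac' 𝒳.p (𝟙 U) a.1, IsHomLift.fac' 𝒳.p (𝟙 U) b.1]

/-- being fibred in setoids is invariant under equivalence over `C` -/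
theorem isFibSetoid_of_isEquivOver {F : 𝒳 ⥤ᵇ 𝒴} (hF : FibCat.IsEquivOver F) (h𝒳 : FibCat.IsFibSetoid 𝒳.p) :
    FibCat.IsFibSetoid 𝒴.p := by
  have h1 := isFibGrpd_of_isEquivOver hF h𝒳.1
  obtain ⟨G, hG⟩ := isEquivOver_symm hF
  have hGe := isEquivalence_toFunctor hG
  rw [isFibSetoid_iff h1]
  intro x y a b e
  apply G.toFunctor.map_injective
  refine (isFibSetoid_iff h𝒳.1).1 h𝒳 _ _ ?_
  have h2 : 𝒳.p.IsHomLift (𝒴.p.map a) (G.map a) := BasedFunctor.preserves_isHomLift G _ a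
  have h3 : 𝒳.p.IsHomLift (𝒴.p.map a) (G.map b) := by
    rw [e]; exact BasedFunctor.preserves_isHomLift G _ b
  exact (IsHomLift.fac' 𝒳.p (𝒴.p.map a) (G.map a)).trans (IsHomLift.fac' 𝒳.p (𝒴.p.map a) (G.map b)).symm

theorem isFibSetoid_iff_of_isEquivOver {F : 𝒳 ⥤ᵇ 𝒴} (hF : FibCat.IsEquivOver F) :
    FibCat.IsFibSetoid 𝒳.p ↔ FibCat.IsFibSetoid 𝒴.p := by
  obtain ⟨G, hG⟩ := isEquivOver_symm hF
  exact ⟨isFibSetoid_of_isEquivOver hF, isFibSetoid_of_isEquivOver hG⟩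

end K751.Inv
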