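import Groth.Agent.Stk.K751.Inv

/-!
# The 2-fibre product of stacks is a stack (seat 751)
-/

set_option autoImplicit false
set_option backward.isDefEq.respectTransparency false
set_option backward.isDefEq.respectTransparency.types false

universe v₆ u₆ v₅ u₅ v₄ u₄ v₃ u₃ v₂ u₂ v u

open CategoryTheory CategoryTheory.Limits Functor K751.FG K751.Test FibCat

namespace K751.Fp

variable {C : Type u} [Category.{v} C]
  {𝒳 : BasedCategory.{v₂, u₂} C} {𝒴 : BasedCategory.{v₃, u₃} C} {𝒮 : BasedCategory.{v₄, u₄} C}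
  (F : 𝒳 ⥤ᵇ 𝒮) (G : 𝒴 ⥤ᵇ 𝒮)

/-- objects of the 2-fibre product -/
def mkObj (x : 𝒳.obj) (y : 𝒴.obj) (e : F.obj x ≅ G.obj y) (he : 𝒮.p.IsHomLift (𝟙 (𝒳.p.obj x)) e.hom) :
    (fp F G).obj :=
  ⟨{ fst := x, snd := y, iso := e }, he⟩

variable {F G}

@[simp] theorem mkObj_fst (x : 𝒳.obj) (y : 𝒴.obj) (e : F.obj x ≅ G.obj y) (he) :
    (mkObj F G x y e he).obj.fst = x := rfl
@[simp] theorem mkObj_snd (x : 𝒳.obj) (y : 𝒴.obj) (e : F.obj x ≅ G.obj y) (he) :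
    (mkObj F G x y e he).obj.snd = y := rfl
@[simp] theorem mkObj_iso (x : 𝒳.obj) (y : 𝒴.obj) (e : F.obj x ≅ G.obj y) (he) :
    (mkObj F G x y e he).obj.iso = e := rfl

/-- morphisms of the 2-fibre product -/
def mkHom {X Y : (fp F G).obj} (a : X.obj.fst ⟶ Y.obj.fst) (b : X.obj.snd ⟶ Y.obj.snd)
    (w : F.map a ≫ Y.obj.iso.hom = X.obj.iso.hom ≫ G.map b) : X ⟶ Y :=
  ObjectProperty.homMk { fst := a, snd := b, w := w }

@[simp] theorem mkHom_fst {X Y : (fp F G).obj} (a : X.obj.fst ⟶ Y.obj.fst) (b : X.obj.snd ⟶ Y.obj.snd) (w) :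
    (mkHom (X := X) (Y := Y) a b w).hom.fst = a := rfl
@[simp] theorem mkHom_snd {X Y : (fp F G).obj} (a : X.obj.fst ⟶ Y.obj.fst) (b : X.obj.snd ⟶ Y.obj.snd) (w) :
    (mkHom (X := X) (Y := Y) a b w).hom.snd = b := rfl

theorem hom_ext {X Y : (fp F G).obj} {f g : X ⟶ Y} (h₁ : f.hom.fst = g.hom.fst) (h₂ : f.hom.snd = g.hom.snd) :
    f = g :=
  ObjectProperty.hom_ext _ (CategoricalPullback.hom_ext h₁ h₂)

@[simp] theorem comp_fst {X Y Z : (fp F G).obj} (f : X ⟶ Y) (g : Y ⟶ Z) :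
    (f ≫ g).hom.fst = f.hom.fst ≫ g.hom.fst := rfl
@[simp] theorem comp_snd {X Y Z : (fp F G).obj} (f : X ⟶ Y) (g : Y ⟶ Z) :
    (f ≫ g).hom.snd = f.hom.snd ≫ g.hom.snd := rfl
@[simp] theorem id_fst (X : (fp F G).obj) : (𝟙 X : X ⟶ X).hom.fst = 𝟙 _ := rfl
@[simp] theorem id_snd (X : (fp F G).obj) : (𝟙 X : X ⟶ X).hom.snd = 𝟙 _ := rfl

theorem hom_w {X Y : (fp F G).obj} (f : X ⟶ Y) :
    F.map f.hom.fst ≫ Y.obj.iso.hom = X.obj.iso.hom ≫ G.map f.hom.snd := f.hom.w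

theorem snd_obj (X : (fp F G).obj) : 𝒴.p.obj X.obj.snd = 𝒳.p.obj X.obj.fst := (fpSnd F G).w_obj X

theorem isHomLift_iff {X Y : (fp F G).obj} {U V : C} (f : V ⟶ U) (a : X ⟶ Y) :
    (fp F G).p.IsHomLift f a ↔ 𝒳.p.IsHomLift f a.hom.fst :=
  (BasedFunctor.isHomLift_iff (fpFst F G) f a).symm

theorem isHomLift_snd {X Y : (fp F G).obj} {U V : C} (f : V ⟶ U) (a : X ⟶ Y) (h : 𝒳.p.IsHomLift f a.hom.fst) :
    𝒴.p.IsHomLift f a.hom.snd := by
  have h1 : (fp F G).p.IsHomLift f a := (isHomLift_iff f a).2 h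
  exact BasedFunctor.preserves_isHomLift (fpSnd F G) f a

theorem iso_lift (X : (fp F G).obj) : 𝒮.p.IsHomLift (𝟙 (𝒳.p.obj X.obj.fst)) X.obj.iso.hom := X.property

/-- lifting of a pair of lifts to the 2-fibre product -/
theorem exists_hom_of_lifts (h𝒮 : IsFibGrpd 𝒮.p) (X : (fp F G).obj) {x : 𝒳.obj} {y : 𝒴.obj} {V : C}
    (f : V ⟶ 𝒳.p.obj X.obj.fst) (a : x ⟶ X.obj.fst) (b : y ⟶ X.obj.snd) (ha : 𝒳.p.IsHomLift f a)
    (hb : 𝒴.p.IsHomLift f b) :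
    ∃ (e : F.obj x ≅ G.obj y) (_ : 𝒮.p.IsHomLift (𝟙 (𝒳.p.obj x)) e.hom),
      F.map a ≫ X.obj.iso.hom = e.hom ≫ G.map b := by
  have hx : 𝒳.p.obj x = V := IsHomLift.domain_eq 𝒳.p f a
  subst hx
  have h1 := iso_lift X
  obtain ⟨c, hc, ec⟩ := exists_factor h𝒮 (𝟙 (𝒳.p.obj x)) (Category.id_comp f) (G.map b)
    (F.map a ≫ X.obj.iso.hom) (BasedFunctor.preserves_isHomLift G f b) (IsHomLift.comp_lift_id_right 𝒮.p f _ _)
  have := isIso_of_lift_id h𝒮 c hc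
  exact ⟨asIso c, hc, ec.symm⟩

/-- the 2-fibre product of categories fibred in groupoids is fibred in groupoids -/
theorem isFibGrpd_fp (h𝒳 : IsFibGrpd 𝒳.p) (h𝒴 : IsFibGrpd 𝒴.p) (h𝒮 : IsFibGrpd 𝒮.p) :
    IsFibGrpd (fp F G).p := by
  refine ⟨fun {X V} f => ?_, fun {Y X} φ => ⟨fun {Z} g ψ hψ => ?_⟩⟩
  · obtain ⟨x, a, ha⟩ := h𝒳.exists_lift f
    obtain ⟨y, b, hb⟩ := exists_lift h𝒴 (snd_obj X) f
    obtain ⟨e, he, w⟩ := exists_hom_of_lifts h𝒮 X f a b ha hb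
    exact ⟨mkObj F G x y e he, mkHom a b w, (isHomLift_iff f _).2 ha⟩
  · have hφ1 : 𝒳.p.IsHomLift ((fp F G).p.map φ) φ.hom.fst := (isHomLift_iff _ φ).1 inferInstance
    have hφ2 := isHomLift_snd _ φ hφ1
    have hψ1 : 𝒳.p.IsHomLift (g ≫ (fp F G).p.map φ) ψ.hom.fst := (isHomLift_iff _ ψ).1 inferInstance
    have hψ2 := isHomLift_snd _ ψ hψ1
    obtain ⟨a, ⟨ha, ea⟩, ua⟩ := existsUnique_factor h𝒳 g rfl φ.hom.fst ψ.hom.fst hφ1 hψ1
    obtain ⟨b, ⟨hb, eb⟩, ub⟩ := existsUnique_factor h𝒴 g rfl φ.hom.snd ψ.hom.snd hφ2 hψ2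
    have w : F.map a ≫ Y.obj.iso.hom = Z.obj.iso.hom ≫ G.map b := by
      have h1 : 𝒮.p.IsHomLift (𝟙 ((fp F G).p.obj Y)) Y.obj.iso.hom := iso_lift Y
      have h2 : 𝒮.p.IsHomLift (𝟙 ((fp F G).p.obj Z)) Z.obj.iso.hom := iso_lift Z
      have h3 : 𝒮.p.IsHomLift g (F.map a) := BasedFunctor.preserves_isHomLift F g a
      have h4 : 𝒮.p.IsHomLift g (G.map b) := BasedFunctor.preserves_isHomLift G g b
      refine cancel' h𝒮 g (G.map φ.hom.snd) (IsHomLift.comp_lift_id_right 𝒮.p g _ _)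
        (IsHomLift.comp_lift_id_left 𝒮.p g _ _) ?_
      rw [Category.assoc, Category.assoc, ← hom_w φ, ← G.map_comp, eb, ← hom_w ψ, ← ea, ← F.map_comp_assoc]
    refine ⟨mkHom a b w, ⟨(isHomLift_iff g _).2 ha, hom_ext ea eb⟩, ?_⟩
    rintro χ ⟨hχ, eχ⟩
    have h1 := (isHomLift_iff g χ).1 hχ
    exact hom_ext (ua _ ⟨h1, congrArg (fun t => t.hom.fst) eχ⟩)
      (ub _ ⟨isHomLift_snd g χ h1, congrArg (fun t => t.hom.snd) eχ⟩)

section Pair

variable {𝒜 : BasedCategory.{v₅, u₅} C} {P Q : 𝒜 ⥤ᵇ fp F G}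

/-- the first component of a functor to the 2-fibre product -/
abbrev pr1 (P : 𝒜 ⥤ᵇ fp F G) : 𝒜 ⥤ᵇ 𝒳 := BasedFunctor.comp P (fpFst F G)
/-- the second component -/
abbrev pr2 (P : 𝒜 ⥤ᵇ fp F G) : 𝒜 ⥤ᵇ 𝒴 := BasedFunctor.comp P (fpSnd F G)

/-- the 2-cell of a functor to the 2-fibre product -/
def cell (P : 𝒜 ⥤ᵇ fp F G) : BasedFunctor.comp (pr1 P) F ⟶ BasedFunctor.comp (pr2 P) G :=
  BasedCategory.whiskerLeft P (fpIso F G).hom

@[simp] theorem cell_app (P : 𝒜 ⥤ᵇ fp F G) (a : 𝒜.obj) : (cell P).toNatTrans.app a = (P.obj a).obj.iso.hom := rfl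

/-- 2-morphisms into functors to a 2-fibre product, from their two components -/
def pairNat (α : pr1 P ⟶ pr1 Q) (β : pr2 P ⟶ pr2 Q)
    (w : BasedCategory.whiskerRight α F ≫ cell Q = cell P ≫ BasedCategory.whiskerRight β G) : P ⟶ Q :=
  mkNatTrans (fun a => mkHom (α.toNatTrans.app a) (β.toNatTrans.app a) (natTrans_app_eq w a))
    (fun a => (isHomLift_iff _ _).2 (α.isHomLift' a))
    (fun f => hom_ext (nat α f) (nat β f))

@[simp] theorem pairNat_app_fst (α : pr1 P ⟶ pr1 Q) (β : pr2 P ⟶ pr2 Q) (w) (a : 𝒜.obj) :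
    ((pairNat α β w).toNatTrans.app a).hom.fst = α.toNatTrans.app a := rfl
@[simp] theorem pairNat_app_snd (α : pr1 P ⟶ pr1 Q) (β : pr2 P ⟶ pr2 Q) (w) (a : 𝒜.obj) :
    ((pairNat α β w).toNatTrans.app a).hom.snd = β.toNatTrans.app a := rfl

/-- 2-isomorphisms from their two components -/
def pairIso (α : pr1 P ≅ pr1 Q) (β : pr2 P ≅ pr2 Q)
    (w : BasedCategory.whiskerRight α.hom F ≫ cell Q = cell P ≫ BasedCategory.whiskerRight β.hom G) :
    P ≅ Q where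
  hom := pairNat α.hom β.hom w
  inv := pairNat α.inv β.inv (by
    apply natTrans_ext
    intro a
    have h := natTrans_app_eq w a
    have h1 : F.map (α.inv.toNatTrans.app a) ≫ F.map (α.hom.toNatTrans.app a) = 𝟙 _ := by
      rw [← F.map_comp]
      exact (congrArg F.map (natTrans_app_eq α.inv_hom_id a)).trans (F.map_id _)
    have h2 : G.map (β.hom.toNatTrans.app a) ≫ G.map (β.inv.toNatTrans.app a) = 𝟙 _ := by
      rw [← G.map_comp]
      exact (congrArg G.map (natTrans_app_eq β.hom_inv_id a)).trans (G.map_id _)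
    have h : F.map (α.hom.toNatTrans.app a) ≫ (Q.obj a).obj.iso.hom =
      (P.obj a).obj.iso.hom ≫ G.map (β.hom.toNatTrans.app a) := h
    change F.map (α.inv.toNatTrans.app a) ≫ (P.obj a).obj.iso.hom =
      (Q.obj a).obj.iso.hom ≫ G.map (β.inv.toNatTrans.app a)
    calc F.map (α.inv.toNatTrans.app a) ≫ (P.obj a).obj.iso.hom
        = F.map (α.inv.toNatTrans.app a) ≫ (P.obj a).obj.iso.hom ≫
          (G.map (β.hom.toNatTrans.app a) ≫ G.map (β.inv.toNatTrans.app a)) := by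
            rw [h2]
            exact (congrArg (F.map (α.inv.toNatTrans.app a) ≫ ·) (Category.comp_id _).symm)
      _ = (F.map (α.inv.toNatTrans.app a) ≫ F.map (α.hom.toNatTrans.app a)) ≫ (Q.obj a).obj.iso.hom ≫
          G.map (β.inv.toNatTrans.app a) := by
            simp only [Category.assoc]
            rw [reassoc_of% h]
      _ = _ := by
            rw [h1]
            exact Category.id_comp _)
  hom_inv_id := by
    apply natTrans_ext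
    intro a
    exact hom_ext (natTrans_app_eq α.hom_inv_id a) (natTrans_app_eq β.hom_inv_id a)
  inv_hom_id := by
    apply natTrans_ext
    intro a
    exact hom_ext (natTrans_app_eq α.inv_hom_id a) (natTrans_app_eq β.inv_hom_id a)

end Pair

/-- morphisms glue in the 2-fibre product -/
theorem isPrestackFor_fp {U : C} {R : Sieve U} (h𝒳 : Stk.IsPrestackFor R 𝒳) (h𝒴 : Stk.IsPrestackFor R 𝒴)
    (h𝒮 : (Stk.resSieve R 𝒮).Faithful) : Stk.IsPrestackFor R (fp F G) := by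
  obtain ⟨h1, h2⟩ := h𝒳
  obtain ⟨h3, h4⟩ := h𝒴
  constructor
  · refine ⟨fun {P Q} α => ?_⟩
    obtain ⟨β₁, e₁⟩ := (Stk.resSieve R 𝒳).map_surjective (X := pr1 P) (Y := pr1 Q)
      (BasedCategory.whiskerRight α (fpFst F G) : pr1 ((Stk.resSieve R (fp F G)).obj P) ⟶
        pr1 ((Stk.resSieve R (fp F G)).obj Q))
    obtain ⟨β₂, e₂⟩ := (Stk.resSieve R 𝒴).map_surjective (X := pr2 P) (Y := pr2 Q)
      (BasedCategory.whiskerRight α (fpSnd F G) : pr2 ((Stk.resSieve R (fp F G)).obj P) ⟶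
        pr2 ((Stk.resSieve R (fp F G)).obj Q))
    have w : BasedCategory.whiskerRight β₁ F ≫ cell Q = cell P ≫ BasedCategory.whiskerRight β₂ G := by
      apply (Stk.resSieve R 𝒮).map_injective
      apply natTrans_ext
      intro a
      have f₁ : β₁.toNatTrans.app a.obj = (α.toNatTrans.app a).hom.fst := natTrans_app_eq e₁ a
      have f₂ : β₂.toNatTrans.app a.obj = (α.toNatTrans.app a).hom.snd := natTrans_app_eq e₂ a
      change F.map (β₁.toNatTrans.app a.obj) ≫ (Q.obj a.obj).obj.iso.hom =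
        (P.obj a.obj).obj.iso.hom ≫ G.map (β₂.toNatTrans.app a.obj)
      rw [f₁, f₂]
      exact hom_w (α.toNatTrans.app a)
    refine ⟨pairNat β₁ β₂ w, ?_⟩
    apply natTrans_ext
    intro a
    exact hom_ext (natTrans_app_eq e₁ a) (natTrans_app_eq e₂ a)
  · refine ⟨fun {P Q} α β e => ?_⟩
    have e₁ : (BasedCategory.whiskerRight α (fpFst F G) : pr1 P ⟶ pr1 Q) =
        BasedCategory.whiskerRight β (fpFst F G) := by
      apply (Stk.resSieve R 𝒳).map_injective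
      apply natTrans_ext
      intro a
      exact congrArg (fun t => t.hom.fst) (natTrans_app_eq e a)
    have e₂ : (BasedCategory.whiskerRight α (fpSnd F G) : pr2 P ⟶ pr2 Q) =
        BasedCategory.whiskerRight β (fpSnd F G) := by
      apply (Stk.resSieve R 𝒴).map_injective
      apply natTrans_ext
      intro a
      exact congrArg (fun t => t.hom.snd) (natTrans_app_eq e a)
    apply natTrans_ext
    intro a
    exact hom_ext (natTrans_app_eq e₁ a) (natTrans_app_eq e₂ a)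

/-- objects and morphisms glue in the 2-fibre product -/
theorem isStackFor_fp {U : C} {R : Sieve U} (h𝒳 : Stk.IsStackFor R 𝒳) (h𝒴 : Stk.IsStackFor R 𝒴)
    (h𝒮 : Stk.IsPrestackFor R 𝒮) : Stk.IsStackFor R (fp F G) := by
  have h1 : (Stk.resSieve R 𝒳).IsEquivalence := h𝒳
  have h2 : (Stk.resSieve R 𝒴).IsEquivalence := h𝒴
  have h3 := h𝒮.1
  have h4 := h𝒮.2
  obtain ⟨h5, h6⟩ := isPrestackFor_fp (F := F) (G := G) (R := R) ⟨inferInstance, inferInstance⟩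
    ⟨inferInstance, inferInstance⟩ h4
  refine { faithful := h6, full := h5, essSurj := ⟨fun D => ?_⟩ }
  let G₁ := (Stk.resSieve R 𝒳).objPreimage (pr1 D)
  let e₁ : (Stk.resSieve R 𝒳).obj G₁ ≅ pr1 D := (Stk.resSieve R 𝒳).objObjPreimageIso (pr1 D)
  let G₂ := (Stk.resSieve R 𝒴).objPreimage (pr2 D)
  let e₂ : (Stk.resSieve R 𝒴).obj G₂ ≅ pr2 D := (Stk.resSieve R 𝒴).objObjPreimageIso (pr2 D)
  let c : BasedFunctor.comp (pr1 D) F ≅ BasedFunctor.comp (pr2 D) G :=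
    ⟨BasedCategory.whiskerLeft D (fpIso F G).hom, BasedCategory.whiskerLeft D (fpIso F G).inv,
      natTrans_ext fun a => natTrans_app_eq (fpIso F G).hom_inv_id (D.obj a),
      natTrans_ext fun a => natTrans_app_eq (fpIso F G).inv_hom_id (D.obj a)⟩
  let e₀ : (Stk.resSieve R 𝒮).obj (BasedFunctor.comp G₁ F) ≅ (Stk.resSieve R 𝒮).obj (BasedFunctor.comp G₂ G) :=
    (K751.Inv.post _ F).mapIso e₁ ≪≫ c ≪≫ ((K751.Inv.post _ G).mapIso e₂).symm
  let e : BasedFunctor.comp G₁ F ≅ BasedFunctor.comp G₂ G := (Stk.resSieve R 𝒮).preimageIso e₀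
  have he : (Stk.resSieve R 𝒮).map e.hom = e₀.hom := (Stk.resSieve R 𝒮).map_preimage _
  refine ⟨fpLift G₁ G₂ e, ⟨pairIso e₁ e₂ ?_⟩⟩
  apply natTrans_ext
  intro a
  have h7 : e.hom.toNatTrans.app a.obj = F.map (e₁.hom.toNatTrans.app a) ≫ (D.obj a).obj.iso.hom ≫
      G.map (e₂.inv.toNatTrans.app a) := natTrans_app_eq he a
  have h8 : G.map (e₂.inv.toNatTrans.app a) ≫ G.map (e₂.hom.toNatTrans.app a) = 𝟙 _ := by
    rw [← G.map_comp]
    exact (congrArg G.map (natTrans_app_eq e₂.inv_hom_id a)).trans (G.map_id _)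
  change F.map (e₁.hom.toNatTrans.app a) ≫ (D.obj a).obj.iso.hom =
    e.hom.toNatTrans.app a.obj ≫ G.map (e₂.hom.toNatTrans.app a)
  rw [h7, Category.assoc, Category.assoc, h8]
  congr 1
  exact (Category.comp_id _).symm

/-- the 2-fibre product of two stacks over a prestack is a stack -/
theorem isStack_fp {J : GrothendieckTopology C} (h𝒳 : Stk.IsStack J 𝒳) (h𝒴 : Stk.IsStack J 𝒴)
    (h𝒮 : Stk.IsPrestack J 𝒮) : Stk.IsStack J (fp F G) :=
  ⟨isFibGrpd_fp h𝒳.1 h𝒴.1 h𝒮.1, fun _ R hR => isStackFor_fp (h𝒳.2 R hR) (h𝒴.2 R hR) (h𝒮.2 R hR)⟩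

theorem isPrestack_fp {J : GrothendieckTopology C} (h𝒳 : Stk.IsPrestack J 𝒳) (h𝒴 : Stk.IsPrestack J 𝒴)
    (h𝒮 : Stk.IsPrestack J 𝒮) : Stk.IsPrestack J (fp F G) :=
  ⟨isFibGrpd_fp h𝒳.1 h𝒴.1 h𝒮.1, fun _ R hR => isPrestackFor_fp (h𝒳.2 R hR) (h𝒴.2 R hR) (h𝒮.2 R hR).2⟩

/-- the 2-fibre product of categories fibred in setoids is fibred in setoids -/
theorem isFibSetoid_fp (h𝒳 : IsFibSetoid 𝒳.p) (h𝒴 : IsFibSetoid 𝒴.p) (h𝒮 : IsFibGrpd 𝒮.p) :
    IsFibSetoid (fp F G).p := by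
  rw [K751.Inv.isFibSetoid_iff (isFibGrpd_fp h𝒳.1 h𝒴.1 h𝒮)]
  intro X Y a b e
  have h1 : 𝒳.p.map a.hom.fst = 𝒳.p.map b.hom.fst := e
  have h2 := isHomLift_snd _ a (inferInstance : 𝒳.p.IsHomLift (𝒳.p.map a.hom.fst) a.hom.fst)
  have h3 := isHomLift_snd _ b (inferInstance : 𝒳.p.IsHomLift (𝒳.p.map b.hom.fst) b.hom.fst)
  rw [← h1] at h3
  refine hom_ext ((K751.Inv.isFibSetoid_iff h𝒳.1).1 h𝒳 _ _ h1)
    ((K751.Inv.isFibSetoid_iff h𝒴.1).1 h𝒴 _ _ ?_)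
  rw [IsHomLift.fac' 𝒴.p (𝒳.p.map a.hom.fst) a.hom.snd, IsHomLift.fac' 𝒴.p (𝒳.p.map a.hom.fst) b.hom.snd]

end K751.Fp
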