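import Groth.Agent.Stk.K751.OfPsh

/-!
# Fully faithful functors over `C` and stacks (seat 751)
-/

set_option autoImplicit false
set_option backward.isDefEq.respectTransparency false
set_option backward.isDefEq.respectTransparency.types false

universe w v₄ u₄ v₃ u₃ v₂ u₂ v u

open CategoryTheory Functor K751.FG K751.Test K751.Inv FibCat

namespace K751.FF

variable {C : Type u} [Category.{v} C] {𝒳 : BasedCategory.{v₂, u₂} C} {𝒴 : BasedCategory.{v₃, u₃} C}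

section Post

variable (𝒜 : BasedCategory.{v₄, u₄} C) (F : 𝒳 ⥤ᵇ 𝒴)

theorem post_faithful [F.toFunctor.Faithful] : (post 𝒜 F).Faithful :=
  ⟨fun e => natTrans_ext fun a => F.toFunctor.map_injective (natTrans_app_eq e a)⟩

theorem post_full [F.toFunctor.Full] [F.toFunctor.Faithful] : (post 𝒜 F).Full := by
  refine ⟨fun {G H} α => ?_⟩
  have h1 : ∀ a, ∃ b : G.obj a ⟶ H.obj a, F.map b = α.toNatTrans.app a := fun a =>
    F.toFunctor.map_surjective _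
  choose b hb using h1
  refine ⟨mkNatTrans b (fun a => ?_) (fun {a a'} f => ?_), natTrans_ext hb⟩
  · rw [← BasedFunctor.isHomLift_iff F, hb]
    exact α.isHomLift' a
  · apply F.toFunctor.map_injective
    rw [F.toFunctor.map_comp, F.toFunctor.map_comp]
    change F.map (G.map f) ≫ F.map (b a') = F.map (b a) ≫ F.map (H.map f)
    rw [hb, hb]
    exact nat α f

end Post

/-- morphisms glue in the source of a fully faithful functor if they do in the target -/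
theorem isPrestackFor_of_ff (F : 𝒳 ⥤ᵇ 𝒴) [F.toFunctor.Full] [F.toFunctor.Faithful] {U : C} {R : Sieve U}
    (h : Stk.IsPrestackFor R 𝒴) : Stk.IsPrestackFor R 𝒳 := by
  have h1 := h.1
  have h2 := h.2
  have h3 := post_faithful (overCat U) F
  have h4 := post_full (overCat U) F
  have h5 := post_faithful (Stk.sieveCat R) F
  have h6 := post_full (Stk.sieveCat R) F
  have e : post (overCat U) F ⋙ Stk.resSieve R 𝒴 ≅ Stk.resSieve R 𝒳 ⋙ post (Stk.sieveCat R) F := Iso.refl _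
  have h7 : (post (overCat U) F ⋙ Stk.resSieve R 𝒴).Full := inferInstance
  have h8 : (post (overCat U) F ⋙ Stk.resSieve R 𝒴).Faithful := inferInstance
  exact ⟨Full.of_comp_faithful_iso e.symm, Faithful.of_comp_iso (G := post (Stk.sieveCat R) F) e.symm⟩

/-- lifting a functor through a fully faithful functor -/
theorem exists_functor_of_ff (F : 𝒳 ⥤ᵇ 𝒴) [F.toFunctor.Full] [F.toFunctor.Faithful]
    {𝒜 : BasedCategory.{v₄, u₄} C} (K : 𝒜 ⥤ᵇ 𝒴) (x : 𝒜.obj → 𝒳.obj) (e : ∀ a, F.obj (x a) ≅ K.obj a)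
    (he : ∀ a, 𝒴.p.IsHomLift (𝟙 (𝒜.p.obj a)) (e a).hom) :
    ∃ (D : 𝒜 ⥤ᵇ 𝒳) (hD : ∀ a, D.obj a = x a) (α : BasedFunctor.comp D F ≅ K), ∀ a, α.hom.toNatTrans.app a =
      eqToHom (by rw [← hD]; rfl) ≫ (e a).hom := by
  have h1 : ∀ (a b : 𝒜.obj) (f : a ⟶ b), ∃ c : x a ⟶ x b, F.map c = (e a).hom ≫ K.map f ≫ (e b).inv :=
    fun a b f => F.toFunctor.map_surjective _
  choose c hc using h1
  let D : 𝒜 ⥤ᵇ 𝒳 := mkFunctor x (fun f => c _ _ f)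
    (fun {a b} f => by
      have h2 := he a
      have h3 := he b
      have h4 : 𝒴.p.IsHomLift (𝒜.p.map f) (K.map f) := inferInstance
      rw [← BasedFunctor.isHomLift_iff F, hc]
      have h5 : 𝒴.p.IsHomLift (𝒜.p.map f) (K.map f ≫ (e b).inv) := IsHomLift.comp_lift_id_right _ _ _ _
      exact IsHomLift.comp_lift_id_left _ _ _ _)
    (fun a => by
      apply F.toFunctor.map_injective
      change F.map (c _ _ (𝟙 a)) = F.map (𝟙 (x a))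
      rw [hc, K.toFunctor.map_id, Category.id_comp, Iso.hom_inv_id]
      exact (F.toFunctor.map_id _).symm)
    (fun {a b d} f g => by
      apply F.toFunctor.map_injective
      rw [F.toFunctor.map_comp]
      change F.map (c _ _ (f ≫ g)) = F.map (c _ _ f) ≫ F.map (c _ _ g)
      rw [hc, hc, hc, K.toFunctor.map_comp]
      simp)
  refine ⟨D, fun a => rfl, BasedNatIso.mkNatIso (NatIso.ofComponents e (fun {a b} f => ?_)) he, fun a => ?_⟩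
  · change F.map (c _ _ f) ≫ (e b).hom = (e a).hom ≫ K.map f
    rw [hc]
    simp
  · exact (Category.id_comp _).symm

/-- criterion for equivalences over `C` -/
theorem isEquivOver_of_ff_of_exists_iso (F : 𝒳 ⥤ᵇ 𝒴) [F.toFunctor.Full] [F.toFunctor.Faithful]
    (h : ∀ y : 𝒴.obj, ∃ (x : 𝒳.obj) (e : F.obj x ≅ y), 𝒴.p.IsHomLift (𝟙 (𝒴.p.obj y)) e.hom) : IsEquivOver F := by
  choose x e he using h
  obtain ⟨G, hG, α, -⟩ := exists_functor_of_ff F (BasedFunctor.id 𝒴) x e he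
  refine ⟨G, ?_, ⟨α⟩⟩
  have h5 := post_faithful 𝒳 F
  have h6 := post_full 𝒳 F
  let β : BasedFunctor.comp (BasedFunctor.comp F G) F ≅ BasedFunctor.comp (BasedFunctor.id 𝒳) F :=
    { hom := BasedCategory.whiskerLeft F α.hom
      inv := BasedCategory.whiskerLeft F α.inv
      hom_inv_id := natTrans_ext fun a => natTrans_app_eq α.hom_inv_id (F.obj a)
      inv_hom_id := natTrans_ext fun a => natTrans_app_eq α.inv_hom_id (F.obj a) }
  exact ⟨(post 𝒳 F).preimageIso β⟩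

theorem full_faithful_of_isEquivOver {F : 𝒳 ⥤ᵇ 𝒴} (hF : IsEquivOver F) : F.toFunctor.Full ∧ F.toFunctor.Faithful := by
  have := isEquivalence_toFunctor hF
  exact ⟨inferInstance, inferInstance⟩

theorem exists_iso_of_isEquivOver {F : 𝒳 ⥤ᵇ 𝒴} (hF : IsEquivOver F) (y : 𝒴.obj) :
    ∃ (x : 𝒳.obj) (e : F.obj x ≅ y), 𝒴.p.IsHomLift (𝟙 (𝒴.p.obj y)) e.hom := by
  obtain ⟨G, -, ⟨e⟩⟩ := hF
  exact ⟨G.obj y, ((BasedNatTrans.forgetful _ _).mapIso e).app y, e.hom.isHomLift' y⟩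

/-- every object of `𝒴` is locally in the essential image of `F` -/
def LocEssSurj (J : GrothendieckTopology C) (F : 𝒳 ⥤ᵇ 𝒴) : Prop :=
  ∀ y : 𝒴.obj, ∃ R ∈ J (𝒴.p.obj y), ∀ ⦃V : C⦄ (f : V ⟶ 𝒴.p.obj y), R f →
    ∃ (x : 𝒳.obj) (φ : F.obj x ⟶ y), 𝒴.p.IsHomLift f φ

theorem locEssSurj_of_isEquivOver (J : GrothendieckTopology C) {F : 𝒳 ⥤ᵇ 𝒴} (hF : IsEquivOver F)
    (h𝒴 : IsFibGrpd 𝒴.p) : LocEssSurj J F := by
  intro y
  refine ⟨⊤, J.top_mem _, fun V f _ => ?_⟩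
  obtain ⟨y', b, hb⟩ := h𝒴.exists_lift f
  obtain ⟨x, e, he⟩ := exists_iso_of_isEquivOver hF y'
  have h1 : 𝒴.p.obj y' = V := IsHomLift.domain_eq 𝒴.p f b
  subst h1
  exact ⟨x, e.hom ≫ b, IsHomLift.comp_lift_id_left _ _ _ _⟩

/-- a fully faithful functor of stacks which is locally essentially surjective is an equivalence
(`𝒳` a stack, `𝒴` a prestack) -/
theorem isEquivOver_of_locEssSurj {J : GrothendieckTopology C} (h𝒳 : Stk.IsStack J 𝒳) (h𝒴 : Stk.IsPrestack J 𝒴)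
    (F : 𝒳 ⥤ᵇ 𝒴) [F.toFunctor.Full] [F.toFunctor.Faithful] (h : LocEssSurj J F) : IsEquivOver F := by
  refine isEquivOver_of_ff_of_exists_iso F fun y => ?_
  obtain ⟨R, hR, hx⟩ := h y
  have h1 : ∀ a : R.arrows.category, ∃ (x : 𝒳.obj) (φ : F.obj x ⟶ y), 𝒴.p.IsHomLift a.obj.hom φ :=
    fun a => hx a.obj.hom a.property
  choose x φ hφ using h1
  let K : Stk.sieveCat R ⥤ᵇ 𝒴 := (Stk.resSieve R 𝒴).obj (yo h𝒴.1 y rfl)
  have h2 : ∀ a : R.arrows.category, ∃ e : F.obj (x a) ≅ K.obj a, 𝒴.p.IsHomLift (𝟙 a.obj.left) e.hom ∧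
      e.hom ≫ yoε h𝒴.1 y rfl a.obj = φ a := fun a =>
    exists_iso_of_lifts h𝒴.1 (φ a) (yoε h𝒴.1 y rfl a.obj) (hφ a) (yoε_lift h𝒴.1 y rfl a.obj)
  choose e he _ using h2
  obtain ⟨D, hD, α, -⟩ := exists_functor_of_ff F K x e he
  have h3 : (Stk.resSieve R 𝒳).IsEquivalence := h𝒳.2 R hR
  obtain ⟨h4, h5⟩ := h𝒴.2 R hR
  let G := (Stk.resSieve R 𝒳).objPreimage D
  let β : (Stk.resSieve R 𝒳).obj G ≅ D := (Stk.resSieve R 𝒳).objObjPreimageIso D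
  let γ : (Stk.resSieve R 𝒴).obj (BasedFunctor.comp G F) ≅ (Stk.resSieve R 𝒴).obj (yo h𝒴.1 y rfl) :=
    (post _ F).mapIso β ≪≫ α
  let δ := (Stk.resSieve R 𝒴).preimageIso γ
  let t : Over (𝒴.p.obj y) := Over.mk (𝟙 (𝒴.p.obj y))
  have h6 : 𝒴.p.IsHomLift (𝟙 (𝒴.p.obj y)) (δ.hom.toNatTrans.app t) := δ.hom.isHomLift' t
  have h7 : 𝒴.p.IsHomLift (𝟙 (𝒴.p.obj y)) (yoε h𝒴.1 y rfl t) := yoε_lift h𝒴.1 y rfl t
  have h8 : 𝒴.p.IsHomLift (𝟙 (𝒴.p.obj y)) (δ.hom.toNatTrans.app t ≫ yoε h𝒴.1 y rfl t) :=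
    IsHomLift.comp_of_lift_id _ _ _ _
  have := isIso_of_lift_id h𝒴.1 _ h8
  exact ⟨G.obj t, asIso (δ.hom.toNatTrans.app t ≫ yoε h𝒴.1 y rfl t), h8⟩

theorem isEquivOver_iff_locEssSurj {J : GrothendieckTopology C} (h𝒳 : Stk.IsStack J 𝒳) (h𝒴 : Stk.IsPrestack J 𝒴)
    (F : 𝒳 ⥤ᵇ 𝒴) [F.toFunctor.Full] [F.toFunctor.Faithful] : IsEquivOver F ↔ LocEssSurj J F :=
  ⟨fun h => locEssSurj_of_isEquivOver J h h𝒴.1, isEquivOver_of_locEssSurj h𝒳 h𝒴 F⟩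

section FullSub

variable (Q : ObjectProperty 𝒳.obj)

/-- the full subcategory of `𝒳` on `Q`, over `C` -/
abbrev sub : BasedCategory.{v₂, u₂} C := BasedCategory.ofFunctor (Q.ι ⋙ 𝒳.p)

/-- its inclusion -/
def subι : sub Q ⥤ᵇ 𝒳 where
  toFunctor := Q.ι
  w := rfl

instance : (subι Q).toFunctor.Full := inferInstanceAs Q.ι.Full
instance : (subι Q).toFunctor.Faithful := inferInstanceAs Q.ι.Faithful

/-- `Q` is stable under lifts, up to isomorphism over the identity -/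
def LiftClosed : Prop := ∀ ⦃y x : 𝒳.obj⦄ (_ : y ⟶ x), Q x →
  ∃ (y' : 𝒳.obj) (e : y ≅ y'), Q y' ∧ 𝒳.p.IsHomLift (𝟙 (𝒳.p.obj y)) e.hom

variable {Q}

theorem isFibGrpd_sub (h𝒳 : IsFibGrpd 𝒳.p) (h1 : LiftClosed Q) : IsFibGrpd (sub Q).p := by
  refine ⟨fun {x V} f => ?_, fun {y x} φ => ⟨fun {z} g ψ hψ => ?_⟩⟩
  · obtain ⟨y, a, ha⟩ := h𝒳.exists_lift (x := x.obj) f
    obtain ⟨y', e, hy', he⟩ := h1 a x.property
    have h2 : 𝒳.p.obj y = V := IsHomLift.domain_eq 𝒳.p f a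
    subst h2
    have h3 : 𝒳.p.IsHomLift f (e.inv ≫ a) := IsHomLift.comp_lift_id_left _ _ _ _
    let m : (⟨y', hy'⟩ : Q.FullSubcategory) ⟶ x := ObjectProperty.homMk (e.inv ≫ a)
    exact ⟨⟨y', hy'⟩, m, (BasedFunctor.isHomLift_iff (subι Q) f m).1 h3⟩
  · have hψ' : (sub Q).p.IsHomLift (g ≫ 𝒳.p.map φ.hom) ψ := hψ
    have h2 : 𝒳.p.IsHomLift (g ≫ 𝒳.p.map φ.hom) ψ.hom := BasedFunctor.preserves_isHomLift (subι Q) _ ψ
    obtain ⟨χ, ⟨hχ, eχ⟩, uχ⟩ := existsUnique_factor h𝒳 g rfl φ.hom ψ.hom inferInstance h2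
    refine ⟨ObjectProperty.homMk χ, ⟨(BasedFunctor.isHomLift_iff (subι Q) g _).1 hχ,
      ObjectProperty.hom_ext _ eχ⟩, ?_⟩
    rintro χ' ⟨h3, h4⟩
    exact ObjectProperty.hom_ext _ (uχ χ'.hom ⟨BasedFunctor.preserves_isHomLift (subι Q) g χ',
      congrArg (fun t => t.hom) h4⟩)

/-- a full subcategory of a stack, closed under lifts and local for the topology, is a stack -/
theorem isStack_sub {J : GrothendieckTopology C} (h𝒳 : Stk.IsStack J 𝒳) (h1 : LiftClosed Q)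
    (h3 : ∀ ⦃U : C⦄ (R : Sieve U), R ∈ J U → ∀ (x : 𝒳.obj), 𝒳.p.obj x = U →
      (∀ ⦃V : C⦄ (f : V ⟶ U), R f → ∀ (y : 𝒳.obj) (φ : y ⟶ x), 𝒳.p.IsHomLift f φ →
        ∃ (y' : 𝒳.obj) (e : y ≅ y'), Q y' ∧ 𝒳.p.IsHomLift (𝟙 V) e.hom) →
      ∃ (x' : 𝒳.obj) (e : x ≅ x'), Q x' ∧ 𝒳.p.IsHomLift (𝟙 U) e.hom) :
    Stk.IsStack J (sub Q) := by
  rw [isStack_iff]
  refine ⟨⟨isFibGrpd_sub h𝒳.1 h1, fun U R hR => isPrestackFor_of_ff (subι Q)
    ((isPrestack_of_isStack h𝒳).2 R hR)⟩, fun U R hR D => ?_⟩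
  obtain ⟨E⟩ := exists_eff h𝒳 hR (BasedFunctor.comp D (subι Q))
  obtain ⟨x', e, hx', he⟩ := h3 R hR E.pt E.pt_obj (fun V f hf y φ hφ => by
    obtain ⟨e, he, -⟩ := exists_iso_of_lifts h𝒳.1 φ (E.ι (mkS f hf)) hφ (E.lift (mkS f hf))
    exact ⟨_, e, (D.obj (mkS f hf)).property, he⟩)
  have hl : ∀ a, 𝒳.p.IsHomLift a.obj.hom (E.ι a ≫ e.hom) := fun a => by
    have := E.lift a
    exact IsHomLift.comp_lift_id_right _ _ _ _
  refine ⟨⟨(⟨x', hx'⟩ : Q.FullSubcategory), fun a => ObjectProperty.homMk (E.ι a ≫ e.hom),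
    fun a => (BasedFunctor.isHomLift_iff (subι Q) _ _).1 (hl a), fun {a b} f => ?_, ?_⟩⟩
  · apply ObjectProperty.hom_ext
    exact (Category.assoc _ _ _).symm.trans (congrArg (· ≫ e.hom) (E.nat f))
  · exact IsHomLift.codomain_eq 𝒳.p (𝟙 U) e.hom

end FullSub

end K751.FF
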