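import Groth.Agent.Stk.K751.Trans

/-!
# Stacks over stacks: S12804, S12805 (seat 751)
-/

set_option autoImplicit false
set_option backward.isDefEq.respectTransparency false
set_option backward.isDefEq.respectTransparency.types false

universe w v₅ u₅ v₄ u₄ v₃ u₃ v₂ u₂ v u

open CategoryTheory Functor K751.FG K751.Test K751.Inv K751.FF K751.Loc K751.Rest K751.Trans FibCat

namespace K751.Over

variable {C : Type u} [Category.{v} C]

theorem map_of_lift {𝒳 : Type u₂} [Category.{v₂} 𝒳] {p : 𝒳 ⥤ C} {V : C} {x z : 𝒳} (f : V ⟶ p.obj x) (a : z ⟶ x)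
    (h : p.IsHomLift f a) : p.map a = eqToHom (IsHomLift.domain_eq p f a) ≫ f := by
  have := IsHomLift.fac' p f a
  simpa using this

theorem isHomLift_comp_functor {𝒳 : Type u₂} [Category.{v₂} 𝒳] {𝒴 : Type u₃} [Category.{v₃} 𝒴] {q : 𝒴 ⥤ 𝒳}
    {p : 𝒳 ⥤ C} {U V : C} {f : V ⟶ U} {x x' : 𝒳} {m : x' ⟶ x} {y y' : 𝒴} {n : y' ⟶ y} (h : p.IsHomLift f m)
    (h' : q.IsHomLift m n) : (q ⋙ p).IsHomLift f n := by
  obtain ⟨⟩ := h'
  obtain ⟨⟩ := h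
  exact CategoryTheory.IsHomLift.map (q ⋙ p) n

section S04

variable {𝒳 : BasedCategory.{v₂, u₂} C} {𝒴 : BasedCategory.{v₃, u₃} C} {J : GrothendieckTopology C}

theorem isPrestack_over (h𝒳 : Stk.IsPrestack J 𝒳) (h𝒴 : Stk.IsPrestack J 𝒴) (F : 𝒳 ⥤ᵇ 𝒴)
    (hF : IsFibGrpd F.toFunctor) :
    Stk.IsPrestack (𝒴.p.restrictedTopology J) (BasedCategory.ofFunctor F.toFunctor) := by
  rw [isPrestack_iff]
  refine ⟨hF, ?_⟩
  intro (x : 𝒳.obj) (S : Sieve (F.obj x)) hS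
  obtain ⟨R, hR, hRS⟩ := (mem_restrictedTopology_iff' h𝒴.1 S).1 hS
  have hx : 𝒴.p.obj (F.obj x) = 𝒳.p.obj x := F.w_obj x
  have hR' : R.pullback (eqToHom hx.symm) ∈ J (𝒳.p.obj x) := J.pullback_stable _ hR
  have hRS' : ∀ ⦃z : 𝒳.obj⦄ (a : z ⟶ x), R.pullback (eqToHom hx.symm) (𝒳.p.map a) → S (F.map a) := by
    intro z a ha
    refine hRS (F.map a) ?_
    have h1 : 𝒴.p.map (F.map a) = eqToHom (F.w_obj z) ≫ 𝒳.p.map a ≫ eqToHom hx.symm := by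
      have h2 : 𝒴.p.IsHomLift (𝒳.p.map a) (F.map a) := inferInstance
      exact IsHomLift.fac' 𝒴.p (𝒳.p.map a) (F.map a)
    rw [h1]
    exact R.downward_closed ha _
  intro (y : 𝒳.obj) (g : F.obj x ⟶ F.obj y) φ hφ cφ
  let g' : 𝒳.p.obj x ⟶ 𝒳.p.obj y := eqToHom hx.symm ≫ 𝒴.p.map g ≫ eqToHom (F.w_obj y)
  have hg' : 𝒴.p.IsHomLift g' g := IsHomLift.of_fac 𝒴.p g' g hx (F.w_obj y) rfl
  have hφ' : ∀ ⦃z : 𝒳.obj⦄ (a : z ⟶ x) (ha : S (F.map a)), 𝒳.p.map (φ a ha) = 𝒳.p.map a ≫ g' := by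
    intro z a ha
    have h1 : 𝒴.p.IsHomLift (𝒳.p.map a ≫ g') (F.map a ≫ g) := IsHomLift.comp 𝒴.p _ _ _ _
    have h2 : F.map (φ a ha) = F.map a ≫ g := hφ a ha
    rw [← h2] at h1
    exact map_eq_of_isHomLift _ ((BasedFunctor.isHomLift_iff F _ _).1 h1)
  obtain ⟨ψ, ⟨h1, h2⟩, h3⟩ := glueFrom_of_isPrestack h𝒳 x _ hR' g' (fun z a ha => φ a (hRS' a ha))
    (fun z a ha => hφ' a _) (fun z' z b a ha hba => cφ b a _ _)
  have hψ : F.map ψ = g := by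
    refine ext_of_cover h𝒴 hR ?_ fun w b hb => ?_
    · have h4 : 𝒳.p.IsHomLift g' ψ := isHomLift_of_map_eq ψ h1
      have h5 : 𝒴.p.IsHomLift g' (F.map ψ) := BasedFunctor.preserves_isHomLift F _ ψ
      rw [IsHomLift.fac' 𝒴.p g' (F.map ψ), IsHomLift.fac' 𝒴.p g' g]
    · obtain ⟨z, a, ha⟩ := hF.exists_lift (x := x) b
      have h4 : F.map a = eqToHom (IsHomLift.domain_eq F.toFunctor b a) ≫ b := map_of_lift b a ha
      have h5 : R.pullback (eqToHom hx.symm) (𝒳.p.map a) := by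
        change R (𝒳.p.map a ≫ eqToHom hx.symm)
        have h6 : 𝒴.p.map (F.map a) = eqToHom (F.w_obj z) ≫ 𝒳.p.map a ≫ eqToHom hx.symm := by
          have h2 : 𝒴.p.IsHomLift (𝒳.p.map a) (F.map a) := inferInstance
          exact IsHomLift.fac' 𝒴.p (𝒳.p.map a) (F.map a)
        have h7 : 𝒳.p.map a ≫ eqToHom hx.symm = eqToHom (F.w_obj z).symm ≫ 𝒴.p.map (F.map a) := by
          rw [h6]; simp
        rw [h7, h4, 𝒴.p.map_comp]
        exact R.downward_closed (R.downward_closed hb _) _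
      have h8 : F.map a ≫ F.map ψ = F.map a ≫ g := by
        rw [← F.map_comp, h2 a h5]
        exact hφ a _
      rw [h4, Category.assoc, Category.assoc] at h8
      exact (cancel_epi _).1 h8
  refine ⟨ψ, ⟨hψ, fun z a ha => ?_⟩, ?_⟩
  · refine ext_of_cover h𝒳 (J.pullback_stable (𝒳.p.map a) hR') ?_ fun w c hc => ?_
    · rw [hφ' a ha, 𝒳.p.map_comp, h1]
    · have hc' : R.pullback (eqToHom hx.symm) (𝒳.p.map (c ≫ a)) := by
        rw [𝒳.p.map_comp]; exact hc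
      have h4 := h2 (c ≫ a) hc'
      have h5 := cφ c a ha (hRS' _ hc')
      rw [← Category.assoc, h4]
      exact h5
  · rintro ψ' ⟨h4, h5⟩
    refine h3 ψ' ⟨?_, fun z a ha => h5 a _⟩
    have h6 : 𝒴.p.IsHomLift g' (F.map ψ') := by
      rw [show F.map ψ' = g from h4]; exact hg'
    exact map_eq_of_isHomLift _ ((BasedFunctor.isHomLift_iff F _ _).1 h6)

/-- S12804 in all universes -/
theorem isStack_over (h𝒳 : Stk.IsStack J 𝒳) (h𝒴 : Stk.IsPrestack J 𝒴) (F : 𝒳 ⥤ᵇ 𝒴)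
    (hF : IsFibGrpd F.toFunctor) :
    Stk.IsStack (𝒴.p.restrictedTopology J) (BasedCategory.ofFunctor F.toFunctor) := by
  rw [isStack_iff]
  refine ⟨isPrestack_over (isPrestack_of_isStack h𝒳) h𝒴 F hF, ?_⟩
  intro y S hS D
  have hS' := (mem_restrictedTopology_iff h𝒴.1 S).1 hS
  let R := S.functorPushforward 𝒴.p
  have hDw : ∀ b : S.arrows.category, F.obj (D.obj b) = b.obj.left := fun b => D.w_obj b
  let D' : sieveOver S ⥤ᵇ 𝒳 :=
    { toFunctor := D.toFunctor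
      w := by
        have h1 : D.toFunctor ⋙ F.toFunctor = S.arrows.diagram := D.w
        change D.toFunctor ⋙ 𝒳.p = S.arrows.diagram ⋙ 𝒴.p
        rw [← F.w, ← Functor.assoc, h1] }
  let K : sieveOver S ⥤ᵇ Stk.sieveCat R := compS S (fun z b hb => Sieve.image_mem_functorPushforward 𝒴.p S hb)
  have hK : IsEquivOver K := isEquivOver_compS h𝒴.1 S _ (fun z b hb => mem_of_mem_push h𝒴.1 b hb)
  obtain ⟨E⟩ := exists_coc (fun D'' => exists_eff h𝒳 hS' D'') K hK D'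
  have hE : ∀ b : S.arrows.category, 𝒳.p.IsHomLift (𝒴.p.map b.obj.hom) (E.ι b) := fun b => by
    have h1 := E.lift b
    rw [tOf, IsHomLift.lift_eqToHom_comp_iff] at h1
    exact h1
  have hFx : 𝒴.p.obj (F.obj E.pt) = 𝒴.p.obj y := (F.w_obj _).trans E.pt_obj
  -- the comparison `y ⟶ F x`
  have hmap : ∀ {b b' : S.arrows.category} (f : b ⟶ b'), F.map (D.map f) = eqToHom (hDw b) ≫ f.hom.left ≫
      eqToHom (hDw b').symm := by
    intro b b' f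
    have h1 : F.toFunctor.IsHomLift f.hom.left (D.map f) := by
      have : (Stk.sieveCat S).p.IsHomLift f.hom.left f := CategoryTheory.IsHomLift.map (Stk.sieveCat S).p f
      exact BasedFunctor.preserves_isHomLift D _ f
    exact IsHomLift.fac' F.toFunctor f.hom.left (D.map f)
  obtain ⟨ψ, ⟨hψ, eψ⟩, -⟩ := glueFrom_of_isPrestack h𝒴 y R hS' (y := F.obj E.pt) (eqToHom hFx.symm)
    (fun z b hb => eqToHom (hDw (mkS b (mem_of_mem_push h𝒴.1 b hb))).symm ≫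
      F.map (E.ι (mkS b (mem_of_mem_push h𝒴.1 b hb))))
    (fun z b hb => by
      let b' : S.arrows.category := mkS b (mem_of_mem_push h𝒴.1 b hb)
      have h1 : 𝒳.p.IsHomLift (𝒴.p.map b) (E.ι b') := hE b'
      have h2 : 𝒴.p.IsHomLift (𝒴.p.map b) (F.map (E.ι b')) := BasedFunctor.preserves_isHomLift F _ _
      have h3 : 𝒴.p.IsHomLift (𝒴.p.map b) (eqToHom (hDw b').symm ≫ F.map (E.ι b')) := inferInstance
      have h4 := IsHomLift.fac' 𝒴.p (𝒴.p.map b) (eqToHom (hDw b').symm ≫ F.map (E.ι b'))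
      refine h4.trans ?_
      simp)
    (fun z' z c b hb hcb => by
      let b₁ : S.arrows.category := mkS b (mem_of_mem_push h𝒴.1 b hb)
      let b₂ : S.arrows.category := mkS (c ≫ b) (mem_of_mem_push h𝒴.1 _ hcb)
      let f : b₂ ⟶ b₁ := homS (a := b₂) (b := b₁) c rfl
      have h1 : D.map f ≫ E.ι b₁ = E.ι b₂ := E.nat f
      change eqToHom (hDw b₂).symm ≫ F.map (E.ι b₂) = c ≫ eqToHom (hDw b₁).symm ≫ F.map (E.ι b₁)
      have h2 : F.map (D.map f) = eqToHom (hDw b₂) ≫ c ≫ eqToHom (hDw b₁).symm := hmap f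
      have h3 : F.map (E.ι b₂) = F.map (D.map f) ≫ F.map (E.ι b₁) := by rw [← F.map_comp, h1]
      rw [h3, h2]
      simp)
  have hψi : IsIso ψ := by
    have h1 : IsIso (𝒴.p.map ψ) := by rw [hψ]; infer_instance
    exact isIso_of_map h𝒴.1 ψ
  obtain ⟨x', m, hm⟩ := hF.exists_lift (x := E.pt) ψ
  have hmi : IsIso m := isIso_of_isHomLift hF ψ m hm
  refine ⟨⟨x', fun b => E.ι b ≫ inv m, fun b => ?_, fun {b b'} f => ?_, ?_⟩⟩
  · have h1 : b.obj.hom ≫ ψ = eqToHom (hDw b).symm ≫ F.map (E.ι b) :=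
      eψ b.obj.hom (Sieve.image_mem_functorPushforward 𝒴.p S b.property)
    have h2 : F.toFunctor.IsHomLift (b.obj.hom ≫ ψ) (E.ι b) := by
      rw [h1, IsHomLift.lift_eqToHom_comp_iff]
      exact CategoryTheory.IsHomLift.map F.toFunctor (E.ι b)
    have h3 : F.toFunctor.IsHomLift (inv ψ) (inv m) := inferInstance
    have h4 : F.toFunctor.IsHomLift ((b.obj.hom ≫ ψ) ≫ inv ψ) (E.ι b ≫ inv m) := IsHomLift.comp F.toFunctor _ _ _ _
    rw [Category.assoc, IsIso.hom_inv_id, Category.comp_id] at h4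
    exact h4
  · exact (Category.assoc _ _ _).symm.trans (congrArg (· ≫ inv m) (E.nat f))
  · exact IsHomLift.domain_eq F.toFunctor ψ m

end S04

section S05

variable {𝒳 : BasedCategory.{v₂, u₂} C} {𝒴 : BasedCategory.{v₃, u₃} 𝒳.obj} {J : GrothendieckTopology C}

/-- the composite category over `C` -/
abbrev compCat (𝒴 : BasedCategory.{v₃, u₃} 𝒳.obj) : BasedCategory.{v₃, u₃} C :=
  BasedCategory.ofFunctor (𝒴.p ⋙ 𝒳.p)

theorem isFibGrpd_comp {𝒳 : Type u₂} [Category.{v₂} 𝒳] {𝒴 : Type u₃} [Category.{v₃} 𝒴] {q : 𝒴 ⥤ 𝒳}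
    {p : 𝒳 ⥤ C} (hp : IsFibGrpd p) (hq : IsFibGrpd q) : IsFibGrpd (q ⋙ p) := by
  refine ⟨fun {y V} f => ?_, fun {y' y} φ => ⟨fun {z} g ψ hψ => ?_⟩⟩
  · obtain ⟨x, a, ha⟩ := hp.exists_lift (x := q.obj y) f
    obtain ⟨z, b, hb⟩ := hq.exists_lift a
    exact ⟨z, b, isHomLift_comp_functor ha hb⟩
  · have h1 : g ≫ p.map (q.map φ) = p.map (q.map ψ) := IsHomLift.eq_of_isHomLift (q ⋙ p) (g ≫ (q ⋙ p).map φ) ψ
    obtain ⟨c, hc, ec⟩ := exists_factor_map hp (q.map φ) (q.map ψ) g h1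
    obtain ⟨d, hd, ed⟩ := exists_factor_map hq φ ψ c ec
    refine ⟨d, ⟨isHomLift_of_map_eq (p := q ⋙ p) d (by rw [Functor.comp_map, hd, hc]), ed⟩, ?_⟩
    rintro d' ⟨h2, h3⟩
    have h4 : p.map (q.map d') = g := map_eq_of_isHomLift (p := q ⋙ p) d' h2
    have h5 : q.map d' = c := by
      refine cancel hp (q.map φ) (h4.trans hc.symm) ?_
      rw [← q.map_comp, h3, ec]
    exact cancel hq φ (h5.trans hd.symm) (h3.trans ed.symm)

theorem isPrestack_comp (h𝒳 : Stk.IsPrestack J 𝒳) (h𝒴 : Stk.IsPrestack (𝒳.p.restrictedTopology J) 𝒴) :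
    Stk.IsPrestack J (compCat 𝒴) := by
  rw [isPrestack_iff]
  refine ⟨isFibGrpd_comp h𝒳.1 h𝒴.1, ?_⟩
  intro (y : 𝒴.obj) (R : Sieve (𝒳.p.obj (𝒴.p.obj y))) hR
  intro (y₂ : 𝒴.obj) (g : 𝒳.p.obj (𝒴.p.obj y) ⟶ 𝒳.p.obj (𝒴.p.obj y₂)) φ hφ cφ
  -- the family in `𝒳`
  have hl : ∀ ⦃w : 𝒳.obj⦄ (a : w ⟶ 𝒴.p.obj y), ∃ (z : 𝒴.obj) (b : z ⟶ y), 𝒴.p.IsHomLift a b := fun w a =>
    h𝒴.1.exists_lift a
  have hRb : ∀ ⦃w : 𝒳.obj⦄ (a : w ⟶ 𝒴.p.obj y) {z : 𝒴.obj} (b : z ⟶ y), 𝒴.p.IsHomLift a b → R (𝒳.p.map a) →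
      R ((𝒴.p ⋙ 𝒳.p).map b) := by
    intro w a z b hab ha
    rw [Functor.comp_map, map_of_lift a b hab, 𝒳.p.map_comp]
    exact R.downward_closed ha _
  choose z b hb using hl
  have indep : ∀ ⦃w : 𝒳.obj⦄ (a : w ⟶ 𝒴.p.obj y) (ha : R (𝒳.p.map a)) {z' : 𝒴.obj} (b' : z' ⟶ y)
      (hb' : 𝒴.p.IsHomLift a b'),
      eqToHom (IsHomLift.domain_eq 𝒴.p a (b a)).symm ≫ 𝒴.p.map (φ (b a) (hRb a (b a) (hb a) ha)) =
      eqToHom (IsHomLift.domain_eq 𝒴.p a b').symm ≫ 𝒴.p.map (φ b' (hRb a b' hb' ha)) := by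
    intro w a ha z' b' hb'
    obtain ⟨c, hc, ec⟩ := exists_factor h𝒴.1 (𝟙 w) (Category.id_comp a) b' (b a) hb' (hb a)
    have h1 := cφ c b' (hRb a b' hb' ha) (by rw [ec]; exact hRb a (b a) (hb a) ha)
    have h2 : φ (b a) (hRb a (b a) (hb a) ha) = c ≫ φ b' (hRb a b' hb' ha) := by
      rw [← h1]; congr! 1; exact ec.symm
    rw [h2, 𝒴.p.map_comp, IsHomLift.fac' 𝒴.p (𝟙 w) c]
    simp
  have hφ1 : ∀ ⦃z' : 𝒴.obj⦄ (b' : z' ⟶ y) (hb' : R ((𝒴.p ⋙ 𝒳.p).map b')), 𝒳.p.map (𝒴.p.map (φ b' hb')) =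
      𝒳.p.map (𝒴.p.map b') ≫ g := fun z' b' hb' => hφ b' hb'
  obtain ⟨ψ₁, ⟨h1, h2⟩, h3⟩ := glueFrom_of_isPrestack h𝒳 (𝒴.p.obj y) R hR g
    (fun w a ha => eqToHom (IsHomLift.domain_eq 𝒴.p a (b a)).symm ≫ 𝒴.p.map (φ (b a) (hRb a (b a) (hb a) ha)))
    (fun w a ha => by
      rw [𝒳.p.map_comp, hφ1, map_of_lift a (b a) (hb a), 𝒳.p.map_comp, ← Category.assoc, ← Category.assoc,
        ← 𝒳.p.map_comp, eqToHom_trans, eqToHom_refl, 𝒳.p.map_id, Category.id_comp])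
    (fun w' w c a ha hca => by
      -- lift `c` to the lift of `a`
      obtain ⟨z', c', hc'⟩ := exists_lift h𝒴.1 (IsHomLift.domain_eq 𝒴.p a (b a)) c
      have h4 : 𝒴.p.IsHomLift (c ≫ a) (c' ≫ b a) := by
        have := hb a
        exact IsHomLift.comp 𝒴.p _ _ _ _
      rw [indep (c ≫ a) hca (c' ≫ b a) h4, cφ c' (b a) (hRb a (b a) (hb a) ha), 𝒴.p.map_comp,
        IsHomLift.fac' 𝒴.p c c']
      simp)
  -- the gluing in `𝒴`
  let S : Sieve (𝒴.p.obj y) := R.functorPullback 𝒳.p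
  have hS : S ∈ 𝒳.p.restrictedTopology J (𝒴.p.obj y) :=
    (mem_restrictedTopology_iff' h𝒳.1 S).2 ⟨R, hR, fun z a ha => ha⟩
  have hq : ∀ ⦃z' : 𝒴.obj⦄ (b' : z' ⟶ y) (hb' : R ((𝒴.p ⋙ 𝒳.p).map b')), 𝒴.p.map (φ b' hb') =
      𝒴.p.map b' ≫ ψ₁ := by
    intro z' b' hb'
    have h4 : 𝒴.p.IsHomLift (𝒴.p.map b') b' := inferInstance
    rw [h2 (𝒴.p.map b') hb', indep (𝒴.p.map b') hb' b' h4]
    simp
  obtain ⟨ψ, ⟨h4, h5⟩, h6⟩ := glueFrom_of_isPrestack h𝒴 y S hS ψ₁ (fun z' b' hb' => φ b' hb')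
    (fun z' b' hb' => hq b' hb') (fun z'' z' c b' hb' hcb' => cφ c b' hb' hcb')
  refine ⟨ψ, ⟨?_, fun z' b' hb' => h5 b' hb'⟩, ?_⟩
  · change 𝒳.p.map (𝒴.p.map ψ) = g
    rw [h4, h1]
  · rintro ψ' ⟨h7, h8⟩
    refine h6 ψ' ⟨h3 (𝒴.p.map ψ') ⟨h7, fun w a ha => ?_⟩, fun z' b' hb' => h8 b' hb'⟩
    have h9 := h8 (b a) (hRb a (b a) (hb a) ha)
    have h10 := congrArg 𝒴.p.map h9
    rw [← h10]
    rw [𝒴.p.map_comp, map_of_lift a (b a) (hb a)]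
    simp

/-- S12805 in all universes -/
theorem isStack_comp (h𝒳 : Stk.IsStack J 𝒳) (h𝒴 : Stk.IsStack (𝒳.p.restrictedTopology J) 𝒴) :
    Stk.IsStack J (compCat 𝒴) := by
  rw [isStack_iff]
  refine ⟨isPrestack_comp (isPrestack_of_isStack h𝒳) (isPrestack_of_isStack h𝒴), ?_⟩
  intro U R hR D
  let D₁ : Stk.sieveCat R ⥤ᵇ 𝒳 :=
    { toFunctor := D.toFunctor ⋙ 𝒴.p
      w := D.w }
  obtain ⟨E⟩ := exists_eff h𝒳 hR D₁
  obtain ⟨x, ι, hι, nι, rfl⟩ := E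
  let S : Sieve x := R.functorPullback 𝒳.p
  have hS : S ∈ 𝒳.p.restrictedTopology J x :=
    (mem_restrictedTopology_iff' h𝒳.1 S).2 ⟨R, hR, fun z a ha => ha⟩
  let K : sieveOver S ⥤ᵇ Stk.sieveCat R := compS S (fun z b hb => hb)
  have hK : IsEquivOver K := isEquivOver_compS h𝒳.1 S _ (fun z b hb => hb)
  let H : (Stk.sieveCat S).obj ⥤ 𝒴.obj := K.toFunctor ⋙ D.toFunctor
  have key : ∀ c : S.arrows.category, ∃ e : c.obj.left ≅ 𝒴.p.obj (D.obj (K.obj c)),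
      𝒳.p.IsHomLift (𝟙 (𝒳.p.obj c.obj.left)) e.hom ∧ e.hom ≫ ι (K.obj c) = c.obj.hom := fun c =>
    exists_iso_of_lifts h𝒳.1 (f := 𝒳.p.map c.obj.hom) c.obj.hom (ι (K.obj c)) inferInstance (hι (K.obj c))
  choose e he ee using key
  let θ : (Stk.sieveCat S).p ≅ H ⋙ 𝒴.p := NatIso.ofComponents e (fun {c c'} f => by
    change f.hom.left ≫ (e c').hom = (e c).hom ≫ 𝒴.p.map (D.map (K.map f))
    have h1 := he c
    have h2 := he c'
    have h3 : 𝒳.p.IsHomLift (𝒳.p.map f.hom.left) (𝒴.p.map (D.map (K.map f))) := by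
      have h4 : (Stk.sieveCat R).p.IsHomLift (𝒳.p.map f.hom.left) (K.map f) :=
        CategoryTheory.IsHomLift.map (Stk.sieveCat R).p (K.map f)
      exact BasedFunctor.preserves_isHomLift D₁ (𝒳.p.map f.hom.left) (K.map f)
    refine cancel' h𝒳.1 (𝒳.p.map f.hom.left) (ι (K.obj c')) ?_ ?_ ?_
    · exact IsHomLift.comp_lift_id_right 𝒳.p (𝒳.p.map f.hom.left) f.hom.left (e c').hom
    · exact IsHomLift.comp_lift_id_left 𝒳.p (𝒳.p.map f.hom.left) (𝒴.p.map (D.map (K.map f))) (e c).hom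
    · have h5 : 𝒴.p.map (D.map (K.map f)) ≫ ι (K.obj c') = ι (K.obj c) := nι (K.map f)
      rw [Category.assoc, Category.assoc, ee, h5, ee]
      exact Over.w f.hom)
  obtain ⟨H', ν, hν⟩ := exists_strict h𝒴.1 (𝒜 := Stk.sieveCat S) H θ
  obtain ⟨E₂⟩ := exists_eff h𝒴 hS H'
  refine eff_of_coc K hK (D := D) ⟨E₂.pt, fun c => ν.inv.app c ≫ E₂.ι c, fun c => ?_, fun {c c'} f => ?_, ?_⟩
  · rw [tOf, IsHomLift.lift_eqToHom_comp_iff]
    have h1 := E₂.lift c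
    have h2 := hν c
    have h3 : 𝒴.p.IsHomLift (e c).inv (ν.inv.app c) := by
      have h4 : 𝒴.p.IsHomLift (e c).hom ((ν.app c).hom) := h2
      exact IsHomLift.inv_lift_inv 𝒴.p (e c) (ν.app c)
    have h5 : 𝒴.p.IsHomLift ((e c).inv ≫ c.obj.hom) (ν.inv.app c ≫ E₂.ι c) := IsHomLift.comp 𝒴.p _ _ _ _
    have h6 : (e c).inv ≫ c.obj.hom = ι (K.obj c) := by rw [Iso.inv_comp_eq, ee]
    rw [h6] at h5
    exact isHomLift_comp_functor (hι (K.obj c)) h5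
  · have h1 : H.map f ≫ ν.inv.app c' = ν.inv.app c ≫ H'.map f := ν.inv.naturality f
    have h2 := E₂.nat f
    change H.map f ≫ ν.inv.app c' ≫ E₂.ι c' = ν.inv.app c ≫ E₂.ι c
    rw [← Category.assoc, h1, Category.assoc, h2]
  · exact congrArg 𝒳.p.obj E₂.pt_obj

end S05

end K751.Over
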