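import Groth.Agent.Stk.K751.Loc
import Mathlib.CategoryTheory.Sites.Over

/-!
# A category faithful over a stack, with 2-fibre products over slices stacks, is a stack (seat 751)
-/

set_option autoImplicit false
set_option backward.isDefEq.respectTransparency false
set_option backward.isDefEq.respectTransparency.types false

universe w v₅ u₅ v₄ u₄ v₃ u₃ v₂ u₂ v u

open CategoryTheory Functor K751.FG K751.Test K751.Inv K751.FF K751.Loc FibCat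

namespace K751.Slice

variable {C : Type u} [Category.{v} C]

section Gen

variable {𝒳 : BasedCategory.{v₂, u₂} C} {𝒴 : BasedCategory.{v₃, u₃} C}

/-- image of an effective cocone -/
def effComp {U : C} {R : Sieve U} {D : Stk.sieveCat R ⥤ᵇ 𝒳} (E : Eff D) (F : 𝒳 ⥤ᵇ 𝒴) :
    Eff (BasedFunctor.comp D F) where
  pt := F.obj E.pt
  ι a := F.map (E.ι a)
  lift a := by
    have := E.lift a
    exact BasedFunctor.preserves_isHomLift F _ _
  nat {a b} f := by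
    change F.map (D.map f) ≫ F.map (E.ι b) = F.map (E.ι a)
    rw [← F.map_comp, E.nat]
  pt_obj := (F.w_obj _).trans E.pt_obj

/-- the effective cocone of the 2-Yoneda functor of an object -/
noncomputable def effYo (h𝒳 : IsFibGrpd 𝒳.p) {U : C} (R : Sieve U) (x : 𝒳.obj) (hx : 𝒳.p.obj x = U) :
    Eff ((Stk.resSieve R 𝒳).obj (yo h𝒳 x hx)) where
  pt := x
  ι a := yoε h𝒳 x hx a.obj
  lift a := yoε_lift h𝒳 x hx a.obj
  nat f := yo_map_yoε h𝒳 x hx f.hom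
  pt_obj := hx

end Gen

variable {𝒮 : BasedCategory.{v₂, u₂} C} {𝒯 : BasedCategory.{v₃, u₃} C} (F : 𝒮 ⥤ᵇ 𝒯)

/-- the 2-fibre product `(C/U) ×_𝒯 𝒮` as a category over `C/U` -/
abbrev slB {U : C} (y : overCat U ⥤ᵇ 𝒯) : BasedCategory (Over U) :=
  BasedCategory.ofFunctor ((fpFst y F).toFunctor : (fp y F).obj ⥤ Over U)

/-- the sieve of `𝟙 U` in `C/U` -/
abbrev ovS {U : C} (R : Sieve U) : Sieve (Over.mk (𝟙 U)) := (Sieve.overEquiv (Over.mk (𝟙 U))).symm R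

theorem ovS_mem {J : GrothendieckTopology C} {U : C} {R : Sieve U} (hR : R ∈ J U) :
    ovS R ∈ J.over U (Over.mk (𝟙 U)) := J.overEquiv_symm_mem_over (Over.mk (𝟙 U)) R hR

theorem isHomLift_trans {𝒵 : Type u₄} [Category.{v₄} 𝒵] {p : 𝒵 ⥤ C} {V U : C} {f : V ⟶ U} {z x x' : 𝒵}
    {a : z ⟶ x} {χ : z ⟶ x'} (h : p.IsHomLift f a) (h2 : p.IsHomLift (p.map a) χ) : p.IsHomLift f χ := by
  obtain ⟨⟩ := h
  exact h2

theorem isHomLift_left {𝒵 : Type u₄} [Category.{v₄} 𝒵] {U : C} (q : 𝒵 ⥤ Over U) {a b : Over U} (f : a ⟶ b)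
    {z w : 𝒵} (φ : z ⟶ w) (h : q.IsHomLift f φ) : (q ⋙ Over.forget U).IsHomLift f.left φ := by
  obtain ⟨⟩ := h
  exact CategoryTheory.IsHomLift.map (q ⋙ Over.forget U) φ

variable {F}

theorem isPrestack_of_slB {J : GrothendieckTopology C} (h𝒮 : IsFibGrpd 𝒮.p) (h𝒯 : Stk.IsPrestack J 𝒯)
    [F.toFunctor.Faithful] (h3 : ∀ (U : C) (y : overCat U ⥤ᵇ 𝒯), Stk.IsPrestack (J.over U) (slB F y)) :
    Stk.IsPrestack J 𝒮 := by
  rw [isPrestack_iff]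
  refine ⟨h𝒮, fun x R hR => ?_⟩
  -- uniqueness
  have huniq : ∀ {y : 𝒮.obj} (ψ ψ' : x ⟶ y), 𝒮.p.map ψ = 𝒮.p.map ψ' →
      (∀ ⦃z : 𝒮.obj⦄ (a : z ⟶ x), R (𝒮.p.map a) → a ≫ ψ = a ≫ ψ') → ψ = ψ' := by
    intro y ψ ψ' e h
    apply F.toFunctor.map_injective
    let E := effComp (effYo h𝒮 R x rfl) F
    have hεR : ∀ (a : R.arrows.category), R (𝒮.p.map (yoε h𝒮 x rfl a.obj)) := by
      intro a
      have h1 := yoε_lift h𝒮 x rfl a.obj
      rw [IsHomLift.fac' 𝒮.p a.obj.hom (yoε h𝒮 x rfl a.obj)]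
      simp only [eqToHom_refl, Category.comp_id]
      exact R.downward_closed a.property _
    have h1 : 𝒯.p.IsHomLift (𝒮.p.map ψ) (F.map ψ) := inferInstance
    have h2 : 𝒯.p.IsHomLift (𝒮.p.map ψ) (F.map ψ') := by rw [e]; infer_instance
    refine (E.existsUnique_desc' h𝒯 hR (𝒮.p.map ψ) (F.w_obj y) (fun a => E.ι a ≫ F.map ψ)
      (fun a => by
        have := E.lift a
        exact IsHomLift.comp 𝒯.p _ _ _ _)
      (fun f => by rw [← Category.assoc, E.nat])).unique ⟨h1, fun a => rfl⟩ ⟨h2, fun a => ?_⟩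
    change F.map (yoε h𝒮 x rfl a.obj) ≫ F.map ψ' = F.map (yoε h𝒮 x rfl a.obj) ≫ F.map ψ
    rw [← F.map_comp, ← F.map_comp, h _ (hεR a)]
  intro y g φ hφ cφ
  obtain ⟨x'', l, hl⟩ := h𝒮.exists_lift g
  have hx'' : 𝒮.p.obj x'' = 𝒮.p.obj x := IsHomLift.domain_eq 𝒮.p g l
  -- the family with values in `x''`
  have key : ∀ ⦃z : 𝒮.obj⦄ (a : z ⟶ x) (ha : R (𝒮.p.map a)), ∃ χ : z ⟶ x'',
      𝒮.p.IsHomLift (𝒮.p.map a) χ ∧ χ ≫ l = φ a ha := fun z a ha =>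
    exists_factor h𝒮 (𝒮.p.map a) rfl l (φ a ha) hl (isHomLift_of_map_eq _ (hφ a ha))
  choose φ'' hφ'' eφ'' using key
  have cφ'' : ∀ ⦃z' z : 𝒮.obj⦄ (b : z' ⟶ z) (a : z ⟶ x) (ha : R (𝒮.p.map a)) (hba : R (𝒮.p.map (b ≫ a))),
      φ'' (b ≫ a) hba = b ≫ φ'' a ha := by
    intro z' z b a ha hba
    have h1 := hφ'' (b ≫ a) hba
    have h2 := hφ'' a ha
    have h3 : 𝒮.p.IsHomLift (𝒮.p.map b ≫ 𝒮.p.map a) (b ≫ φ'' a ha) := IsHomLift.comp 𝒮.p _ _ _ _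
    rw [← 𝒮.p.map_comp] at h3
    exact cancel' h𝒮 _ l h1 h3 (by rw [Category.assoc, eφ'', eφ'', cφ])
  have hεR : ∀ (a : R.arrows.category), R (𝒮.p.map (yoε h𝒮 x rfl a.obj)) := by
    intro a
    have h1 := yoε_lift h𝒮 x rfl a.obj
    rw [IsHomLift.fac' 𝒮.p a.obj.hom (yoε h𝒮 x rfl a.obj)]
    simp only [eqToHom_refl, Category.comp_id]
    exact R.downward_closed a.property _
  let E := effComp (effYo h𝒮 R x rfl) F
  have hδ : ∀ a : R.arrows.category, 𝒮.p.IsHomLift a.obj.hom (φ'' (yoε h𝒮 x rfl a.obj) (hεR a)) := by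
    intro a
    exact isHomLift_trans (yoε_lift h𝒮 x rfl a.obj) (hφ'' (yoε h𝒮 x rfl a.obj) (hεR a))
  obtain ⟨Ψ, ⟨hΨ, eΨ⟩, -⟩ := E.existsUnique_desc' h𝒯 hR (𝟙 (𝒮.p.obj x)) ((F.w_obj x'').trans hx'')
    (fun a => F.map (φ'' (yoε h𝒮 x rfl a.obj) (hεR a)))
    (fun a => by
      rw [Category.comp_id]
      have := hδ a
      exact BasedFunctor.preserves_isHomLift F _ _)
    (fun {a b} f => by
      have e : (yo h𝒮 x rfl).map f.hom ≫ yoε h𝒮 x rfl b.obj = yoε h𝒮 x rfl a.obj :=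
        yo_map_yoε h𝒮 x rfl f.hom
      have h1 := cφ'' ((yo h𝒮 x rfl).map f.hom) (yoε h𝒮 x rfl b.obj) (hεR b) (by rw [e]; exact hεR a)
      change F.map ((yo h𝒮 x rfl).map f.hom) ≫ F.map _ = F.map _
      rw [← F.map_comp]
      congr 1
      refine h1.symm.trans ?_
      congr! 1)
  have hΨa : ∀ ⦃z : 𝒮.obj⦄ (a : z ⟶ x) (ha : R (𝒮.p.map a)), F.map a ≫ Ψ = F.map (φ'' a ha) := by
    intro z a ha
    let o : R.arrows.category := mkS (𝒮.p.map a) ha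
    obtain ⟨χ, hχ, eχ⟩ := exists_factor h𝒮 (𝟙 (𝒮.p.obj z)) (Category.id_comp (𝒮.p.map a))
      (yoε h𝒮 x rfl o.obj) a (yoε_lift h𝒮 x rfl o.obj) inferInstance
    have h1 := cφ'' χ (yoε h𝒮 x rfl o.obj) (hεR o) (by rw [eχ]; exact ha)
    have h2 : φ'' a ha = χ ≫ φ'' (yoε h𝒮 x rfl o.obj) (hεR o) := by
      rw [← h1]; congr! 1; exact eχ.symm
    have h3 : F.map (yoε h𝒮 x rfl o.obj) ≫ Ψ = F.map (φ'' (yoε h𝒮 x rfl o.obj) (hεR o)) := eΨ o
    rw [h2, F.map_comp, ← h3]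
    conv_lhs => rw [← eχ]
    rw [F.map_comp, Category.assoc]
  have hΨi : IsIso Ψ := isIso_of_lift_id h𝒯.1 Ψ hΨ
  -- the objects of the 2-fibre product
  have ht : 𝒯.p.obj (F.obj x) = 𝒮.p.obj x := F.w_obj x
  let y₀ : overCat (𝒮.p.obj x) ⥤ᵇ 𝒯 := yo h𝒯.1 (F.obj x) ht
  let T : Over (𝒮.p.obj x) := Over.mk (𝟙 (𝒮.p.obj x))
  let ε : ∀ a : Over (𝒮.p.obj x), y₀.obj a ⟶ F.obj x := fun a => yoε h𝒯.1 (F.obj x) ht a
  have hε : ∀ a, 𝒯.p.IsHomLift a.hom (ε a) := fun a => yoε_lift h𝒯.1 (F.obj x) ht a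
  have nε : ∀ {a b : Over (𝒮.p.obj x)} (f : a ⟶ b), y₀.map f ≫ ε b = ε a := fun f => yo_map_yoε h𝒯.1 (F.obj x) ht f
  have hεT : 𝒯.p.IsHomLift (𝟙 (𝒮.p.obj x)) (ε T) := hε T
  have hεTi : IsIso (ε T) := isIso_of_lift_id h𝒯.1 _ hεT
  let Bx : (fp y₀ F).obj := K751.Fp.mkObj y₀ F T x (asIso (ε T)) hεT
  let B' : (fp y₀ F).obj := K751.Fp.mkObj y₀ F T x'' (asIso (ε T ≫ Ψ)) (by
    change 𝒯.p.IsHomLift (𝟙 (𝒮.p.obj x)) (ε T ≫ Ψ)
    exact IsHomLift.comp_of_lift_id _ _ _ _)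
  have hgl := glueFrom_of_isPrestack (h3 (𝒮.p.obj x) y₀) Bx (ovS R) (ovS_mem hR)
  have hsnd : ∀ ⦃Z : (fp y₀ F).obj⦄ (A : Z ⟶ Bx), ovS R ((slB F y₀).p.map A) → R (𝒮.p.map A.hom.snd) := by
    intro Z A hA
    have h1 : R A.hom.fst.left := (Sieve.overEquiv_symm_iff _ _).1 hA
    have h2 : 𝒮.p.IsHomLift A.hom.fst.left A.hom.snd :=
      K751.Fp.isHomLift_snd _ A (CategoryTheory.IsHomLift.map (overCat (𝒮.p.obj x)).p A.hom.fst)
    have h3 : 𝒮.p.map A.hom.snd = eqToHom (IsHomLift.domain_eq 𝒮.p A.hom.fst.left A.hom.snd) ≫ A.hom.fst.left := by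
      refine (IsHomLift.fac' 𝒮.p A.hom.fst.left A.hom.snd).trans ?_
      change _ ≫ _ ≫ eqToHom (rfl : 𝒮.p.obj x = 𝒮.p.obj x) = _
      rw [eqToHom_refl, Category.comp_id]
    rw [h3]
    exact R.downward_closed h1 _
  obtain ⟨Ξ, ⟨hΞ, eΞ⟩, -⟩ := hgl (y := B') (𝟙 T)
    (fun Z A hA => K751.Fp.mkHom A.hom.fst (φ'' A.hom.snd (hsnd A hA)) (by
      have h1 := K751.Fp.hom_w A
      have h2 := hΨa A.hom.snd (hsnd A hA)
      change y₀.map A.hom.fst ≫ ε T ≫ Ψ = Z.obj.iso.hom ≫ F.map (φ'' A.hom.snd (hsnd A hA))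
      rw [← h2, ← Category.assoc, ← Category.assoc]
      exact congrArg (· ≫ Ψ) h1))
    (fun Z A hA => (Category.comp_id _).symm)
    (fun Z' Z B A hA hBA => K751.Fp.hom_ext rfl (cφ'' B.hom.snd A.hom.snd _ _))
  have hΞ2 : 𝒮.p.IsHomLift (𝟙 (𝒮.p.obj x)) Ξ.hom.snd := by
    refine K751.Fp.isHomLift_snd _ Ξ ?_
    have h1 : Ξ.hom.fst = 𝟙 T := hΞ
    rw [h1]
    exact IsHomLift.id rfl
  have hfin : ∀ ⦃z : 𝒮.obj⦄ (a : z ⟶ x) (ha : R (𝒮.p.map a)), a ≫ (Ξ.hom.snd : x ⟶ x'') = φ'' a ha := by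
    intro z a ha
    have h1 : 𝒯.p.IsHomLift (𝒮.p.map a) (F.map a) := inferInstance
    obtain ⟨e, he, ee⟩ := exists_iso_of_lifts h𝒯.1 (ε (Over.mk (𝒮.p.map a))) (F.map a) (hε _) h1
    let Z : (fp y₀ F).obj := K751.Fp.mkObj y₀ F (Over.mk (𝒮.p.map a)) z e he
    let A : Z ⟶ Bx := K751.Fp.mkHom (toTop (Over.mk (𝒮.p.map a))) a (by
      change y₀.map _ ≫ ε T = e.hom ≫ F.map a
      rw [nε, ee])
    have hA : ovS R ((slB F y₀).p.map A) := (Sieve.overEquiv_symm_iff _ _).2 (by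
      change R (toTop (Over.mk (𝒮.p.map a))).left
      exact ha)
    exact congrArg (fun t => t.hom.snd) (eΞ A hA)
  have hψ : 𝒮.p.IsHomLift g (Ξ.hom.snd ≫ l) := IsHomLift.comp_lift_id_left 𝒮.p g _ _
  refine ⟨Ξ.hom.snd ≫ l, ⟨map_eq_of_isHomLift _ hψ, fun z a ha => ?_⟩, ?_⟩
  · rw [← eφ'' a ha, ← hfin a ha]
    exact (Category.assoc _ _ _).symm
  · rintro ψ' ⟨h1, h2⟩
    refine huniq _ _ (h1.trans (map_eq_of_isHomLift _ hψ).symm) fun z a ha => ?_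
    rw [h2 a ha, ← eφ'' a ha, ← hfin a ha]
    exact Category.assoc _ _ _

/-- the comparison of the sieve category of `ovS R` with that of `R` -/
def ovObj {U : C} {R : Sieve U} (b : (ovS R).arrows.category) : R.arrows.category :=
  ⟨b.obj.left, by
    have h1 : R b.obj.hom.left := (Sieve.overEquiv_symm_iff _ _).1 b.property
    have h2 : b.obj.hom.left = b.obj.left.hom := by
      have := Over.w b.obj.hom
      simpa using this
    rw [← h2]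
    exact h1⟩

def ovMap {U : C} {R : Sieve U} {b b' : (ovS R).arrows.category} (f : b ⟶ b') : ovObj b ⟶ ovObj b' :=
  ObjectProperty.homMk f.hom.left

def ovInv {U : C} {R : Sieve U} (a : R.arrows.category) : (ovS R).arrows.category :=
  ⟨Over.mk (toTop a.obj), (Sieve.overEquiv_symm_iff _ _).2 a.property⟩

def ovInvMap {U : C} {R : Sieve U} {a a' : R.arrows.category} (f : a ⟶ a') : ovInv a ⟶ ovInv a' :=
  ObjectProperty.homMk (Over.homMk f.hom (comp_toTop f.hom))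

theorem eff_of_slB {J : GrothendieckTopology C} (h𝒯 : Stk.IsPrestack J 𝒯)
    {U : C} {R : Sieve U} (hR : R ∈ J U) (D : Stk.sieveCat R ⥤ᵇ 𝒮) (E : Eff (BasedFunctor.comp D F))
    (h3 : ∀ (y : overCat U ⥤ᵇ 𝒯), Stk.IsStack (J.over U) (slB F y)) :
    Nonempty (Eff D) := by
  let y : overCat U ⥤ᵇ 𝒯 := yo h𝒯.1 E.pt E.pt_obj
  let ε : ∀ a : Over U, y.obj a ⟶ E.pt := fun a => yoε h𝒯.1 E.pt E.pt_obj a
  have hε : ∀ a, 𝒯.p.IsHomLift a.hom (ε a) := fun a => yoε_lift h𝒯.1 E.pt E.pt_obj a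
  have nε : ∀ {a b : Over U} (f : a ⟶ b), y.map f ≫ ε b = ε a := fun f => yo_map_yoε h𝒯.1 E.pt E.pt_obj f
  have h1 : ∀ a : R.arrows.category, ∃ e : y.obj a.obj ≅ F.obj (D.obj a), 𝒯.p.IsHomLift (𝟙 a.obj.left) e.hom ∧
      e.hom ≫ E.ι a = ε a.obj := fun a => exists_iso_of_lifts h𝒯.1 (ε a.obj) (E.ι a) (hε a.obj) (E.lift a)
  choose e he ee using h1
  let obj : (ovS R).arrows.category → (fp y F).obj := fun b =>
    K751.Fp.mkObj y F b.obj.left (D.obj (ovObj b)) (e (ovObj b)) (he (ovObj b))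
  have hw : ∀ {b b' : (ovS R).arrows.category} (f : b ⟶ b'),
      y.map f.hom.left ≫ (e (ovObj b')).hom = (e (ovObj b)).hom ≫ F.map (D.map (ovMap f)) := by
    intro b b' f
    have h1 : 𝒯.p.IsHomLift (𝟙 b.obj.left.left) (e (ovObj b)).hom := he (ovObj b)
    have h2 : 𝒯.p.IsHomLift (𝟙 b'.obj.left.left) (e (ovObj b')).hom := he (ovObj b')
    have h3 : 𝒯.p.IsHomLift f.hom.left.left (y.map f.hom.left) := by
      have : (overCat U).p.IsHomLift f.hom.left.left f.hom.left :=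
        CategoryTheory.IsHomLift.map (overCat U).p f.hom.left
      exact BasedFunctor.preserves_isHomLift y _ f.hom.left
    have h4 : 𝒯.p.IsHomLift f.hom.left.left (F.map (D.map (ovMap f))) := by
      have : (Stk.sieveCat R).p.IsHomLift f.hom.left.left (ovMap f) :=
        CategoryTheory.IsHomLift.map (Stk.sieveCat R).p (ovMap f)
      have h5 := BasedFunctor.preserves_isHomLift D f.hom.left.left (ovMap f)
      exact BasedFunctor.preserves_isHomLift F f.hom.left.left (D.map (ovMap f))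
    refine cancel' h𝒯.1 f.hom.left.left (E.ι (ovObj b')) ?_ ?_ ?_
    · exact IsHomLift.comp_lift_id_right 𝒯.p f.hom.left.left (y.map f.hom.left) (e (ovObj b')).hom
    · exact IsHomLift.comp_lift_id_left 𝒯.p f.hom.left.left (F.map (D.map (ovMap f))) (e (ovObj b)).hom
    · rw [Category.assoc, Category.assoc, ee]
      have h6 : F.map (D.map (ovMap f)) ≫ E.ι (ovObj b') = E.ι (ovObj b) := E.nat (ovMap f)
      rw [h6, ee]
      exact nε f.hom.left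
  let D' : Stk.sieveCat (ovS R) ⥤ᵇ slB F y :=
    mkFunctor (𝒳 := Stk.sieveCat (ovS R)) (𝒴 := slB F y) obj
      (fun {b b'} f => (K751.Fp.mkHom (X := obj b) (Y := obj b') f.hom.left (D.map (ovMap f)) (hw f)))
      (fun {b b'} f => CategoryTheory.IsHomLift.map (slB F y).p
        (K751.Fp.mkHom (X := obj b) (Y := obj b') f.hom.left (D.map (ovMap f)) (hw f)))
      (fun b => K751.Fp.hom_ext rfl (D.map_id (ovObj b)))
      (fun f g => K751.Fp.hom_ext rfl (D.map_comp (ovMap f) (ovMap g)))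
  obtain ⟨E'⟩ := exists_eff (h3 y) (ovS_mem hR) D'
  refine ⟨⟨E'.pt.obj.snd, fun a => (E'.ι (ovInv a)).hom.snd, fun a => ?_, fun {a b} f => ?_, ?_⟩⟩
  · have h1 : (slB F y).p.IsHomLift (toTop a.obj) (E'.ι (ovInv a)) := E'.lift (ovInv a)
    have h2 := isHomLift_left (slB F y).p (toTop a.obj) (E'.ι (ovInv a)) h1
    exact K751.Fp.isHomLift_snd _ _ ((K751.Fp.isHomLift_iff a.obj.hom (E'.ι (ovInv a))).1 h2)
  · exact congrArg (fun t => t.hom.snd) (E'.nat (ovInvMap f))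
  · have h1 := K751.Fp.snd_obj E'.pt
    have h2 : E'.pt.obj.fst = Over.mk (𝟙 U) := E'.pt_obj
    refine h1.trans ?_
    change E'.pt.obj.fst.left = U
    rw [h2]
    rfl

/-- S12809 in all universes -/
theorem isStack_of_slB {J : GrothendieckTopology C} (h𝒮 : IsFibGrpd 𝒮.p) (h𝒯 : Stk.IsStack J 𝒯)
    (F : 𝒮 ⥤ᵇ 𝒯) [F.toFunctor.Faithful]
    (h3 : ∀ (U : C) (y : overCat U ⥤ᵇ 𝒯), Stk.IsStack (J.over U) (slB F y)) :
    Stk.IsStack J 𝒮 := by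
  rw [isStack_iff]
  refine ⟨isPrestack_of_slB h𝒮 (isPrestack_of_isStack h𝒯) (fun U y => isPrestack_of_isStack (h3 U y)),
    fun U R hR D => ?_⟩
  obtain ⟨E⟩ := exists_eff h𝒯 hR (BasedFunctor.comp D F)
  exact eff_of_slB (isPrestack_of_isStack h𝒯) hR D E (h3 U)

end K751.Slice
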