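import Groth.Prelude.Def_FibCat2

/-!
# Elementary calculus of categories fibred in groupoids (seat 751)

`K751.FG`: lifts, unique factorisations and isomorphisms in a category fibred in groupoids
`p : 𝒳 ⥤ C`, in `IsHomLift` form and in `p.map` form; constructor of based functors and based
natural transformations from `IsHomLift` data.
-/

set_option autoImplicit false
set_option backward.isDefEq.respectTransparency false
set_option backward.isDefEq.respectTransparency.types false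

universe v₄ u₄ v₃ u₃ v₂ u₂ v u

open CategoryTheory Functor

namespace K751.FG

variable {C : Type u} [Category.{v} C]

section Plain

variable {𝒳 : Type u₂} [Category.{v₂} 𝒳] {p : 𝒳 ⥤ C}

/-- every lift in a category fibred in groupoids is strongly cartesian -/
theorem isStronglyCartesian (hp : FibCat.IsFibGrpd p) {R S : C} {a b : 𝒳} (f : R ⟶ S) (φ : a ⟶ b)
    [h : p.IsHomLift f φ] : p.IsStronglyCartesian f φ := by
  obtain ⟨⟩ := h
  exact hp.isStronglyCartesian φ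

/-- existence of lifts, flexible form -/
theorem exists_lift (hp : FibCat.IsFibGrpd p) {V U : C} {x : 𝒳} (hx : p.obj x = U) (f : V ⟶ U) :
    ∃ (y : 𝒳) (φ : y ⟶ x), p.IsHomLift f φ := by
  subst hx
  exact hp.exists_lift f

/-- unique factorisation, flexible form -/
theorem existsUnique_factor (hp : FibCat.IsFibGrpd p) {U V W : C} {x y z : 𝒳} {f : V ⟶ U} {h : W ⟶ U}
    (g : W ⟶ V) (e : g ≫ f = h) (φ : y ⟶ x) (ψ : z ⟶ x) (hφ : p.IsHomLift f φ) (hψ : p.IsHomLift h ψ) :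
    ∃! χ : z ⟶ y, p.IsHomLift g χ ∧ χ ≫ φ = ψ := by
  have := isStronglyCartesian hp f φ
  exact IsStronglyCartesian.universal_property p f φ g h e.symm ψ

/-- the factorisation, flexible form -/
theorem exists_factor (hp : FibCat.IsFibGrpd p) {U V W : C} {x y z : 𝒳} {f : V ⟶ U} {h : W ⟶ U}
    (g : W ⟶ V) (e : g ≫ f = h) (φ : y ⟶ x) (ψ : z ⟶ x) (hφ : p.IsHomLift f φ) (hψ : p.IsHomLift h ψ) :
    ∃ χ : z ⟶ y, p.IsHomLift g χ ∧ χ ≫ φ = ψ :=
  (existsUnique_factor hp g e φ ψ hφ hψ).exists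

/-- the chosen factorisation -/
noncomputable def factor (hp : FibCat.IsFibGrpd p) {U V W : C} {x y z : 𝒳} {f : V ⟶ U} {h : W ⟶ U}
    (g : W ⟶ V) (e : g ≫ f = h) (φ : y ⟶ x) (ψ : z ⟶ x) (hφ : p.IsHomLift f φ) (hψ : p.IsHomLift h ψ) :
    z ⟶ y := (exists_factor hp g e φ ψ hφ hψ).choose

theorem factor_lift (hp : FibCat.IsFibGrpd p) {U V W : C} {x y z : 𝒳} {f : V ⟶ U} {h : W ⟶ U}
    (g : W ⟶ V) (e : g ≫ f = h) (φ : y ⟶ x) (ψ : z ⟶ x) (hφ : p.IsHomLift f φ) (hψ : p.IsHomLift h ψ) :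
    p.IsHomLift g (factor hp g e φ ψ hφ hψ) := (exists_factor hp g e φ ψ hφ hψ).choose_spec.1

@[reassoc]
theorem factor_fac (hp : FibCat.IsFibGrpd p) {U V W : C} {x y z : 𝒳} {f : V ⟶ U} {h : W ⟶ U}
    (g : W ⟶ V) (e : g ≫ f = h) (φ : y ⟶ x) (ψ : z ⟶ x) (hφ : p.IsHomLift f φ) (hψ : p.IsHomLift h ψ) :
    factor hp g e φ ψ hφ hψ ≫ φ = ψ := (exists_factor hp g e φ ψ hφ hψ).choose_spec.2

/-- two morphisms with the same image in the base and the same composite with some morphism agree -/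
theorem cancel (hp : FibCat.IsFibGrpd p) {x y z : 𝒳} (φ : y ⟶ x) {χ χ' : z ⟶ y}
    (h : p.map χ = p.map χ') (e : χ ≫ φ = χ' ≫ φ) : χ = χ' := by
  have := hp.isStronglyCartesian φ
  have h1 : p.IsHomLift (p.map χ) χ' := h ▸ inferInstance
  exact IsStronglyCartesian.ext p (p.map φ) φ (p.map χ) e

/-- two lifts of one morphism with the same composite with some morphism agree -/
theorem cancel' (hp : FibCat.IsFibGrpd p) {W V : C} (g : W ⟶ V) {x y z : 𝒳} (φ : y ⟶ x) {χ χ' : z ⟶ y}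
    (h : p.IsHomLift g χ) (h' : p.IsHomLift g χ') (e : χ ≫ φ = χ' ≫ φ) : χ = χ' := by
  refine cancel hp φ ?_ e
  rw [IsHomLift.fac' p g χ, IsHomLift.fac' p g χ']

/-- factorisation in `p.map` form -/
theorem exists_factor_map (hp : FibCat.IsFibGrpd p) {x y z : 𝒳} (φ : y ⟶ x) (ψ : z ⟶ x)
    (g : p.obj z ⟶ p.obj y) (h : g ≫ p.map φ = p.map ψ) : ∃ χ : z ⟶ y, p.map χ = g ∧ χ ≫ φ = ψ := by
  obtain ⟨χ, hχ, e⟩ := exists_factor hp g h φ ψ inferInstance inferInstance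
  exact ⟨χ, (IsHomLift.eq_of_isHomLift p g χ).symm, e⟩

/-- a morphism over an isomorphism is an isomorphism -/
theorem isIso_of_map (hp : FibCat.IsFibGrpd p) {x y : 𝒳} (φ : y ⟶ x) [IsIso (p.map φ)] : IsIso φ := by
  have := hp.isStronglyCartesian φ
  exact IsStronglyCartesian.isIso_of_base_isIso p (p.map φ) φ

/-- a morphism lifting an isomorphism is an isomorphism -/
theorem isIso_of_isHomLift (hp : FibCat.IsFibGrpd p) {U V : C} (f : V ⟶ U) [IsIso f] {x y : 𝒳}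
    (φ : y ⟶ x) (h : p.IsHomLift f φ) : IsIso φ := by
  have := isStronglyCartesian hp f φ
  exact IsStronglyCartesian.isIso_of_base_isIso p f φ

/-- a morphism lifting an identity is an isomorphism -/
theorem isIso_of_lift_id (hp : FibCat.IsFibGrpd p) {U : C} {x y : 𝒳}
    (φ : y ⟶ x) (h : p.IsHomLift (𝟙 U) φ) : IsIso φ :=
  isIso_of_isHomLift hp (𝟙 U) φ h

/-- `IsHomLift` of a morphism in `p.map` form -/
theorem isHomLift_of_map_eq {x y : 𝒳} (φ : y ⟶ x) {g : p.obj y ⟶ p.obj x} (h : p.map φ = g) :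
    p.IsHomLift g φ := h ▸ inferInstance

theorem map_eq_of_isHomLift {x y : 𝒳} (φ : y ⟶ x) {g : p.obj y ⟶ p.obj x} (h : p.IsHomLift g φ) :
    p.map φ = g := (IsHomLift.eq_of_isHomLift p g φ).symm

/-- if `φ ≫ ψ` and `ψ` lift, so does `φ`, provided the base satisfies the cancellation -/
theorem isHomLift_congr {R S : C} {a b : 𝒳} {f g : R ⟶ S} {φ : a ⟶ b} (h : p.IsHomLift f φ) (e : f = g) :
    p.IsHomLift g φ := e ▸ h

/-- isomorphic objects of the base: the isomorphism given by two lifts of one morphism -/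
theorem exists_iso_of_lifts (hp : FibCat.IsFibGrpd p) {V U : C} {f : V ⟶ U} {x y y' : 𝒳} (φ : y ⟶ x)
    (φ' : y' ⟶ x) (h : p.IsHomLift f φ) (h' : p.IsHomLift f φ') :
    ∃ e : y ≅ y', p.IsHomLift (𝟙 V) e.hom ∧ e.hom ≫ φ' = φ := by
  obtain ⟨χ, hχ, e⟩ := exists_factor hp (𝟙 V) (by simp) φ' φ h' h
  have := isIso_of_lift_id hp χ hχ
  exact ⟨asIso χ, hχ, e⟩

end Plain

section Based

variable {𝒳 : BasedCategory.{v₂, u₂} C} {𝒴 : BasedCategory.{v₃, u₃} C}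

/-- Constructor of functors over `C` in `IsHomLift` form. -/
def mkFunctor (obj : 𝒳.obj → 𝒴.obj) (map : ∀ {a b : 𝒳.obj} (_ : a ⟶ b), obj a ⟶ obj b)
    (hmap : ∀ {a b : 𝒳.obj} (f : a ⟶ b), 𝒴.p.IsHomLift (𝒳.p.map f) (map f))
    (map_id : ∀ a, map (𝟙 a) = 𝟙 (obj a))
    (map_comp : ∀ {a b c : 𝒳.obj} (f : a ⟶ b) (g : b ⟶ c), map (f ≫ g) = map f ≫ map g) :
    𝒳 ⥤ᵇ 𝒴 where
  toFunctor :=
    { obj := obj
      map := fun f => map f
      map_id := map_id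
      map_comp := fun f g => map_comp f g }
  w := Functor.ext (fun a => by
      have := hmap (𝟙 a)
      exact IsHomLift.domain_eq 𝒴.p (𝒳.p.map (𝟙 a)) (map (𝟙 a)))
    (fun a b f => by
      have := hmap f
      exact IsHomLift.fac' 𝒴.p (𝒳.p.map f) (map f))

/-- Constructor of 2-morphisms over `C`. -/
def mkNatTrans {F G : 𝒳 ⥤ᵇ 𝒴} (app : ∀ a : 𝒳.obj, F.obj a ⟶ G.obj a)
    (happ : ∀ a, 𝒴.p.IsHomLift (𝟙 (𝒳.p.obj a)) (app a))
    (naturality : ∀ {a b : 𝒳.obj} (f : a ⟶ b), F.map f ≫ app b = app a ≫ G.map f) : F ⟶ G where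
  toNatTrans := { app := app, naturality := fun _ _ f => naturality f }
  isHomLift' := happ

@[simp] theorem mkFunctor_obj (obj : 𝒳.obj → 𝒴.obj) (map : ∀ {a b : 𝒳.obj} (_ : a ⟶ b), obj a ⟶ obj b)
    (hmap map_id map_comp) (a : 𝒳.obj) :
    (mkFunctor (𝒳 := 𝒳) (𝒴 := 𝒴) obj map hmap map_id map_comp).obj a = obj a := rfl

@[simp] theorem mkFunctor_map (obj : 𝒳.obj → 𝒴.obj) (map : ∀ {a b : 𝒳.obj} (_ : a ⟶ b), obj a ⟶ obj b)
    (hmap map_id map_comp) {a b : 𝒳.obj} (f : a ⟶ b) :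
    (mkFunctor (𝒳 := 𝒳) (𝒴 := 𝒴) obj map hmap map_id map_comp).map f = map f := rfl

@[simp] theorem mkNatTrans_app {F G : 𝒳 ⥤ᵇ 𝒴} (app : ∀ a : 𝒳.obj, F.obj a ⟶ G.obj a) (happ naturality)
    (a : 𝒳.obj) : (mkNatTrans (F := F) (G := G) app happ naturality).toNatTrans.app a = app a := rfl

/-- 2-morphisms over `C` agree when their components do -/
theorem natTrans_ext {F G : 𝒳 ⥤ᵇ 𝒴} {α β : F ⟶ G} (h : ∀ a, α.toNatTrans.app a = β.toNatTrans.app a) :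
    α = β := BasedNatTrans.ext _ _ (NatTrans.ext (funext h))

theorem natTrans_app_eq {F G : 𝒳 ⥤ᵇ 𝒴} {α β : F ⟶ G} (h : α = β) (a : 𝒳.obj) :
    α.toNatTrans.app a = β.toNatTrans.app a := by rw [h]

@[reassoc]
theorem nat {F G : 𝒳 ⥤ᵇ 𝒴} (α : F ⟶ G) {a b : 𝒳.obj} (f : a ⟶ b) :
    F.map f ≫ α.toNatTrans.app b = α.toNatTrans.app a ≫ G.map f := α.toNatTrans.naturality f

/-- every 2-morphism into functors with target fibred in groupoids is invertible -/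
theorem isIso_natTrans (h𝒴 : FibCat.IsFibGrpd 𝒴.p) {F G : 𝒳 ⥤ᵇ 𝒴} (α : F ⟶ G) : IsIso α := by
  have : ∀ a, IsIso (α.toNatTrans.app a) := fun a => isIso_of_lift_id h𝒴 _ (α.isHomLift' a)
  have : IsIso (X := F.toFunctor) α.toNatTrans := NatIso.isIso_of_isIso_app _
  exact BasedNatIso.isIso_of_toNatTrans_isIso α

/-- `G ⟶ H` over `C` obtained from two cocones with the same vertex over the same morphisms -/
noncomputable def natOfCocones (h𝒴 : FibCat.IsFibGrpd 𝒴.p) {G H : 𝒳 ⥤ᵇ 𝒴} {U : C}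
    (t : ∀ a, 𝒳.p.obj a ⟶ U) {y : 𝒴.obj} (δ : ∀ a, G.obj a ⟶ y) (ε : ∀ a, H.obj a ⟶ y)
    (hδ : ∀ a, 𝒴.p.IsHomLift (t a) (δ a)) (hε : ∀ a, 𝒴.p.IsHomLift (t a) (ε a))
    (nδ : ∀ {a b : 𝒳.obj} (f : a ⟶ b), G.map f ≫ δ b = δ a)
    (nε : ∀ {a b : 𝒳.obj} (f : a ⟶ b), H.map f ≫ ε b = ε a) : G ⟶ H :=
  mkNatTrans (fun a => factor h𝒴 (𝟙 _) (Category.id_comp (t a)) (ε a) (δ a) (hε a) (hδ a))
    (fun a => factor_lift h𝒴 (𝟙 _) (Category.id_comp (t a)) (ε a) (δ a) (hε a) (hδ a))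
    (fun {a b} f => by
      have h1 := factor_lift h𝒴 (𝟙 _) (Category.id_comp (t a)) (ε a) (δ a) (hε a) (hδ a)
      have h2 := factor_lift h𝒴 (𝟙 _) (Category.id_comp (t b)) (ε b) (δ b) (hε b) (hδ b)
      refine cancel' h𝒴 (𝒳.p.map f) (ε b) inferInstance inferInstance ?_
      rw [Category.assoc, Category.assoc, factor_fac, nδ, nε, factor_fac])

@[reassoc]
theorem natOfCocones_app (h𝒴 : FibCat.IsFibGrpd 𝒴.p) {G H : 𝒳 ⥤ᵇ 𝒴} {U : C}
    (t : ∀ a, 𝒳.p.obj a ⟶ U) {y : 𝒴.obj} (δ : ∀ a, G.obj a ⟶ y) (ε : ∀ a, H.obj a ⟶ y)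
    (hδ : ∀ a, 𝒴.p.IsHomLift (t a) (δ a)) (hε : ∀ a, 𝒴.p.IsHomLift (t a) (ε a))
    (nδ : ∀ {a b : 𝒳.obj} (f : a ⟶ b), G.map f ≫ δ b = δ a)
    (nε : ∀ {a b : 𝒳.obj} (f : a ⟶ b), H.map f ≫ ε b = ε a) (a : 𝒳.obj) :
    (natOfCocones h𝒴 t δ ε hδ hε nδ nε).toNatTrans.app a ≫ ε a = δ a :=
  factor_fac h𝒴 (𝟙 _) (Category.id_comp (t a)) (ε a) (δ a) (hε a) (hδ a)

end Based

end K751.FG
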