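import Groth.Prelude.Def_AlgSt
import Groth.Agent.Stk.K751.FG

/-!
# The prestack and stack conditions in elementary form (seat 751)

For `𝒳` fibred in groupoids over `C`:
* `K751.Test.yo` — the functor `C/U ⟶ 𝒳` attached to an object over `U`, with its cocone `yoε`.
* `K751.Test.GlueFrom p x R` — morphisms out of `x` glue along the sieve `R` on `p x`.
* `K751.Test.isPrestackFor_iff`, `K751.Test.isPrestack_iff`.
* `K751.Test.Eff D` — an object with a cocone from the descent datum `D : sieveCat R ⥤ᵇ 𝒳` over the canonical one.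
* `K751.Test.isStackFor_iff`, `K751.Test.isStack_iff`: prestack + every `D` has an `Eff D`.
* `K751.Test.Eff.desc` — an `Eff D` is a relative colimit of `D` (in a prestack).
-/

set_option autoImplicit false
set_option backward.isDefEq.respectTransparency false
set_option backward.isDefEq.respectTransparency.types false

universe v₄ u₄ v₃ u₃ v₂ u₂ v u

open CategoryTheory Functor K751.FG

namespace K751.Test

variable {C : Type u} [Category.{v} C]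

section Yo

variable {𝒳 : BasedCategory.{v₂, u₂} C} (h𝒳 : FibCat.IsFibGrpd 𝒳.p) {U : C} (x : 𝒳.obj)
  (hx : 𝒳.p.obj x = U)

/-- chosen lifts of all arrows to `U` at `x` -/
noncomputable def yoObj (a : Over U) : 𝒳.obj := (exists_lift h𝒳 hx a.hom).choose

noncomputable def yoε' (a : Over U) : yoObj h𝒳 x hx a ⟶ x := (exists_lift h𝒳 hx a.hom).choose_spec.choose

theorem yoε'_lift (a : Over U) : 𝒳.p.IsHomLift a.hom (yoε' h𝒳 x hx a) :=
  (exists_lift h𝒳 hx a.hom).choose_spec.choose_spec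

/-- the functor `C/U ⟶ 𝒳` over `C` attached to the object `x` over `U` (2-Yoneda) -/
noncomputable def yo : FibCat.overCat U ⥤ᵇ 𝒳 :=
  mkFunctor (𝒳 := FibCat.overCat U) (fun a => yoObj h𝒳 x hx a)
    (fun {a b} f => factor h𝒳 f.left (Over.w f) (yoε' h𝒳 x hx b) (yoε' h𝒳 x hx a) (yoε'_lift h𝒳 x hx b)
      (yoε'_lift h𝒳 x hx a))
    (fun {a b} f => factor_lift h𝒳 f.left (Over.w f) (yoε' h𝒳 x hx b) (yoε' h𝒳 x hx a) (yoε'_lift h𝒳 x hx b)
      (yoε'_lift h𝒳 x hx a))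
    (fun a => by
      have h1 := factor_lift h𝒳 (𝟙 a : a ⟶ a).left (Over.w (𝟙 a)) (yoε' h𝒳 x hx a) (yoε' h𝒳 x hx a)
        (yoε'_lift h𝒳 x hx a) (yoε'_lift h𝒳 x hx a)
      have h3 := yoε'_lift h𝒳 x hx a
      have h2 : 𝒳.p.IsHomLift (𝟙 a : a ⟶ a).left (𝟙 (yoObj h𝒳 x hx a)) :=
        IsHomLift.id (IsHomLift.domain_eq 𝒳.p a.hom (yoε' h𝒳 x hx a))
      refine cancel' h𝒳 _ (yoε' h𝒳 x hx a) h1 h2 ?_
      rw [factor_fac, Category.id_comp])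
    (fun {a b c} f g => by
      have h1 := factor_lift h𝒳 (f ≫ g).left (Over.w (f ≫ g)) (yoε' h𝒳 x hx c) (yoε' h𝒳 x hx a)
        (yoε'_lift h𝒳 x hx c) (yoε'_lift h𝒳 x hx a)
      have h2 := factor_lift h𝒳 f.left (Over.w f) (yoε' h𝒳 x hx b) (yoε' h𝒳 x hx a)
        (yoε'_lift h𝒳 x hx b) (yoε'_lift h𝒳 x hx a)
      have h3 := factor_lift h𝒳 g.left (Over.w g) (yoε' h𝒳 x hx c) (yoε' h𝒳 x hx b)
        (yoε'_lift h𝒳 x hx c) (yoε'_lift h𝒳 x hx b)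
      have h4 := IsHomLift.comp 𝒳.p f.left g.left (factor h𝒳 f.left (Over.w f) (yoε' h𝒳 x hx b)
        (yoε' h𝒳 x hx a) (yoε'_lift h𝒳 x hx b) (yoε'_lift h𝒳 x hx a)) (factor h𝒳 g.left (Over.w g)
        (yoε' h𝒳 x hx c) (yoε' h𝒳 x hx b) (yoε'_lift h𝒳 x hx c) (yoε'_lift h𝒳 x hx b))
      refine cancel' h𝒳 _ (yoε' h𝒳 x hx c) h1 h4 ?_
      rw [Category.assoc, factor_fac, factor_fac, factor_fac])

/-- the cocone from `yo x` to `x` -/
noncomputable def yoε (a : Over U) : (yo h𝒳 x hx).obj a ⟶ x := yoε' h𝒳 x hx a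

theorem yoε_lift (a : Over U) : 𝒳.p.IsHomLift a.hom (yoε h𝒳 x hx a) := yoε'_lift h𝒳 x hx a

@[reassoc]
theorem yo_map_yoε {a b : Over U} (f : a ⟶ b) :
    (yo h𝒳 x hx).map f ≫ yoε h𝒳 x hx b = yoε h𝒳 x hx a :=
  factor_fac h𝒳 f.left (Over.w f) (yoε' h𝒳 x hx b) (yoε' h𝒳 x hx a) (yoε'_lift h𝒳 x hx b)
      (yoε'_lift h𝒳 x hx a)

end Yo

section Top

variable {𝒳 : BasedCategory.{v₂, u₂} C} {U : C} (G : FibCat.overCat U ⥤ᵇ 𝒳)

/-- the morphism to the terminal object of `C/U` -/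
def toTop (a : Over U) : a ⟶ Over.mk (𝟙 U) := Over.homMk a.hom (by simp)

theorem comp_toTop {a b : Over U} (f : a ⟶ b) : f ≫ toTop b = toTop a := by
  apply Over.OverMorphism.ext
  simp [toTop]

/-- the value of `G : C/U ⟶ 𝒳` at `𝟙 U` -/
def top : 𝒳.obj := G.obj (Over.mk (𝟙 U))

theorem top_obj : 𝒳.p.obj (top G) = U := G.w_obj (Over.mk (𝟙 U))

/-- the canonical cocone of a functor `C/U ⟶ 𝒳` with vertex its value at `𝟙 U` -/
def topε (a : Over U) : G.obj a ⟶ top G := G.map (toTop a)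

theorem topε_lift (a : Over U) : 𝒳.p.IsHomLift a.hom (topε G a) := by
  have : (FibCat.overCat U).p.IsHomLift a.hom (toTop a) :=
    IsHomLift.map (FibCat.overCat U).p (toTop a)
  exact BasedFunctor.preserves_isHomLift G a.hom (toTop a)

@[reassoc]
theorem map_topε {a b : Over U} (f : a ⟶ b) : G.map f ≫ topε G b = topε G a := by
  rw [topε, topε, ← G.map_comp]
  congr 1
  exact comp_toTop f

@[reassoc]
theorem nat_topε {G H : FibCat.overCat U ⥤ᵇ 𝒳} (α : G ⟶ H) (a : Over U) :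
    topε G a ≫ (α.toNatTrans.app (Over.mk (𝟙 U)) : top G ⟶ top H) = α.toNatTrans.app a ≫ topε H a :=
  α.toNatTrans.naturality (toTop a)

end Top

section Glue

/-- Morphisms out of the object `x` glue along the sieve `R` on `p x`: for every `y` and `g : p x ⟶ p y`,
a compatible family of morphisms `φ a : z ⟶ y` over `p a ≫ g`, for `a : z ⟶ x` with `p a ∈ R`, is
`φ a = a ≫ ψ` for exactly one `ψ : x ⟶ y` over `g`. -/
def GlueFrom {𝒳 : Type u₂} [Category.{v₂} 𝒳] (p : 𝒳 ⥤ C) (x : 𝒳) (R : Sieve (p.obj x)) : Prop :=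
  ∀ ⦃y : 𝒳⦄ (g : p.obj x ⟶ p.obj y) (φ : ∀ ⦃z : 𝒳⦄ (a : z ⟶ x), R (p.map a) → (z ⟶ y)),
    (∀ ⦃z : 𝒳⦄ (a : z ⟶ x) (ha : R (p.map a)), p.map (φ a ha) = p.map a ≫ g) →
    (∀ ⦃z' z : 𝒳⦄ (b : z' ⟶ z) (a : z ⟶ x) (ha : R (p.map a)) (hba : R (p.map (b ≫ a))),
      φ (b ≫ a) hba = b ≫ φ a ha) →
    ∃! ψ : x ⟶ y, p.map ψ = g ∧ ∀ ⦃z : 𝒳⦄ (a : z ⟶ x) (ha : R (p.map a)), a ≫ ψ = φ a ha

/-- uniqueness part -/
theorem GlueFrom.ext {𝒳 : Type u₂} [Category.{v₂} 𝒳] {p : 𝒳 ⥤ C} {x : 𝒳} {R : Sieve (p.obj x)}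
    (h : GlueFrom p x R) {y : 𝒳} {ψ ψ' : x ⟶ y} (e : p.map ψ = p.map ψ')
    (hψ : ∀ ⦃z : 𝒳⦄ (a : z ⟶ x), R (p.map a) → a ≫ ψ = a ≫ ψ') : ψ = ψ' :=
  (h (p.map ψ) (fun z a _ => a ≫ ψ) (by intros; simp) (by intros; simp)).unique
    ⟨rfl, by intros; rfl⟩ ⟨e.symm, fun z a ha => (hψ a ha).symm⟩

variable {𝒳 : BasedCategory.{v₂, u₂} C}

/-- An effective descent datum: a cocone of `D : sieveCat R ⥤ᵇ 𝒳` lying over the canonical cocone. -/
structure Eff {U : C} {R : Sieve U} (D : Stk.sieveCat R ⥤ᵇ 𝒳) where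
  pt : 𝒳.obj
  ι : ∀ a : R.arrows.category, D.obj a ⟶ pt
  lift : ∀ a : R.arrows.category, 𝒳.p.IsHomLift a.obj.hom (ι a)
  nat : ∀ {a b : R.arrows.category} (f : a ⟶ b), D.map f ≫ ι b = ι a
  pt_obj : 𝒳.p.obj pt = U

attribute [reassoc] Eff.nat

/-- the cocone of the restriction of a functor `C/U ⟶ 𝒳` -/
def effOfFunctor {U : C} (R : Sieve U) (G : FibCat.overCat U ⥤ᵇ 𝒳) : Eff ((Stk.resSieve R 𝒳).obj G) where
  pt := top G
  ι a := topε G a.obj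
  lift a := topε_lift G a.obj
  nat f := map_topε G f.hom
  pt_obj := top_obj G

/-- the object of the sieve category attached to an arrow of the sieve -/
abbrev mkS {U V : C} {R : Sieve U} (f : V ⟶ U) (hf : R f) : R.arrows.category := ⟨Over.mk f, hf⟩

/-- a morphism of the sieve category -/
abbrev homS {U : C} {R : Sieve U} {a b : R.arrows.category} (h : a.obj.left ⟶ b.obj.left)
    (w : h ≫ b.obj.hom = a.obj.hom) : a ⟶ b := ObjectProperty.homMk (Over.homMk h w)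

theorem map_homS_lift {U : C} {R : Sieve U} (D : Stk.sieveCat R ⥤ᵇ 𝒳) {a b : R.arrows.category}
    (h : a.obj.left ⟶ b.obj.left) (w : h ≫ b.obj.hom = a.obj.hom) :
    𝒳.p.IsHomLift h (D.map (homS h w)) := by
  have : (Stk.sieveCat R).p.IsHomLift h (homS h w) := IsHomLift.map (Stk.sieveCat R).p (homS h w)
  exact BasedFunctor.preserves_isHomLift D h (homS h w)

theorem D_obj {U : C} {R : Sieve U} (D : Stk.sieveCat R ⥤ᵇ 𝒳) (a : R.arrows.category) :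
    𝒳.p.obj (D.obj a) = a.obj.left := D.w_obj a

/-- two morphisms to the vertex of an `Eff` through the datum: comparison -/
theorem Eff.exists_fac (h𝒳 : FibCat.IsFibGrpd 𝒳.p) {U : C} {R : Sieve U} {D : Stk.sieveCat R ⥤ᵇ 𝒳}
    (E : Eff D) {z : 𝒳.obj} (a : z ⟶ E.pt) {V : C} (f : V ⟶ U) (hf : R f) (ha : 𝒳.p.IsHomLift f a) :
    ∃ χ : z ⟶ D.obj (mkS f hf), 𝒳.p.IsHomLift (𝟙 V) χ ∧ χ ≫ E.ι (mkS f hf) = a :=
  exists_factor h𝒳 (𝟙 V) (by simp) (E.ι (mkS f hf)) a (E.lift (mkS f hf)) ha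

/-- An `Eff D` is a relative colimit of `D` as soon as morphisms glue. -/
theorem Eff.existsUnique_desc (h𝒳 : FibCat.IsFibGrpd 𝒳.p) {U : C} {R : Sieve U} {D : Stk.sieveCat R ⥤ᵇ 𝒳}
    (E : Eff D) (hE : GlueFrom 𝒳.p E.pt (R.pullback (eqToHom E.pt_obj))) {y : 𝒳.obj} {T : C} (g : U ⟶ T)
    (hy : 𝒳.p.obj y = T)
    (δ : ∀ a : R.arrows.category, D.obj a ⟶ y) (hδ : ∀ a, 𝒳.p.IsHomLift (a.obj.hom ≫ g) (δ a))
    (nδ : ∀ {a b : R.arrows.category} (f : a ⟶ b), D.map f ≫ δ b = δ a) :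
    ∃! ψ : E.pt ⟶ y, 𝒳.p.IsHomLift g ψ ∧ ∀ a, E.ι a ≫ ψ = δ a := by
  obtain ⟨x, ι, hι, nι, rfl⟩ := E
  subst hy
  have hR : R.pullback (eqToHom (rfl : 𝒳.p.obj x = 𝒳.p.obj x)) = R := by simp
  simp only at hE
  rw [hR] at hE
  -- the objects attached to a morphism to `x`
  have key : ∀ ⦃z : 𝒳.obj⦄ (a : z ⟶ x) (ha : R (𝒳.p.map a)), ∃ χ : z ⟶ D.obj (mkS (𝒳.p.map a) ha),
      𝒳.p.IsHomLift (𝟙 (𝒳.p.obj z)) χ ∧ χ ≫ ι (mkS (𝒳.p.map a) ha) = a := fun z a ha =>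
    exists_factor h𝒳 (𝟙 (𝒳.p.obj z)) (Category.id_comp (𝒳.p.map a)) (ι (mkS (𝒳.p.map a) ha)) a
      (hι (mkS (𝒳.p.map a) ha)) inferInstance
  choose χ hχ eχ using key
  -- the family
  have fam : ∀ ⦃z : 𝒳.obj⦄ (o : R.arrows.category) (c : z ⟶ D.obj o) (a : z ⟶ x) (_ : c ≫ ι o = a)
      (ha : R (𝒳.p.map a)), χ a ha ≫ δ (mkS (𝒳.p.map a) ha) = c ≫ δ o := by
    intro z o c a ea ha
    have ho : 𝒳.p.IsHomLift o.obj.hom (ι o) := hι o
    have hD : 𝒳.p.obj (D.obj o) = o.obj.left := D_obj D o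
    have e1 : (𝒳.p.map c ≫ eqToHom hD) ≫ o.obj.hom = 𝒳.p.map a := by
      rw [← ea, 𝒳.p.map_comp, IsHomLift.fac' 𝒳.p o.obj.hom (ι o)]
      simp
    let s : mkS (𝒳.p.map a) ha ⟶ o :=
      homS (a := mkS (𝒳.p.map a) ha) (b := o) (𝒳.p.map c ≫ eqToHom hD) e1
    have hs : 𝒳.p.IsHomLift (𝒳.p.map c ≫ eqToHom hD) (D.map s) :=
      map_homS_lift D (a := mkS (𝒳.p.map a) ha) (b := o) _ e1
    have hc : 𝒳.p.IsHomLift (𝒳.p.map c ≫ eqToHom hD) c := by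
      rw [IsHomLift.lift_comp_eqToHom_iff]; infer_instance
    have h2 : χ a ha ≫ D.map s = c := by
      have hχ' := hχ a ha
      have h3 : 𝒳.p.IsHomLift (𝟙 (𝒳.p.obj z) ≫ (𝒳.p.map c ≫ eqToHom hD)) (χ a ha ≫ D.map s) :=
        IsHomLift.comp 𝒳.p _ _ _ _
      rw [Category.id_comp] at h3
      refine cancel' h𝒳 (𝒳.p.map c ≫ eqToHom hD) (ι o) h3 hc ?_
      rw [Category.assoc, nι s, eχ, ea]
    conv_rhs => rw [← h2, Category.assoc, nδ s]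
  obtain ⟨ψ, ⟨hψ, eψ⟩, uψ⟩ := hE g (fun z a ha => χ a ha ≫ δ (mkS (𝒳.p.map a) ha))
    (fun z a ha => by
      have h1 := hχ a ha
      have h2 : 𝒳.p.IsHomLift (𝒳.p.map a ≫ g) (δ (mkS (𝒳.p.map a) ha)) := hδ (mkS (𝒳.p.map a) ha)
      have h3 : 𝒳.p.IsHomLift (𝟙 (𝒳.p.obj z) ≫ (𝒳.p.map a ≫ g)) (χ a ha ≫ δ (mkS (𝒳.p.map a) ha)) :=
        IsHomLift.comp 𝒳.p _ _ _ _
      rw [Category.id_comp] at h3
      exact map_eq_of_isHomLift _ h3)
    (fun z' z b a ha hba => by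
      have h1 := fam (mkS (𝒳.p.map a) ha) (b ≫ χ a ha) (b ≫ a) (by rw [Category.assoc, eχ]) hba
      rw [h1, Category.assoc])
  have hsub : ∀ (o : R.arrows.category), R (𝒳.p.map (ι o)) := by
    intro o
    have ho : 𝒳.p.IsHomLift o.obj.hom (ι o) := hι o
    rw [IsHomLift.fac' 𝒳.p o.obj.hom (ι o)]
    simp only [eqToHom_refl, Category.comp_id]
    exact R.downward_closed o.property _
  refine ⟨ψ, ⟨isHomLift_of_map_eq ψ hψ, fun o => ?_⟩, ?_⟩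
  · rw [eψ (ι o) (hsub o), fam o (𝟙 _) (ι o) (Category.id_comp _), Category.id_comp]
  · rintro ψ' ⟨hψ', eψ'⟩
    refine uψ ψ' ⟨map_eq_of_isHomLift _ hψ', fun z a ha => ?_⟩
    rw [← eψ' (mkS (𝒳.p.map a) ha), ← Category.assoc, eχ]

/-- A compatible family on `R`, restricted to a chosen functor. -/
theorem glueFrom_of_isPrestackFor (h𝒳 : FibCat.IsFibGrpd 𝒳.p) (x : 𝒳.obj) (R : Sieve (𝒳.p.obj x))
    (hR : Stk.IsPrestackFor R 𝒳) : GlueFrom 𝒳.p x R := by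
  intro y g φ hφ cφ
  obtain ⟨hfull, hfaith⟩ := hR
  obtain ⟨y', l, hl⟩ := exists_lift h𝒳 rfl g
  have hy' : 𝒳.p.obj y' = 𝒳.p.obj x := IsHomLift.domain_eq 𝒳.p g l
  -- the two functors
  let G := yo h𝒳 x rfl
  let H := yo h𝒳 y' hy'
  have hεR : ∀ (a : R.arrows.category), R (𝒳.p.map (yoε h𝒳 x rfl a.obj)) := by
    intro a
    have h1 := yoε_lift h𝒳 x rfl a.obj
    rw [IsHomLift.fac' 𝒳.p a.obj.hom (yoε h𝒳 x rfl a.obj)]
    simp only [eqToHom_refl, Category.comp_id]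
    exact R.downward_closed a.property _
  have topIso : IsIso (yoε h𝒳 x rfl (Over.mk (𝟙 (𝒳.p.obj x)))) :=
    isIso_of_lift_id h𝒳 _ (yoε_lift h𝒳 x rfl (Over.mk (𝟙 (𝒳.p.obj x))))
  -- uniqueness
  have huniq : ∀ (ψ ψ' : x ⟶ y), 𝒳.p.map ψ = g → 𝒳.p.map ψ' = g →
      (∀ ⦃z : 𝒳.obj⦄ (a : z ⟶ x), R (𝒳.p.map a) → a ≫ ψ = a ≫ ψ') → ψ = ψ' := by
    intro ψ ψ' hψ hψ' e
    obtain ⟨χ, hχ, eχ⟩ := exists_factor h𝒳 (𝟙 (𝒳.p.obj x)) (Category.id_comp g) l ψ hl (isHomLift_of_map_eq ψ hψ)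
    obtain ⟨χ', hχ', eχ'⟩ := exists_factor h𝒳 (𝟙 (𝒳.p.obj x)) (Category.id_comp g) l ψ' hl (isHomLift_of_map_eq ψ' hψ')
    let T : ∀ (c : x ⟶ y'), 𝒳.p.IsHomLift (𝟙 (𝒳.p.obj x)) c → (G ⟶ H) := fun c hc =>
      natOfCocones h𝒳 (𝒳 := FibCat.overCat (𝒳.p.obj x)) (fun a => a.hom) (fun a => yoε h𝒳 x rfl a ≫ c)
        (fun a => yoε h𝒳 y' hy' a)
        (fun a => by
          have h1 := yoε_lift h𝒳 x rfl a
          exact IsHomLift.comp_lift_id_right 𝒳.p a.hom _ _)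
        (fun a => yoε_lift h𝒳 y' hy' a)
        (fun f => by rw [← Category.assoc, yo_map_yoε])
        (fun f => yo_map_yoε h𝒳 y' hy' f)
    have hT : ∀ c hc a, (T c hc).toNatTrans.app a ≫ yoε h𝒳 y' hy' a = yoε h𝒳 x rfl a ≫ c :=
      fun c hc a => natOfCocones_app h𝒳 (𝒳 := FibCat.overCat (𝒳.p.obj x)) _ _ _ _ _ _ _ a
    have hTT : T χ hχ = T χ' hχ' := by
      apply (Stk.resSieve R 𝒳).map_injective
      apply natTrans_ext
      intro a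
      have h1 := (T χ hχ).isHomLift' a.obj
      have h2 := (T χ' hχ').isHomLift' a.obj
      refine cancel' h𝒳 _ (yoε h𝒳 y' hy' a.obj) h1 h2 ?_
      refine (hT χ hχ a.obj).trans (Eq.trans ?_ (hT χ' hχ' a.obj).symm)
      refine cancel' h𝒳 a.obj.hom l ?_ ?_ ?_
      · have h1 := yoε_lift h𝒳 x rfl a.obj
        exact IsHomLift.comp_lift_id_right 𝒳.p a.obj.hom _ _
      · have h1 := yoε_lift h𝒳 x rfl a.obj
        exact IsHomLift.comp_lift_id_right 𝒳.p a.obj.hom _ _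
      · rw [Category.assoc, Category.assoc, eχ, eχ', e _ (hεR a)]
    have h3 := hT χ hχ (Over.mk (𝟙 _))
    rw [hTT, hT χ' hχ' (Over.mk (𝟙 _))] at h3
    rw [cancel_epi] at h3
    rw [← eχ, ← eχ', h3]
  -- existence
  let α : (Stk.resSieve R 𝒳).obj G ⟶ (Stk.resSieve R 𝒳).obj H :=
    natOfCocones h𝒳 (𝒳 := Stk.sieveCat R) (fun a => a.obj.hom ≫ g) (fun a => φ (yoε h𝒳 x rfl a.obj) (hεR a))
      (fun a => yoε h𝒳 y' hy' a.obj ≫ l)
      (fun a => by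
        have h1 := hφ (yoε h𝒳 x rfl a.obj) (hεR a)
        have h2 := yoε_lift h𝒳 x rfl a.obj
        have h3 : 𝒳.p.obj ((yo h𝒳 x rfl).obj a.obj) = a.obj.left := (yo h𝒳 x rfl).w_obj a.obj
        refine IsHomLift.of_fac' 𝒳.p (a.obj.hom ≫ g) _ h3 rfl ?_
        rw [h1, IsHomLift.fac' 𝒳.p a.obj.hom (yoε h𝒳 x rfl a.obj)]
        simp)
      (fun a => by
        have h2 := yoε_lift h𝒳 y' hy' a.obj
        exact IsHomLift.comp 𝒳.p _ _ _ _)
      (fun {a b} f => by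
        have e : (yo h𝒳 x rfl).map f.hom ≫ yoε h𝒳 x rfl b.obj = yoε h𝒳 x rfl a.obj :=
          yo_map_yoε h𝒳 x rfl f.hom
        have h1 := cφ ((yo h𝒳 x rfl).map f.hom) (yoε h𝒳 x rfl b.obj) (hεR b) (by rw [e]; exact hεR a)
        refine h1.symm.trans ?_
        congr! 1)
      (fun {a b} f => by
        have e : (yo h𝒳 y' hy').map f.hom ≫ yoε h𝒳 y' hy' b.obj = yoε h𝒳 y' hy' a.obj :=
          yo_map_yoε h𝒳 y' hy' f.hom
        rw [← e]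
        exact (Category.assoc _ _ _).symm)
  have hα : ∀ a : R.arrows.category, α.toNatTrans.app a ≫ yoε h𝒳 y' hy' a.obj ≫ l =
      φ (yoε h𝒳 x rfl a.obj) (hεR a) :=
    fun a => natOfCocones_app h𝒳 (𝒳 := Stk.sieveCat R) _ _ _ _ _ _ _ a
  obtain ⟨β, hβ⟩ := (Stk.resSieve R 𝒳).map_surjective α
  have hβ' : ∀ a : R.arrows.category, β.toNatTrans.app a.obj ≫ yoε h𝒳 y' hy' a.obj ≫ l =
      φ (yoε h𝒳 x rfl a.obj) (hεR a) := by
    intro a
    rw [← hα a, ← hβ]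
    rfl
  let t : Over (𝒳.p.obj x) := Over.mk (𝟙 (𝒳.p.obj x))
  let ψ : x ⟶ y := inv (yoε h𝒳 x rfl t) ≫ β.toNatTrans.app t ≫ yoε h𝒳 y' hy' t ≫ l
  have hψ : ∀ a : Over (𝒳.p.obj x), yoε h𝒳 x rfl a ≫ ψ = β.toNatTrans.app a ≫ yoε h𝒳 y' hy' a ≫ l := by
    intro a
    have e1 : (yo h𝒳 x rfl).map (toTop a) ≫ yoε h𝒳 x rfl t = yoε h𝒳 x rfl a := yo_map_yoε h𝒳 x rfl _
    have e2 : (yo h𝒳 y' hy').map (toTop a) ≫ yoε h𝒳 y' hy' t = yoε h𝒳 y' hy' a := yo_map_yoε h𝒳 y' hy' _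
    have e3 : (yo h𝒳 x rfl).map (toTop a) ≫ β.toNatTrans.app t =
        β.toNatTrans.app a ≫ (yo h𝒳 y' hy').map (toTop a) := β.toNatTrans.naturality (toTop a)
    rw [← e1, Category.assoc]
    simp only [ψ]
    rw [IsIso.hom_inv_id_assoc, ← Category.assoc, e3, Category.assoc, ← e2, Category.assoc]
  have hψ' : 𝒳.p.IsHomLift g ψ := by
    have h1 := yoε_lift h𝒳 x rfl t
    have h2 := yoε_lift h𝒳 y' hy' t
    have h3 : 𝒳.p.IsHomLift (𝟙 (𝒳.p.obj x)) (β.toNatTrans.app t) := β.isHomLift' t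
    have h4 : 𝒳.p.IsHomLift (𝟙 (𝒳.p.obj x)) (yoε h𝒳 x rfl t) := h1
    have h5 : 𝒳.p.IsHomLift (𝟙 (𝒳.p.obj x)) (yoε h𝒳 y' hy' t) := h2
    exact IsHomLift.comp_lift_id_left 𝒳.p g _ _
  have hfin : ∀ ⦃z : 𝒳.obj⦄ (a : z ⟶ x) (ha : R (𝒳.p.map a)), a ≫ ψ = φ a ha := by
    intro z a ha
    let o : R.arrows.category := mkS (𝒳.p.map a) ha
    obtain ⟨χ, hχ, eχ⟩ := exists_factor h𝒳 (𝟙 (𝒳.p.obj z)) (Category.id_comp (𝒳.p.map a))
      (yoε h𝒳 x rfl o.obj) a (yoε_lift h𝒳 x rfl o.obj) inferInstance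
    have h1 := cφ χ (yoε h𝒳 x rfl o.obj) (hεR o) (by rw [eχ]; exact ha)
    have h2 : φ a ha = χ ≫ φ (yoε h𝒳 x rfl o.obj) (hεR o) := by
      rw [← h1]; congr! 1; exact eχ.symm
    rw [h2, ← hβ' o, ← hψ o.obj]
    exact (congrArg (· ≫ ψ) eχ.symm).trans (Category.assoc _ _ _)
  refine ⟨ψ, ⟨map_eq_of_isHomLift _ hψ', hfin⟩, ?_⟩
  rintro ψ' ⟨h1, h2⟩
  exact huniq ψ' ψ h1 (map_eq_of_isHomLift _ hψ') (fun z a ha => by rw [h2 a ha, hfin a ha])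

/-- morphisms glue along `R` if they glue out of every object over `U` -/
theorem isPrestackFor_of_glueFrom (h𝒳 : FibCat.IsFibGrpd 𝒳.p) {U : C} (R : Sieve U)
    (h : ∀ (x : 𝒳.obj) (e : 𝒳.p.obj x = U), GlueFrom 𝒳.p x (R.pullback (eqToHom e))) :
    Stk.IsPrestackFor R 𝒳 := by
  constructor
  · refine ⟨fun {G H} α => ?_⟩
    let E := effOfFunctor R G
    obtain ⟨ψ, ⟨hψ, eψ⟩, -⟩ := E.existsUnique_desc h𝒳 (h E.pt E.pt_obj) (𝟙 U) (top_obj H)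
      (fun a => α.toNatTrans.app a ≫ topε H a.obj)
      (fun a => by
        have h1 := topε_lift H a.obj
        have h2 : 𝒳.p.IsHomLift (𝟙 a.obj.left) (α.toNatTrans.app a) := α.isHomLift' a
        rw [Category.comp_id]
        exact IsHomLift.comp_lift_id_left 𝒳.p a.obj.hom _ _)
      (fun {a b} f => by
        have e1 := nat α f
        have e2 : H.map f.hom ≫ topε H b.obj = topε H a.obj := map_topε H f.hom
        rw [← Category.assoc, e1, Category.assoc]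
        congr 1)
    let β : G ⟶ H := natOfCocones h𝒳 (𝒳 := FibCat.overCat U) (fun a => a.hom) (fun a => topε G a ≫ ψ)
      (fun a => topε H a)
      (fun a => by
        have h1 := topε_lift G a
        exact IsHomLift.comp_lift_id_right 𝒳.p a.hom _ _)
      (fun a => topε_lift H a) (fun f => by rw [← Category.assoc, map_topε]) (fun f => map_topε H f)
    have hβ : ∀ a : Over U, β.toNatTrans.app a ≫ topε H a = topε G a ≫ ψ := fun a =>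
      natOfCocones_app h𝒳 (𝒳 := FibCat.overCat U) _ _ _ _ _ _ _ a
    refine ⟨β, ?_⟩
    apply natTrans_ext
    intro a
    have h1 : 𝒳.p.IsHomLift (𝟙 a.obj.left) (α.toNatTrans.app a) := α.isHomLift' a
    have h2 : 𝒳.p.IsHomLift (𝟙 a.obj.left) (β.toNatTrans.app a.obj) := β.isHomLift' a.obj
    exact cancel' h𝒳 _ (topε H a.obj) h2 h1 ((hβ a.obj).trans (eψ a))
  · refine ⟨fun {G H} α β e => ?_⟩
    let E := effOfFunctor R G
    have e2 : ∀ a : R.arrows.category, α.toNatTrans.app a.obj = β.toNatTrans.app a.obj :=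
      fun a => natTrans_app_eq e a
    have key := E.existsUnique_desc h𝒳 (h E.pt E.pt_obj) (𝟙 U) (top_obj H)
      (fun a => α.toNatTrans.app a.obj ≫ topε H a.obj)
      (fun a => by
        have h1 := topε_lift H a.obj
        have h2 : 𝒳.p.IsHomLift (𝟙 a.obj.left) (α.toNatTrans.app a.obj) := α.isHomLift' a.obj
        rw [Category.comp_id]
        exact IsHomLift.comp_lift_id_left 𝒳.p a.obj.hom _ _)
      (fun {a b} f => by
        have e1 := nat α f.hom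
        have e2 : H.map f.hom ≫ topε H b.obj = topε H a.obj := map_topε H f.hom
        rw [← Category.assoc]
        refine (congrArg (· ≫ topε H b.obj) e1).trans ?_
        rw [← e2]
        exact Category.assoc _ _ _)
    have e3 : (α.toNatTrans.app (Over.mk (𝟙 U)) : top G ⟶ top H) = β.toNatTrans.app (Over.mk (𝟙 U)) :=
      key.unique ⟨α.isHomLift' (Over.mk (𝟙 U)), fun a => nat_topε α a.obj⟩
        ⟨β.isHomLift' (Over.mk (𝟙 U)), fun a => by rw [e2 a]; exact nat_topε β a.obj⟩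
    apply natTrans_ext
    intro a
    have h1 := α.isHomLift' a
    have h2 := β.isHomLift' a
    refine cancel' h𝒳 _ (topε H a) h1 h2 ?_
    rw [← nat_topε α a, ← nat_topε β a, e3]

/-- the prestack condition for one sieve, elementary form -/
theorem isPrestackFor_iff (h𝒳 : FibCat.IsFibGrpd 𝒳.p) {U : C} (R : Sieve U) :
    Stk.IsPrestackFor R 𝒳 ↔
      ∀ (x : 𝒳.obj) (e : 𝒳.p.obj x = U), GlueFrom 𝒳.p x (R.pullback (eqToHom e)) := by
  refine ⟨fun h x e => ?_, isPrestackFor_of_glueFrom h𝒳 R⟩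
  subst e
  have hR : R.pullback (eqToHom (rfl : 𝒳.p.obj x = 𝒳.p.obj x)) = R := by simp
  rw [hR]
  exact glueFrom_of_isPrestackFor h𝒳 x R h

/-- the prestack condition, elementary form -/
theorem isPrestack_iff (J : GrothendieckTopology C) :
    Stk.IsPrestack J 𝒳 ↔ FibCat.IsFibGrpd 𝒳.p ∧
      ∀ (x : 𝒳.obj) (R : Sieve (𝒳.p.obj x)), R ∈ J (𝒳.p.obj x) → GlueFrom 𝒳.p x R := by
  refine ⟨fun h => ⟨h.1, fun x R hR => glueFrom_of_isPrestackFor h.1 x R (h.2 R hR)⟩,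
    fun h => ⟨h.1, fun U R hR => ?_⟩⟩
  rw [isPrestackFor_iff h.1]
  exact fun x e => h.2 x _ (J.pullback_stable _ hR)

theorem glueFrom_of_isPrestack {J : GrothendieckTopology C} (h : Stk.IsPrestack J 𝒳) (x : 𝒳.obj)
    (R : Sieve (𝒳.p.obj x)) (hR : R ∈ J (𝒳.p.obj x)) : GlueFrom 𝒳.p x R :=
  ((isPrestack_iff J).1 h).2 x R hR

/-- The universal property of an effective descent datum in a prestack. -/
theorem Eff.existsUnique_desc' {J : GrothendieckTopology C} (h : Stk.IsPrestack J 𝒳) {U : C} {R : Sieve U}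
    (hR : R ∈ J U) {D : Stk.sieveCat R ⥤ᵇ 𝒳} (E : Eff D) {y : 𝒳.obj} {T : C} (g : U ⟶ T)
    (hy : 𝒳.p.obj y = T)
    (δ : ∀ a : R.arrows.category, D.obj a ⟶ y) (hδ : ∀ a, 𝒳.p.IsHomLift (a.obj.hom ≫ g) (δ a))
    (nδ : ∀ {a b : R.arrows.category} (f : a ⟶ b), D.map f ≫ δ b = δ a) :
    ∃! ψ : E.pt ⟶ y, 𝒳.p.IsHomLift g ψ ∧ ∀ a, E.ι a ≫ ψ = δ a :=
  E.existsUnique_desc h.1 (glueFrom_of_isPrestack h E.pt _ (J.pullback_stable _ hR)) g hy δ hδ nδ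

/-- an extension of `D` to `C/U` gives an effective descent datum -/
def effOfIso {U : C} {R : Sieve U} {D : Stk.sieveCat R ⥤ᵇ 𝒳}
    (G : FibCat.overCat U ⥤ᵇ 𝒳) (α : D ⟶ (Stk.resSieve R 𝒳).obj G) : Eff D where
  pt := top G
  ι a := α.toNatTrans.app a ≫ topε G a.obj
  lift a := by
    have h1 := topε_lift G a.obj
    have h2 : 𝒳.p.IsHomLift (𝟙 a.obj.left) (α.toNatTrans.app a) := α.isHomLift' a
    exact IsHomLift.comp_lift_id_left 𝒳.p a.obj.hom _ _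
  nat {a b} f := by
    have e2 : G.map f.hom ≫ topε G b.obj = topε G a.obj := map_topε G f.hom
    rw [← Category.assoc, nat α f, ← e2]
    exact Category.assoc _ _ _
  pt_obj := top_obj G

/-- an effective descent datum extends to `C/U` -/
theorem Eff.exists_iso (h𝒳 : FibCat.IsFibGrpd 𝒳.p) {U : C} {R : Sieve U} {D : Stk.sieveCat R ⥤ᵇ 𝒳}
    (E : Eff D) : Nonempty ((Stk.resSieve R 𝒳).obj (yo h𝒳 E.pt E.pt_obj) ≅ D) := by
  let α : (Stk.resSieve R 𝒳).obj (yo h𝒳 E.pt E.pt_obj) ⟶ D :=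
    natOfCocones h𝒳 (𝒳 := Stk.sieveCat R) (fun a => a.obj.hom) (fun a => yoε h𝒳 E.pt E.pt_obj a.obj)
      (fun a => E.ι a) (fun a => yoε_lift h𝒳 E.pt E.pt_obj a.obj) (fun a => E.lift a)
      (fun f => yo_map_yoε h𝒳 E.pt E.pt_obj f.hom) (fun f => E.nat f)
  have := isIso_natTrans h𝒳 α
  exact ⟨asIso α⟩

/-- the stack condition for one sieve, elementary form -/
theorem isStackFor_iff (h𝒳 : FibCat.IsFibGrpd 𝒳.p) {U : C} (R : Sieve U) :
    Stk.IsStackFor R 𝒳 ↔ Stk.IsPrestackFor R 𝒳 ∧ ∀ D : Stk.sieveCat R ⥤ᵇ 𝒳, Nonempty (Eff D) := by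
  constructor
  · intro h
    have h' : (Stk.resSieve R 𝒳).IsEquivalence := h
    refine ⟨⟨inferInstance, inferInstance⟩, fun D => ?_⟩
    exact ⟨effOfIso ((Stk.resSieve R 𝒳).objPreimage D) ((Stk.resSieve R 𝒳).objObjPreimageIso D).inv⟩
  · rintro ⟨⟨h1, h2⟩, h3⟩
    exact { faithful := h2, full := h1, essSurj := ⟨fun D => by
      obtain ⟨E⟩ := h3 D
      obtain ⟨e⟩ := E.exists_iso h𝒳
      exact ⟨_, ⟨e⟩⟩⟩ }

/-- the stack condition, elementary form -/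
theorem isStack_iff (J : GrothendieckTopology C) :
    Stk.IsStack J 𝒳 ↔ Stk.IsPrestack J 𝒳 ∧
      ∀ ⦃U : C⦄ (R : Sieve U), R ∈ J U → ∀ D : Stk.sieveCat R ⥤ᵇ 𝒳, Nonempty (Eff D) := by
  constructor
  · intro h
    exact ⟨⟨h.1, fun U R hR => ((isStackFor_iff h.1 R).1 (h.2 R hR)).1⟩,
      fun U R hR => ((isStackFor_iff h.1 R).1 (h.2 R hR)).2⟩
  · rintro ⟨h1, h2⟩
    exact ⟨h1.1, fun U R hR => (isStackFor_iff h1.1 R).2 ⟨h1.2 R hR, h2 R hR⟩⟩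

theorem isPrestack_of_isStack {J : GrothendieckTopology C} (h : Stk.IsStack J 𝒳) : Stk.IsPrestack J 𝒳 :=
  ((isStack_iff J).1 h).1

theorem exists_eff {J : GrothendieckTopology C} (h : Stk.IsStack J 𝒳) {U : C} {R : Sieve U} (hR : R ∈ J U)
    (D : Stk.sieveCat R ⥤ᵇ 𝒳) : Nonempty (Eff D) :=
  ((isStack_iff J).1 h).2 R hR D

end Glue

end K751.Test
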