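import Groth.Agent.Stk.K751.FF
import Groth.Agent.Stk.K751.Fp

/-!
# Local statements: comparison of sieves, faithfulness, coverings (seat 751)
-/

set_option autoImplicit false
set_option backward.isDefEq.respectTransparency false
set_option backward.isDefEq.respectTransparency.types false

universe w v₅ u₅ v₄ u₄ v₃ u₃ v₂ u₂ v u

open CategoryTheory Functor K751.FG K751.Test K751.Inv K751.FF FibCat

namespace K751.Loc

variable {C : Type u} [Category.{v} C] {𝒳 : BasedCategory.{v₂, u₂} C} {𝒴 : BasedCategory.{v₃, u₃} C}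

section Sieves

/-- inclusion of sieve categories -/
def inclS {U : C} {S R : Sieve U} (h : S ≤ R) : Stk.sieveCat S ⥤ᵇ Stk.sieveCat R where
  toFunctor :=
    { obj := fun a => ⟨a.obj, h _ a.property⟩
      map := fun f => ObjectProperty.homMk f.hom }
  w := rfl

/-- the functor between sieve categories given by composition with an arrow of the sieve -/
def pullS {U V : C} (R : Sieve U) (f : V ⟶ U) : Stk.sieveCat (R.pullback f) ⥤ᵇ Stk.sieveCat R where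
  toFunctor :=
    { obj := fun a => ⟨Over.mk (a.obj.hom ≫ f), a.property⟩
      map := fun {a b} g => ObjectProperty.homMk (Over.homMk g.hom.left (by
        have : g.hom.left ≫ b.obj.hom = a.obj.hom := Over.w g.hom
        change g.hom.left ≫ b.obj.hom ≫ f = a.obj.hom ≫ f
        rw [← Category.assoc, this])) }
  w := rfl

/-- For an arrow `a` of a sieve `R`, the restriction of `D` to a smaller sieve pulled back along `a`
has the effective cocone with vertex `D a`. -/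
def effPull {U : C} {S R : Sieve U} (h : S ≤ R) (D : Stk.sieveCat R ⥤ᵇ 𝒳) (a : R.arrows.category) :
    Eff (BasedFunctor.comp (pullS S a.obj.hom) (BasedFunctor.comp (inclS h) D)) where
  pt := D.obj a
  ι b := D.map (homS (a := ⟨Over.mk (b.obj.hom ≫ a.obj.hom), h _ b.property⟩) (b := a) b.obj.hom rfl)
  lift b := map_homS_lift D (a := ⟨Over.mk (b.obj.hom ≫ a.obj.hom), h _ b.property⟩) (b := a) b.obj.hom rfl
  nat {b c} f := by
    change D.map _ ≫ D.map _ = D.map _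
    rw [← D.map_comp]
    congr 1
    apply ObjectProperty.hom_ext
    apply Over.OverMorphism.ext
    exact Over.w f.hom
  pt_obj := D_obj D a

/-- S12815 in all universes -/
theorem isStackFor_of_le (h𝒳 : IsFibGrpd 𝒳.p) {U : C} {S R : Sieve U} (hSR : S ≤ R)
    (hS : Stk.IsStackFor S 𝒳) (hR : ∀ ⦃V : C⦄ (f : V ⟶ U), R f → Stk.IsPrestackFor (S.pullback f) 𝒳) :
    Stk.IsStackFor R 𝒳 := by
  obtain ⟨hS1, hS2⟩ := (isStackFor_iff h𝒳 S).1 hS
  have hgl := (isPrestackFor_iff h𝒳 S).1 hS1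
  rw [isStackFor_iff h𝒳, isPrestackFor_iff h𝒳]
  refine ⟨fun x e => ?_, fun D => ?_⟩
  · subst e
    have h0 := hgl x rfl
    have e1 : S.pullback (eqToHom (rfl : 𝒳.p.obj x = 𝒳.p.obj x)) = S := by simp
    have e2 : R.pullback (eqToHom (rfl : 𝒳.p.obj x = 𝒳.p.obj x)) = R := by simp
    rw [e1] at h0
    rw [e2]
    intro y g φ hφ cφ
    obtain ⟨ψ, ⟨h1, h2⟩, h3⟩ := h0 g (fun z a ha => φ a (hSR _ ha)) (fun z a ha => hφ a (hSR _ ha))
      (fun z' z b a ha hba => cφ b a (hSR _ ha) (hSR _ hba))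
    refine ⟨ψ, ⟨h1, fun z a ha => ?_⟩, ?_⟩
    · have h4 := glueFrom_of_isPrestackFor h𝒳 z (S.pullback (𝒳.p.map a)) (hR (𝒳.p.map a) ha)
      refine h4.ext ?_ fun w c hc => ?_
      · rw [𝒳.p.map_comp, h1, hφ a ha]
      · have hc' : S (𝒳.p.map (c ≫ a)) := by rw [𝒳.p.map_comp]; exact hc
        rw [← cφ c a ha (hSR _ hc'), ← h2 (c ≫ a) hc', Category.assoc]
    · rintro ψ' ⟨h4, h5⟩
      exact h3 ψ' ⟨h4, fun z a ha => h5 a (hSR _ ha)⟩
  · obtain ⟨E⟩ := hS2 (BasedFunctor.comp (inclS hSR) D)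
    -- the extended cocone
    have key : ∀ a : R.arrows.category, ∃! ψ : D.obj a ⟶ E.pt, 𝒳.p.IsHomLift a.obj.hom ψ ∧
        ∀ b : (S.pullback a.obj.hom).arrows.category,
          D.map (homS (a := ⟨Over.mk (b.obj.hom ≫ a.obj.hom), hSR _ b.property⟩) (b := a) b.obj.hom rfl) ≫ ψ =
            E.ι ((pullS S a.obj.hom).obj b) := by
      intro a
      have h1 := hR a.obj.hom a.property
      exact (effPull hSR D a).existsUnique_desc h𝒳 ((isPrestackFor_iff h𝒳 _).1 h1 (D.obj a) (D_obj D a))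
        a.obj.hom E.pt_obj (fun b => E.ι ((pullS S a.obj.hom).obj b))
        (fun b => E.lift ((pullS S a.obj.hom).obj b)) (fun f => E.nat ((pullS S a.obj.hom).map f))
    choose ι hι uι using key
    refine ⟨⟨E.pt, ι, fun a => (hι a).1, fun {a b} f => ?_, E.pt_obj⟩⟩
    refine uι a _ ⟨?_, fun c => ?_⟩
    · have h1 := (hι b).1
      have e : f.hom.left ≫ b.obj.hom = a.obj.hom := Over.w f.hom
      have h2 := map_homS_lift D (a := a) (b := b) f.hom.left e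
      have h3 : homS (a := a) (b := b) f.hom.left e = f := rfl
      rw [h3] at h2
      rw [← e]
      exact IsHomLift.comp 𝒳.p _ _ _ _
    · have e : f.hom.left ≫ b.obj.hom = a.obj.hom := Over.w f.hom
      let c' : (S.pullback b.obj.hom).arrows.category := ⟨Over.mk (c.obj.hom ≫ f.hom.left), by
        change S ((c.obj.hom ≫ f.hom.left) ≫ b.obj.hom)
        rw [Category.assoc, e]
        exact c.property⟩
      have h1 := (hι b).2 c'
      let s : (pullS S a.obj.hom).obj c ⟶ (pullS S b.obj.hom).obj c' :=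
        homS (𝟙 c.obj.left) (by
          change 𝟙 _ ≫ (c.obj.hom ≫ f.hom.left) ≫ b.obj.hom = c.obj.hom ≫ a.obj.hom
          rw [Category.id_comp, Category.assoc, e])
      rw [← E.nat s, ← h1]
      refine (Category.assoc _ _ _).symm.trans (Eq.trans ?_ (Category.assoc _ _ _))
      congr 1
      change D.map _ ≫ D.map _ = D.map _ ≫ D.map _
      rw [← D.map_comp, ← D.map_comp]
      congr 1
      apply ObjectProperty.hom_ext
      apply Over.OverMorphism.ext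
      change c.obj.hom ≫ f.hom.left = 𝟙 _ ≫ c.obj.hom ≫ f.hom.left
      rw [Category.id_comp]

end Sieves

section Local

variable {𝒵 : BasedCategory.{v₄, u₄} C}

/-- an automorphism-type statement: two parallel morphisms with the same image in the base are equal once
they are so after all morphisms over a covering sieve, in a prestack -/
theorem ext_of_cover {J : GrothendieckTopology C} (h𝒳 : Stk.IsPrestack J 𝒳) {x y : 𝒳.obj} {R : Sieve (𝒳.p.obj x)}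
    (hR : R ∈ J (𝒳.p.obj x)) {ψ ψ' : x ⟶ y} (e : 𝒳.p.map ψ = 𝒳.p.map ψ')
    (h : ∀ ⦃z : 𝒳.obj⦄ (a : z ⟶ x), R (𝒳.p.map a) → a ≫ ψ = a ≫ ψ') : ψ = ψ' :=
  (glueFrom_of_isPrestack h𝒳 x R hR).ext e h

/-- reduction of parallel morphisms to automorphisms over the identity -/
theorem faithful_of_aut (h𝒳 : IsFibGrpd 𝒳.p) (F : 𝒳 ⥤ᵇ 𝒴) (h𝒴 : IsFibGrpd 𝒴.p)
    (h : ∀ (x : 𝒳.obj) (c : x ⟶ x), 𝒳.p.map c = 𝟙 _ → F.map c = 𝟙 _ → c = 𝟙 x) : F.toFunctor.Faithful := by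
  refine ⟨fun {x y} a b e => ?_⟩
  have hab : 𝒳.p.map a = 𝒳.p.map b := by
    have h1 : 𝒴.p.IsHomLift (𝒳.p.map a) (F.map b) := by
      have h2 : 𝒴.p.IsHomLift (𝒳.p.map a) (F.map a) := inferInstance
      exact (show F.map a = F.map b from e) ▸ h2
    have h2 := (BasedFunctor.isHomLift_iff F _ _).1 h1
    exact IsHomLift.eq_of_isHomLift 𝒳.p (𝒳.p.map a) b
  obtain ⟨c, hc, ec⟩ := exists_factor_map h𝒳 b a (𝟙 _) (by rw [Category.id_comp, hab])
  have h1 : F.map c = 𝟙 _ := by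
    refine cancel h𝒴 (F.map b) ?_ ?_
    · have h3 : 𝒳.p.IsHomLift (𝟙 (𝒳.p.obj x)) c := isHomLift_of_map_eq c hc
      have h2 : 𝒴.p.IsHomLift (𝟙 (𝒳.p.obj x)) (F.map c) := BasedFunctor.preserves_isHomLift F _ c
      have h4 : 𝒴.p.IsHomLift (𝟙 (𝒳.p.obj x)) (𝟙 (F.obj x)) := IsHomLift.id (F.w_obj x)
      rw [IsHomLift.fac' 𝒴.p (𝟙 (𝒳.p.obj x)) (F.map c), IsHomLift.fac' 𝒴.p (𝟙 (𝒳.p.obj x)) (𝟙 (F.obj x))]
    · rw [← F.map_comp, ec]
      exact (show F.map a = F.map b from e).trans (Category.id_comp _).symm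
  rw [← ec, h x c hc h1, Category.id_comp]

/-- S12798 in all universes -/
theorem faithful_of_faithful_fpFst {J : GrothendieckTopology C} (h𝒵 : Stk.IsPrestack J 𝒵)
    (h𝒴 : IsFibGrpd 𝒴.p) (F : 𝒳 ⥤ᵇ 𝒴) (G : 𝒵 ⥤ᵇ 𝒴) (hF : LocEssSurj J F)
    (hG' : (fpFst F G).toFunctor.Faithful) : G.toFunctor.Faithful := by
  refine faithful_of_aut h𝒵.1 G h𝒴 fun t c hc hGc => ?_
  obtain ⟨R, hR, hx⟩ := hF (G.obj t)
  have ht : 𝒴.p.obj (G.obj t) = 𝒵.p.obj t := G.w_obj t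
  refine ext_of_cover h𝒵 (R := R.pullback (eqToHom ht.symm)) (J.pullback_stable _ hR) (by rw [hc, 𝒵.p.map_id]) ?_
  intro z a ha
  obtain ⟨x, φ, hφ⟩ := hx _ ha
  -- the isomorphism F x ≅ G z
  have h1 : 𝒴.p.IsHomLift (𝒵.p.map a ≫ eqToHom ht.symm) (G.map a) := by
    rw [IsHomLift.lift_comp_eqToHom_iff]; infer_instance
  obtain ⟨e, he, ee⟩ := exists_iso_of_lifts h𝒴 φ (G.map a) hφ h1
  -- the lift of `c` to `z`
  obtain ⟨d, hd, ed⟩ := exists_factor_map h𝒵.1 a (a ≫ c) (𝟙 _) (by rw [𝒵.p.map_comp, hc]; simp)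
  have hGd : G.map d = 𝟙 _ := by
    refine cancel h𝒴 (G.map a) ?_ ?_
    · have h3 : 𝒵.p.IsHomLift (𝟙 (𝒵.p.obj z)) d := isHomLift_of_map_eq d hd
      have h2 : 𝒴.p.IsHomLift (𝟙 (𝒵.p.obj z)) (G.map d) := BasedFunctor.preserves_isHomLift G _ d
      have h4 : 𝒴.p.IsHomLift (𝟙 (𝒵.p.obj z)) (𝟙 (G.obj z)) := IsHomLift.id (G.w_obj z)
      rw [IsHomLift.fac' 𝒴.p (𝟙 (𝒵.p.obj z)) (G.map d), IsHomLift.fac' 𝒴.p (𝟙 (𝒵.p.obj z)) (𝟙 (G.obj z))]
    · rw [← G.map_comp, ed, G.map_comp, hGc, Category.comp_id, Category.id_comp]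
  have hx' : 𝒳.p.obj x = 𝒵.p.obj z := by
    rw [← F.w_obj x]; exact IsHomLift.domain_eq 𝒴.p (𝒵.p.map a ≫ eqToHom ht.symm) φ
  let X : (fp F G).obj := K751.Fp.mkObj F G x z e (by rw [hx']; exact he)
  let A : X ⟶ X := K751.Fp.mkHom (𝟙 x) d (by
    change F.map (𝟙 x) ≫ e.hom = e.hom ≫ G.map d
    rw [hGd, F.map_id, Category.id_comp, Category.comp_id])
  have hA : A = 𝟙 X := hG'.map_injective (by rfl)
  have hd1 : d = 𝟙 z := congrArg (fun t : X ⟶ X => t.hom.snd) hA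
  rw [← ed, hd1, Category.id_comp, Category.comp_id]

/-- S12799 in all universes (no stack hypothesis on the source) -/
theorem isFibSetoid_of_isFibSetoid_fp {J : GrothendieckTopology C} (h𝒵 : Stk.IsPrestack J 𝒵)
    (h𝒴 : IsFibGrpd 𝒴.p) (F : 𝒳 ⥤ᵇ 𝒴) (G : 𝒵 ⥤ᵇ 𝒴) [F.toFunctor.Full] (hF : LocEssSurj J F)
    (h : IsFibSetoid (fp F G).p) : IsFibSetoid 𝒵.p := by
  rw [isFibSetoid_iff h𝒵.1]
  -- reduce to automorphisms
  suffices haut : ∀ (t : 𝒵.obj) (c : t ⟶ t), 𝒵.p.map c = 𝟙 _ → c = 𝟙 t by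
    intro t t' a b e
    obtain ⟨c, hc, ec⟩ := exists_factor_map h𝒵.1 b a (𝟙 _) (by rw [Category.id_comp, e])
    rw [← ec, haut t c hc, Category.id_comp]
  intro t c hc
  obtain ⟨R, hR, hx⟩ := hF (G.obj t)
  have ht : 𝒴.p.obj (G.obj t) = 𝒵.p.obj t := G.w_obj t
  refine ext_of_cover h𝒵 (R := R.pullback (eqToHom ht.symm)) (J.pullback_stable _ hR) (by rw [hc, 𝒵.p.map_id]) ?_
  intro z a ha
  obtain ⟨x, φ, hφ⟩ := hx _ ha
  have h1 : 𝒴.p.IsHomLift (𝒵.p.map a ≫ eqToHom ht.symm) (G.map a) := by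
    rw [IsHomLift.lift_comp_eqToHom_iff]; infer_instance
  obtain ⟨e, he, ee⟩ := exists_iso_of_lifts h𝒴 φ (G.map a) hφ h1
  obtain ⟨d, hd, ed⟩ := exists_factor_map h𝒵.1 a (a ≫ c) (𝟙 _) (by rw [𝒵.p.map_comp, hc]; simp)
  have hx' : 𝒳.p.obj x = 𝒵.p.obj z := by
    rw [← F.w_obj x]; exact IsHomLift.domain_eq 𝒴.p (𝒵.p.map a ≫ eqToHom ht.symm) φ
  let X : (fp F G).obj := K751.Fp.mkObj F G x z e (by rw [hx']; exact he)
  obtain ⟨d', hd'⟩ := F.toFunctor.map_surjective (e.hom ≫ G.map d ≫ e.inv)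
  have hd'' : F.map d' = e.hom ≫ G.map d ≫ e.inv := hd'
  have hl : 𝒳.p.map d' = 𝟙 _ := by
    have h3 : 𝒵.p.IsHomLift (𝟙 (𝒵.p.obj z)) d := isHomLift_of_map_eq d hd
    have h2 : 𝒴.p.IsHomLift (𝟙 (𝒵.p.obj z)) (G.map d) := BasedFunctor.preserves_isHomLift G _ d
    have h4 : 𝒴.p.IsHomLift (𝟙 (𝒵.p.obj z)) (F.map d') := by
      rw [hd'']
      have h5 : 𝒴.p.IsHomLift (𝟙 (𝒵.p.obj z)) (G.map d ≫ e.inv) := IsHomLift.comp_lift_id_right _ _ _ _
      exact IsHomLift.comp_lift_id_left _ _ _ _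
    rw [← hx'] at h4
    exact map_eq_of_isHomLift _ ((BasedFunctor.isHomLift_iff F _ _).1 h4)
  let A : X ⟶ X := K751.Fp.mkHom d' d (by
    change F.map d' ≫ e.hom = e.hom ≫ G.map d
    rw [hd'']; simp)
  have hA : A = 𝟙 X := (isFibSetoid_iff h.1).1 h A (𝟙 X) (by
    change 𝒳.p.map d' = 𝒳.p.map (𝟙 x)
    rw [hl, 𝒳.p.map_id])
  have hd1 : d = 𝟙 z := congrArg (fun t : X ⟶ X => t.hom.snd) hA
  rw [← ed, hd1, Category.id_comp, Category.comp_id]

end Local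

section Postcomp

/-- S12816 in all universes -/
theorem full_faithful_iff_post (h𝒳 : IsFibGrpd 𝒳.p) (h𝒴 : IsFibGrpd 𝒴.p) (F : 𝒳 ⥤ᵇ 𝒴) :
    (F.toFunctor.Full ∧ F.toFunctor.Faithful) ↔
      ∀ U : C, (post (overCat U) F).Full ∧ (post (overCat U) F).Faithful := by
  constructor
  · rintro ⟨h1, h2⟩ U
    exact ⟨post_full _ F, post_faithful _ F⟩
  · intro h
    -- 2-cells between the functors of two objects over the same object
    let T : ∀ (x y : 𝒳.obj) (e : 𝒳.p.obj y = 𝒳.p.obj x) (c : x ⟶ y), 𝒳.p.IsHomLift (𝟙 (𝒳.p.obj x)) c →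
        (yo h𝒳 x rfl ⟶ yo h𝒳 y e) := fun x y e c hc =>
      natOfCocones h𝒳 (𝒳 := FibCat.overCat (𝒳.p.obj x)) (fun a => a.hom) (fun a => yoε h𝒳 x rfl a ≫ c)
        (fun a => yoε h𝒳 y e a)
        (fun a => by
          have h1 := yoε_lift h𝒳 x rfl a
          exact IsHomLift.comp_lift_id_right 𝒳.p a.hom _ _)
        (fun a => yoε_lift h𝒳 y e a)
        (fun f => by rw [← Category.assoc, yo_map_yoε])
        (fun f => yo_map_yoε h𝒳 y e f)
    have hT : ∀ x y e c hc a, (T x y e c hc).toNatTrans.app a ≫ yoε h𝒳 y e a = yoε h𝒳 x rfl a ≫ c :=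
      fun x y e c hc a => natOfCocones_app h𝒳 (𝒳 := FibCat.overCat (𝒳.p.obj x)) _ _ _ _ _ _ _ a
    have topIso : ∀ x, IsIso (yoε h𝒳 x rfl (Over.mk (𝟙 (𝒳.p.obj x)))) := fun x =>
      isIso_of_lift_id h𝒳 _ (yoε_lift h𝒳 x rfl (Over.mk (𝟙 (𝒳.p.obj x))))
    -- factorisation of `g : F x ⟶ F y`
    have hfac : ∀ (x y : 𝒳.obj) (g : F.obj x ⟶ F.obj y), ∃ (y' : 𝒳.obj) (l : y' ⟶ y) (g' : F.obj x ⟶ F.obj y'),
        𝒳.p.obj y' = 𝒳.p.obj x ∧ 𝒴.p.IsHomLift (𝟙 (𝒳.p.obj x)) g' ∧ g' ≫ F.map l = g := by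
      intro x y g
      let γ : 𝒳.p.obj x ⟶ 𝒳.p.obj y := eqToHom (F.w_obj x).symm ≫ 𝒴.p.map g ≫ eqToHom (F.w_obj y)
      obtain ⟨y', l, hl⟩ := h𝒳.exists_lift γ
      have h1 : 𝒴.p.IsHomLift γ (F.map l) := BasedFunctor.preserves_isHomLift F _ l
      have h2 : 𝒴.p.IsHomLift γ g := IsHomLift.of_fac 𝒴.p γ g (F.w_obj x) (F.w_obj y) rfl
      obtain ⟨g', hg', eg'⟩ := exists_factor h𝒴 (𝟙 _) (Category.id_comp γ) (F.map l) g h1 h2
      exact ⟨y', l, g', IsHomLift.domain_eq 𝒳.p γ l, hg', eg'⟩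
    refine ⟨⟨fun {x y} g => ?_⟩, ⟨fun {x y} a b e => ?_⟩⟩
    · obtain ⟨y', l, g', hy', hg', eg'⟩ := hfac x y g
      let α : (post (overCat (𝒳.p.obj x)) F).obj (yo h𝒳 x rfl) ⟶
          (post (overCat (𝒳.p.obj x)) F).obj (yo h𝒳 y' hy') :=
        natOfCocones h𝒴 (𝒳 := FibCat.overCat (𝒳.p.obj x)) (fun a => a.hom) (fun a => F.map (yoε h𝒳 x rfl a) ≫ g')
          (fun a => F.map (yoε h𝒳 y' hy' a))
          (fun a => by
            have h1 := yoε_lift h𝒳 x rfl a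
            have h2 : 𝒴.p.IsHomLift a.hom (F.map (yoε h𝒳 x rfl a)) := BasedFunctor.preserves_isHomLift F _ _
            exact IsHomLift.comp_lift_id_right 𝒴.p a.hom _ _)
          (fun a => by
            have h1 := yoε_lift h𝒳 y' hy' a
            exact BasedFunctor.preserves_isHomLift F _ _)
          (fun f => by
            change F.map _ ≫ F.map _ ≫ g' = _
            rw [← Category.assoc, ← F.map_comp, yo_map_yoε])
          (fun f => by
            change F.map _ ≫ F.map _ = _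
            rw [← F.map_comp, yo_map_yoε])
      have hα : ∀ a, α.toNatTrans.app a ≫ F.map (yoε h𝒳 y' hy' a) = F.map (yoε h𝒳 x rfl a) ≫ g' :=
        fun a => natOfCocones_app h𝒴 (𝒳 := FibCat.overCat (𝒳.p.obj x)) _ _ _ _ _ _ _ a
      have h1 := (h (𝒳.p.obj x)).1
      obtain ⟨β, hβ⟩ := (post (overCat (𝒳.p.obj x)) F).map_surjective α
      let t : Over (𝒳.p.obj x) := Over.mk (𝟙 (𝒳.p.obj x))
      have h2 : F.map (β.toNatTrans.app t) = α.toNatTrans.app t := natTrans_app_eq hβ t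
      have := topIso x
      refine ⟨inv (yoε h𝒳 x rfl t) ≫ β.toNatTrans.app t ≫ yoε h𝒳 y' hy' t ≫ l, ?_⟩
      have h3 : F.map (yoε h𝒳 x rfl t) ≫ F.map (inv (yoε h𝒳 x rfl t) ≫ β.toNatTrans.app t ≫ yoε h𝒳 y' hy' t ≫ l) =
          F.map (yoε h𝒳 x rfl t) ≫ g := by
        rw [← F.map_comp, IsIso.hom_inv_id_assoc, F.map_comp, F.map_comp, h2, ← Category.assoc, hα t,
          Category.assoc, eg']
      have h4 : IsIso (F.map (yoε h𝒳 x rfl t)) := inferInstanceAs (IsIso (F.toFunctor.map _))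
      exact (cancel_epi _).1 h3
    · have hab : 𝒳.p.map a = 𝒳.p.map b := by
        have h1 : 𝒴.p.IsHomLift (𝒳.p.map a) (F.map b) := by
          have h2 : 𝒴.p.IsHomLift (𝒳.p.map a) (F.map a) := inferInstance
          exact (show F.map a = F.map b from e) ▸ h2
        have h2 := (BasedFunctor.isHomLift_iff F _ _).1 h1
        exact IsHomLift.eq_of_isHomLift 𝒳.p (𝒳.p.map a) b
      obtain ⟨y', l, hl⟩ := h𝒳.exists_lift (𝒳.p.map a)
      have hy' : 𝒳.p.obj y' = 𝒳.p.obj x := IsHomLift.domain_eq 𝒳.p (𝒳.p.map a) l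
      obtain ⟨c, hc, ec⟩ := exists_factor h𝒳 (𝟙 _) (Category.id_comp (𝒳.p.map a)) l a hl inferInstance
      obtain ⟨d, hd, ed⟩ := exists_factor h𝒳 (𝟙 _) (Category.id_comp (𝒳.p.map a)) l b hl
        (by rw [hab]; infer_instance)
      have hFcd : F.map c = F.map d := by
        refine cancel' h𝒴 (𝟙 (𝒳.p.obj x)) (F.map l) (BasedFunctor.preserves_isHomLift F _ c)
          (BasedFunctor.preserves_isHomLift F _ d) ?_
        rw [← F.map_comp, ← F.map_comp, ec, ed]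
        exact e
      have h1 := (h (𝒳.p.obj x)).2
      have h2 : T x y' hy' c hc = T x y' hy' d hd := by
        apply (post (overCat (𝒳.p.obj x)) F).map_injective
        apply natTrans_ext
        intro o
        refine cancel' h𝒴 (𝟙 o.left) (F.map (yoε h𝒳 y' hy' o)) (BasedNatTrans.isHomLift' _ o)
          (BasedNatTrans.isHomLift' _ o) ?_
        change F.map _ ≫ F.map _ = F.map _ ≫ F.map _
        rw [← F.map_comp, ← F.map_comp, hT x y' hy' c hc, hT x y' hy' d hd, F.map_comp, F.map_comp, hFcd]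
      have := topIso x
      have h3 := hT x y' hy' c hc (Over.mk (𝟙 _))
      rw [h2, hT x y' hy' d hd, cancel_epi] at h3
      rw [← ec, ← ed, h3]

end Postcomp

section Covering

variable {𝒵 : BasedCategory.{v₄, u₄} C}

/-- the functor `C/V ⟶ C/U` over `C` of a morphism -/
abbrev mapCat {U V : C} (h : V ⟶ U) : overCat V ⥤ᵇ overCat U := ⟨Over.map h, Over.mapForget_eq h⟩

/-- covering functors (locally on the base every object of the target lifts up to isomorphism) -/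
def IsCov (J : GrothendieckTopology C) (F : 𝒳 ⥤ᵇ 𝒴) : Prop :=
  ∀ (U : C) (y : overCat U ⥤ᵇ 𝒴), ∃ R ∈ J U, ∀ ⦃V : C⦄ (h : V ⟶ U), R.arrows h →
    ∃ x : overCat V ⥤ᵇ 𝒳, Nonempty (BasedFunctor.comp x F ≅ BasedFunctor.comp (mapCat h) y)

theorem isCov_comp {J : GrothendieckTopology C} {F : 𝒳 ⥤ᵇ 𝒴} {G : 𝒴 ⥤ᵇ 𝒵} (hF : IsCov J F) (hG : IsCov J G) :
    IsCov J (BasedFunctor.comp F G) := by
  intro U z
  obtain ⟨R, hR, hR'⟩ := hG U z
  choose y hy using hR'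
  have h1 : ∀ ⦃V : C⦄ (h : V ⟶ U) (hh : R h), ∃ S ∈ J V, ∀ ⦃W : C⦄ (k : W ⟶ V), S.arrows k →
    ∃ x : overCat W ⥤ᵇ 𝒳, Nonempty (BasedFunctor.comp x F ≅ BasedFunctor.comp (mapCat k) (y h hh)) :=
    fun V h hh => hF V (y h hh)
  choose S hS hS' using h1
  refine ⟨Sieve.bind R (fun V f hf => S f hf), J.bind_covering hR (fun V f hf => hS f hf), ?_⟩
  rintro W l ⟨V, k, h, hh, hk, rfl⟩
  obtain ⟨x, ⟨e⟩⟩ := hS' h hh k hk
  obtain ⟨e'⟩ := hy h hh
  refine ⟨x, ⟨?_⟩⟩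
  let e1 : BasedFunctor.comp x (BasedFunctor.comp F G) ≅
      BasedFunctor.comp (mapCat k) (BasedFunctor.comp (y h hh) G) := (post _ G).mapIso e
  let e2 : BasedFunctor.comp (mapCat k) (BasedFunctor.comp (y h hh) G) ≅
      BasedFunctor.comp (mapCat k) (BasedFunctor.comp (mapCat h) z) :=
    (Stk.restr (mapCat k) 𝒵).mapIso e'
  let e3 : BasedFunctor.comp (mapCat k) (mapCat h) ≅ mapCat (k ≫ h) :=
    BasedNatIso.mkNatIso (Over.mapComp k h).symm (fun a => by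
      change (Over.forget U).IsHomLift (𝟙 a.left) ((Over.mapComp k h).inv.app a)
      have h1 : (Over.forget U).map ((Over.mapComp k h).inv.app a) = 𝟙 a.left := by simp
      rw [← h1]
      exact CategoryTheory.IsHomLift.map _ _)
  exact e1 ≪≫ e2 ≪≫ (post _ z).mapIso e3

theorem isCov_fpFst {J : GrothendieckTopology C} {F : 𝒳 ⥤ᵇ 𝒴} {G : 𝒵 ⥤ᵇ 𝒴} (hF : IsCov J F) :
    IsCov J (fpFst G F) := by
  intro U z
  obtain ⟨R, hR, hR'⟩ := hF U (BasedFunctor.comp z G)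
  refine ⟨R, hR, fun V h hh => ?_⟩
  obtain ⟨x, ⟨e⟩⟩ := hR' h hh
  exact ⟨fpLift (BasedFunctor.comp (mapCat h) z) x e.symm, ⟨Iso.refl _⟩⟩

end Covering

end K751.Loc
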