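import Groth.Agent.Stk.K751.Kan
import Mathlib.CategoryTheory.Limits.Shapes.Pullback.IsPullback.Basic
import Mathlib.CategoryTheory.Sites.CoverPreserving

/-!
# Pull-back of a stack along a continuous functor: S12808 (seat 751)
-/

set_option autoImplicit false
set_option backward.isDefEq.respectTransparency false
set_option backward.isDefEq.respectTransparency.types false

universe w v₅ u₅ v₄ u₄ v₃ u₃ v₂ u₂ v u

open CategoryTheory CategoryTheory.Limits Functor K751.FG K751.Test K751.Inv K751.FF K751.Over K751.Kan FibCat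

namespace K751.PullC

variable {C : Type u} [Category.{v} C] {D : Type u₂} [Category.{v₂} D] {u : C ⥤ D}

section

variable [HasPullbacks C] [PreservesLimitsOfShape WalkingCospan u]

theorem exists_span {U V V' : C} (f : V ⟶ U) (f' : V' ⟶ U) {W : D} (k : W ⟶ u.obj V) (k' : W ⟶ u.obj V')
    (e : k ≫ u.map f = k' ≫ u.map f') :
    ∃ (V'' : C) (g : V'' ⟶ V) (g' : V'' ⟶ V') (k'' : W ⟶ u.obj V''),
      g ≫ f = g' ≫ f' ∧ k'' ≫ u.map g = k ∧ k'' ≫ u.map g' = k' := by
  have h := (IsPullback.of_hasPullback f f').map u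
  exact ⟨pullback f f', pullback.fst f f', pullback.snd f f', h.lift k k' e, pullback.condition,
    h.lift_fst k k' e, h.lift_snd k k' e⟩

theorem exists_eq {U V V' : C} (f' : V' ⟶ U) (h h' : V ⟶ V') (e₀ : h ≫ f' = h' ≫ f') {W : D}
    (k : W ⟶ u.obj V) (e : k ≫ u.map h = k ≫ u.map h') :
    ∃ (V'' : C) (g : V'' ⟶ V) (k'' : W ⟶ u.obj V''), k'' ≫ u.map g = k ∧ g ≫ h = g ≫ h' := by
  let δ : V' ⟶ pullback f' f' := pullback.lift (𝟙 _) (𝟙 _) rfl
  let l : V ⟶ pullback f' f' := pullback.lift h h' e₀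
  have h1 := (IsPullback.of_hasPullback f' f').map u
  have h2 := (IsPullback.of_hasPullback l δ).map u
  have e1 : k ≫ u.map l = (k ≫ u.map h) ≫ u.map δ := by
    apply h1.hom_ext
    · rw [Category.assoc, Category.assoc, ← u.map_comp, ← u.map_comp, pullback.lift_fst, pullback.lift_fst,
        u.map_id, Category.comp_id]
    · rw [Category.assoc, Category.assoc, ← u.map_comp, ← u.map_comp, pullback.lift_snd, pullback.lift_snd,
        u.map_id, Category.comp_id, e]
  refine ⟨pullback l δ, pullback.fst l δ, h2.lift k (k ≫ u.map h) e1, h2.lift_fst _ _ _, ?_⟩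
  have h3 : pullback.fst l δ ≫ l = pullback.snd l δ ≫ δ := pullback.condition
  have h4 : pullback.fst l δ ≫ h = pullback.snd l δ := by
    have := congrArg (· ≫ pullback.fst f' f') h3
    simpa [l, δ] using this
  have h5 : pullback.fst l δ ≫ h' = pullback.snd l δ := by
    have := congrArg (· ≫ pullback.snd f' f') h3
    simpa [l, δ] using this
  rw [h4, h5]

theorem cof_post (U : C) : Cof (A := Over U) (B := Over (u.obj U)) (Over.post u) where
  ne b := ⟨Over.mk (𝟙 U), ⟨Over.homMk b.hom (by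
    change b.hom ≫ u.map (𝟙 U) = b.hom
    rw [u.map_id]
    exact Category.comp_id _)⟩⟩
  span {b a a'} k k' := by
    obtain ⟨V'', g, g', k'', e1, e2, e3⟩ := exists_span (u := u) a.hom a'.hom k.left k'.left
      ((Over.w k).trans (Over.w k').symm)
    refine ⟨Over.mk (g ≫ a.hom), Over.homMk g rfl, Over.homMk g' e1.symm, Over.homMk k'' ?_, ?_, ?_⟩
    · change k'' ≫ u.map (g ≫ a.hom) = b.hom
      rw [u.map_comp, ← Category.assoc, e2]
      exact Over.w k
    · apply Over.OverMorphism.ext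
      exact e2
    · apply Over.OverMorphism.ext
      exact e3
  eq {b a a'} h h' k e := by
    obtain ⟨V'', g, k'', e1, e2⟩ := exists_eq (u := u) a'.hom h.left h'.left ((Over.w h).trans (Over.w h').symm)
      k.left (congrArg (fun t => t.left) e)
    refine ⟨Over.mk (g ≫ a.hom), Over.homMk g rfl, Over.homMk k'' ?_, ?_, ?_⟩
    · change k'' ≫ u.map (g ≫ a.hom) = b.hom
      rw [u.map_comp, ← Category.assoc, e1]
      exact Over.w k
    · apply Over.OverMorphism.ext
      exact e1
    · apply Over.OverMorphism.ext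
      exact e2

end

variable (u) in
/-- the functor between sieve categories -/
def sieveFun {U : C} (R : Sieve U) : (Stk.sieveCat R).obj ⥤ (Stk.sieveCat (R.functorPushforward u)).obj where
  obj a := ⟨Over.mk (u.map a.obj.hom), Sieve.image_mem_functorPushforward u R a.property⟩
  map {a b} f := ObjectProperty.homMk (Over.homMk (u.map f.hom.left) (by
    have h1 : f.hom.left ≫ b.obj.hom = a.obj.hom := Over.w f.hom
    change u.map f.hom.left ≫ u.map b.obj.hom = u.map a.obj.hom
    rw [← u.map_comp, h1]))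
  map_id a := by
    apply ObjectProperty.hom_ext
    apply Over.OverMorphism.ext
    exact u.map_id _
  map_comp f g := by
    apply ObjectProperty.hom_ext
    apply Over.OverMorphism.ext
    exact u.map_comp _ _

theorem cof_sieve [HasPullbacks C] [PreservesLimitsOfShape WalkingCospan u] {U : C} (R : Sieve U) :
    Cof (sieveFun u R) where
  ne b := by
    obtain ⟨V, f, k, hf, e⟩ := b.property
    exact ⟨mkS f hf, ⟨homS k e.symm⟩⟩
  span {b a a'} k k' := by
    obtain ⟨V'', g, g', k'', e1, e2, e3⟩ := exists_span (u := u) a.obj.hom a'.obj.hom k.hom.left k'.hom.left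
      ((Over.w k.hom).trans (Over.w k'.hom).symm)
    refine ⟨mkS (g ≫ a.obj.hom) (R.downward_closed a.property g), homS (a := mkS (g ≫ a.obj.hom) _) (b := a) g rfl,
      homS (a := mkS (g ≫ a.obj.hom) _) (b := a') g' e1.symm, homS (a := b) (b := (sieveFun u R).obj (mkS (g ≫ a.obj.hom) _)) k'' ?_, ?_, ?_⟩
    · change k'' ≫ u.map (g ≫ a.obj.hom) = b.obj.hom
      rw [u.map_comp, ← Category.assoc, e2]
      exact Over.w k.hom
    · apply ObjectProperty.hom_ext
      apply Over.OverMorphism.ext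
      exact e2
    · apply ObjectProperty.hom_ext
      apply Over.OverMorphism.ext
      exact e3
  eq {b a a'} h h' k e := by
    obtain ⟨V'', g, k'', e1, e2⟩ := exists_eq (u := u) a'.obj.hom h.hom.left h'.hom.left
      ((Over.w h.hom).trans (Over.w h'.hom).symm) k.hom.left (congrArg (fun t => t.hom.left) e)
    refine ⟨mkS (g ≫ a.obj.hom) (R.downward_closed a.property g), homS (a := mkS (g ≫ a.obj.hom) _) (b := a) g rfl,
      homS (a := b) (b := (sieveFun u R).obj (mkS (g ≫ a.obj.hom) _)) k'' ?_, ?_, ?_⟩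
    · change k'' ≫ u.map (g ≫ a.obj.hom) = b.obj.hom
      rw [u.map_comp, ← Category.assoc, e1]
      exact Over.w k.hom
    · apply ObjectProperty.hom_ext
      apply Over.OverMorphism.ext
      exact e1
    · apply ObjectProperty.hom_ext
      apply Over.OverMorphism.ext
      exact e2

variable {𝒮 : BasedCategory.{v₃, u₃} D}

theorem isStackFor_pb [HasPullbacks C] [PreservesLimitsOfShape WalkingCospan u] (h𝒮 : IsFibGrpd 𝒮.p) {U : C}
    (R : Sieve U) (h : Stk.IsStackFor (R.functorPushforward u) 𝒮) : Stk.IsStackFor R (pb u 𝒮) := by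
  have h1 : (Stk.resSieve (R.functorPushforward u) 𝒮).IsEquivalence := h
  let hw₁ : (Over.post u : Over U ⥤ Over (u.obj U)) ⋙ (overCat (u.obj U)).p ≅ (overCat U).p ⋙ u := Iso.refl _
  let hw₂ : sieveFun u R ⋙ (Stk.sieveCat (R.functorPushforward u)).p ≅ (Stk.sieveCat R).p ⋙ u := Iso.refl _
  have h2 := phi_isEquivalence (𝒮 := 𝒮) (𝒜 := overCat U) (ℬ := overCat (u.obj U)) (w := Over.post u) hw₁ h𝒮 (cof_post U)
  have h3 := phi_isEquivalence (𝒮 := 𝒮) (𝒜 := Stk.sieveCat R) (ℬ := Stk.sieveCat (R.functorPushforward u))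
    (w := sieveFun u R) hw₂ h𝒮 (cof_sieve R)
  exact isEquivalence_of_square (L := Stk.resSieve (R.functorPushforward u) 𝒮) (L' := Stk.resSieve R (pb u 𝒮))
    (E₁ := phi (𝒮 := 𝒮) (𝒜 := overCat U) (ℬ := overCat (u.obj U)) (Over.post u) hw₁)
    (E₂ := phi (𝒮 := 𝒮) (𝒜 := Stk.sieveCat R) (ℬ := Stk.sieveCat (R.functorPushforward u)) (sieveFun u R) hw₂)
    (Iso.refl _)

theorem isPrestackFor_pb [HasPullbacks C] [PreservesLimitsOfShape WalkingCospan u] (h𝒮 : IsFibGrpd 𝒮.p) {U : C}
    (R : Sieve U) (h : Stk.IsPrestackFor (R.functorPushforward u) 𝒮) : Stk.IsPrestackFor R (pb u 𝒮) := by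
  let hw₁ : (Over.post u : Over U ⥤ Over (u.obj U)) ⋙ (overCat (u.obj U)).p ≅ (overCat U).p ⋙ u := Iso.refl _
  let hw₂ : sieveFun u R ⋙ (Stk.sieveCat (R.functorPushforward u)).p ≅ (Stk.sieveCat R).p ⋙ u := Iso.refl _
  have h2 := phi_isEquivalence (𝒮 := 𝒮) (𝒜 := overCat U) (ℬ := overCat (u.obj U)) (w := Over.post u) hw₁ h𝒮 (cof_post U)
  have h3 := phi_isEquivalence (𝒮 := 𝒮) (𝒜 := Stk.sieveCat R) (ℬ := Stk.sieveCat (R.functorPushforward u))
    (w := sieveFun u R) hw₂ h𝒮 (cof_sieve R)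
  exact full_faithful_of_square (L := Stk.resSieve (R.functorPushforward u) 𝒮) (L' := Stk.resSieve R (pb u 𝒮))
    (E₁ := phi (𝒮 := 𝒮) (𝒜 := overCat U) (ℬ := overCat (u.obj U)) (Over.post u) hw₁)
    (E₂ := phi (𝒮 := 𝒮) (𝒜 := Stk.sieveCat R) (ℬ := Stk.sieveCat (R.functorPushforward u)) (sieveFun u R) hw₂)
    (Iso.refl _) h

/-- S12808 -/
theorem isStack_pb [HasPullbacks C] [PreservesLimitsOfShape WalkingCospan u] (J : GrothendieckTopology C)
    (K : GrothendieckTopology D) (hu : CoverPreserving J K u) (h𝒮 : Stk.IsStack K 𝒮) : Stk.IsStack J (pb u 𝒮) :=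
  ⟨isFibGrpd_pb h𝒮.1, fun _ R hR => isStackFor_pb h𝒮.1 R (h𝒮.2 _ (hu.cover_preserve hR))⟩

end K751.PullC
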