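import Groth.Agent.Stk.K751.Slice
import Mathlib.CategoryTheory.Sites.InducedTopology
import Mathlib.CategoryTheory.Sites.CoverLifting
import Mathlib.CategoryTheory.Sites.CoverPreserving

/-!
# The topology inherited by a category fibred in groupoids (seat 751)
-/

set_option autoImplicit false
set_option backward.isDefEq.respectTransparency false
set_option backward.isDefEq.respectTransparency.types false

universe w v₅ u₅ v₄ u₄ v₃ u₃ v₂ u₂ v u

open CategoryTheory Functor K751.FG K751.Test K751.Inv FibCat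

namespace K751.Rest

variable {C : Type u} [Category.{v} C]

section Plain

variable {𝒳 : Type u₂} [Category.{v₂} 𝒳] {p : 𝒳 ⥤ C}

/-- an arrow whose image lies in the image of a sieve lies in the sieve -/
theorem mem_of_mem_push (hp : IsFibGrpd p) {x z : 𝒳} {S : Sieve x} (a : z ⟶ x)
    (h : S.functorPushforward p (p.map a)) : S a := by
  obtain ⟨t, s, h', hs, e⟩ := h
  obtain ⟨c, -, ec⟩ := exists_factor_map hp s a h' e.symm
  rw [← ec]
  exact S.downward_closed hs c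

theorem mem_push_iff (hp : IsFibGrpd p) {x z : 𝒳} {S : Sieve x} (a : z ⟶ x) :
    S.functorPushforward p (p.map a) ↔ S a :=
  ⟨mem_of_mem_push hp a, fun h => Sieve.image_mem_functorPushforward p S h⟩

/-- a general arrow of the image sieve -/
theorem mem_push_of_lift {x z : 𝒳} {S : Sieve x} {V : C} (f : V ⟶ p.obj x) (a : z ⟶ x)
    (ha : p.IsHomLift f a) (hS : S a) : S.functorPushforward p f := by
  have h1 : f = eqToHom (IsHomLift.domain_eq p f a).symm ≫ p.map a := by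
    have := IsHomLift.fac p f a
    simpa using this
  rw [h1]
  exact (S.functorPushforward p).downward_closed (Sieve.image_mem_functorPushforward p S hS) _

theorem lift_mem_of_push (hp : IsFibGrpd p) {x z : 𝒳} {S : Sieve x} {V : C} (f : V ⟶ p.obj x) (a : z ⟶ x)
    (ha : p.IsHomLift f a) (hS : S.functorPushforward p f) : S a := by
  refine mem_of_mem_push hp a ?_
  have h1 : p.map a = eqToHom (IsHomLift.domain_eq p f a) ≫ f := by
    have := IsHomLift.fac' p f a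
    simpa using this
  rw [h1]
  exact (S.functorPushforward p).downward_closed hS _

variable {J : GrothendieckTopology C}

/-- S12801 -/
theorem mem_restrictedTopology_iff (hp : IsFibGrpd p) {x : 𝒳} (S : Sieve x) :
    S ∈ p.restrictedTopology J x ↔ S.functorPushforward p ∈ J (p.obj x) := by
  refine ⟨fun hS => ?_, fun h => p.mem_restrictedTopology_of_functorPushforward_mem h⟩
  rw [Functor.restrictedTopology] at hS
  induction hS with
  | of X S hS => rwa [← Sieve.generate_map_eq_functorPushforward]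
  | top X => simp
  | pullback X S _ Y f ih =>
    refine J.superset_covering ?_ (J.pullback_stable (p.map f) ih)
    intro V g hg
    obtain ⟨z, a, ha⟩ := hp.exists_lift g
    refine mem_push_of_lift g a ha ?_
    have h1 : p.IsHomLift (g ≫ p.map f) (a ≫ f) := IsHomLift.comp p _ _ _ _
    exact lift_mem_of_push hp (g ≫ p.map f) (a ≫ f) h1 hg
  | transitive X S R _ _ hS H' =>
    apply J.transitive hS
    rintro Y _ ⟨Z, g, i, hg, rfl⟩
    rw [Sieve.pullback_comp]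
    apply J.pullback_stable i
    refine J.superset_covering ?_ (H' hg)
    rintro W _ ⟨Z', g', i', hg, rfl⟩
    refine ⟨Z', g' ≫ g, i', hg, ?_⟩
    simp

/-- a convenient form -/
theorem mem_restrictedTopology_iff' (hp : IsFibGrpd p) {x : 𝒳} (S : Sieve x) :
    S ∈ p.restrictedTopology J x ↔ ∃ R ∈ J (p.obj x), ∀ ⦃z : 𝒳⦄ (a : z ⟶ x), R (p.map a) → S a := by
  rw [mem_restrictedTopology_iff hp]
  refine ⟨fun h => ⟨_, h, fun z a ha => mem_of_mem_push hp a ha⟩, ?_⟩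
  rintro ⟨R, hR, h⟩
  refine J.superset_covering ?_ hR
  intro V f hf
  obtain ⟨z, a, ha⟩ := hp.exists_lift f
  refine mem_push_of_lift f a ha (h a ?_)
  have h1 : p.map a = eqToHom (IsHomLift.domain_eq p f a) ≫ f := by
    have := IsHomLift.fac' p f a
    simpa using this
  rw [h1]
  exact R.downward_closed hf _

/-- the slice `𝒳/x ⥤ C/p x` is an equivalence -/
theorem over_post_isEquivalence (hp : IsFibGrpd p) (x : 𝒳) :
    (Over.post p : Over x ⥤ Over (p.obj x)).IsEquivalence where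
  faithful := ⟨fun {a b} f g e => by
    apply Over.OverMorphism.ext
    refine cancel hp b.hom ?_ ((Over.w f).trans (Over.w g).symm)
    exact congrArg (fun t => t.left) e⟩
  full := ⟨fun {a b} f => by
    obtain ⟨c, hc, ec⟩ := exists_factor_map hp b.hom a.hom f.left (Over.w f)
    refine ⟨Over.homMk c ec, ?_⟩
    apply Over.OverMorphism.ext
    exact hc⟩
  essSurj := ⟨fun a => by
    obtain ⟨z, c, hc⟩ := hp.exists_lift a.hom
    refine ⟨Over.mk c, ⟨Over.isoMk (eqToIso (IsHomLift.domain_eq p a.hom c)) ?_⟩⟩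
    have h1 : p.map c = eqToHom (IsHomLift.domain_eq p a.hom c) ≫ a.hom := by
      have := IsHomLift.fac' p a.hom c
      simpa using this
    exact h1.symm⟩

/-- S12803, second half -/
theorem mem_over_iff (hp : IsFibGrpd p) (x : 𝒳) (a : Over x) (S : Sieve a) :
    S ∈ (p.restrictedTopology J).over x a ↔
        S.functorPushforward (Over.post p) ∈ (J.over (p.obj x)) ((Over.post p).obj a) := by
  rw [GrothendieckTopology.mem_over_iff, GrothendieckTopology.mem_over_iff, mem_restrictedTopology_iff hp,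
    Sieve.overEquiv_functorPushforward_post]
  rfl

end Plain

section Based

variable {𝒳 : BasedCategory.{v₂, u₂} C} {𝒴 : BasedCategory.{v₃, u₃} C} {J : GrothendieckTopology C}

theorem coverPreserving (h𝒳 : IsFibGrpd 𝒳.p) (h𝒴 : IsFibGrpd 𝒴.p) (F : 𝒳 ⥤ᵇ 𝒴) :
    CoverPreserving (𝒳.p.restrictedTopology J) (𝒴.p.restrictedTopology J) F.toFunctor := by
  refine ⟨fun {x} S hS => ?_⟩
  obtain ⟨R, hR, h⟩ := (mem_restrictedTopology_iff' h𝒳 S).1 hS
  rw [mem_restrictedTopology_iff' h𝒴]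
  have hx : 𝒴.p.obj (F.obj x) = 𝒳.p.obj x := F.w_obj x
  refine ⟨R.pullback (eqToHom hx), J.pullback_stable _ hR, fun w b hb => ?_⟩
  obtain ⟨z, a, ha⟩ := h𝒳.exists_lift (𝒴.p.map b ≫ eqToHom hx)
  have h1 : 𝒴.p.IsHomLift (𝒴.p.map b ≫ eqToHom hx) (F.map a) := BasedFunctor.preserves_isHomLift F _ a
  have h2 : 𝒴.p.IsHomLift (𝒴.p.map b ≫ eqToHom hx) b := by
    rw [IsHomLift.lift_comp_eqToHom_iff]; infer_instance
  obtain ⟨c, -, ec⟩ := exists_factor h𝒴 (𝟙 _) (Category.id_comp _) (F.map a) b h1 h2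
  refine ⟨z, a, c, h a ?_, ec.symm⟩
  have h3 : 𝒳.p.map a = eqToHom (IsHomLift.domain_eq 𝒳.p (𝒴.p.map b ≫ eqToHom hx) a) ≫
      (𝒴.p.map b ≫ eqToHom hx) := by
    have := IsHomLift.fac' 𝒳.p (𝒴.p.map b ≫ eqToHom hx) a
    simpa using this
  rw [h3]
  exact R.downward_closed hb _

theorem isCocontinuous (h𝒳 : IsFibGrpd 𝒳.p) (h𝒴 : IsFibGrpd 𝒴.p) (F : 𝒳 ⥤ᵇ 𝒴) :
    F.toFunctor.IsCocontinuous (𝒳.p.restrictedTopology J) (𝒴.p.restrictedTopology J) := by
  refine ⟨fun {x} S hS => ?_⟩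
  obtain ⟨R, hR, h⟩ := (mem_restrictedTopology_iff' h𝒴 S).1 hS
  rw [mem_restrictedTopology_iff' h𝒳]
  have hx : 𝒴.p.obj (F.obj x) = 𝒳.p.obj x := F.w_obj x
  refine ⟨R.pullback (eqToHom hx.symm), J.pullback_stable _ hR, fun z a ha => h (F.map a) ?_⟩
  have h1 : 𝒴.p.map (F.map a) = eqToHom (F.w_obj z) ≫ 𝒳.p.map a ≫ eqToHom hx.symm := by
    have h2 : 𝒴.p.IsHomLift (𝒳.p.map a) (F.map a) := inferInstance
    exact IsHomLift.fac' 𝒴.p (𝒳.p.map a) (F.map a)
  rw [h1]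
  exact R.downward_closed ha _

theorem compatiblePreserving (h𝒳 : IsFibGrpd 𝒳.p) (h𝒴 : IsFibGrpd 𝒴.p) (F : 𝒳 ⥤ᵇ 𝒴)
    (K : GrothendieckTopology 𝒴.obj) : CompatiblePreserving.{w} K F.toFunctor := by
  refine ⟨fun ℱ {Z T x} hx {Y₁ Y₂ X} f₁ f₂ {g₁ g₂} hg₁ hg₂ e => ?_⟩
  have e' : f₁ ≫ F.map g₁ = f₂ ≫ F.map g₂ := e
  let γ₁ : 𝒴.p.obj X ⟶ 𝒳.p.obj Y₁ := 𝒴.p.map f₁ ≫ eqToHom (F.w_obj Y₁)
  let γ₂ : 𝒴.p.obj X ⟶ 𝒳.p.obj Y₂ := 𝒴.p.map f₂ ≫ eqToHom (F.w_obj Y₂)
  obtain ⟨v, a₁, ha₁⟩ := h𝒳.exists_lift γ₁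
  have hf₁ : 𝒴.p.IsHomLift γ₁ f₁ := by
    simp only [γ₁]; rw [IsHomLift.lift_comp_eqToHom_iff]; infer_instance
  have hf₂ : 𝒴.p.IsHomLift γ₂ f₂ := by
    simp only [γ₂]; rw [IsHomLift.lift_comp_eqToHom_iff]; infer_instance
  have hγ : γ₁ ≫ 𝒳.p.map g₁ = γ₂ ≫ 𝒳.p.map g₂ := by
    have h1 : 𝒴.p.IsHomLift (𝒳.p.map g₁) (F.map g₁) := inferInstance
    have h2 : 𝒴.p.IsHomLift (𝒳.p.map g₂) (F.map g₂) := inferInstance
    have h3 : 𝒴.p.map (f₁ ≫ F.map g₁) = 𝒴.p.map (f₂ ≫ F.map g₂) := by rw [e']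
    rw [𝒴.p.map_comp, 𝒴.p.map_comp, IsHomLift.fac' 𝒴.p (𝒳.p.map g₁) (F.map g₁),
      IsHomLift.fac' 𝒴.p (𝒳.p.map g₂) (F.map g₂)] at h3
    have h4 := congrArg (· ≫ eqToHom (F.w_obj Z)) h3
    simpa [γ₁, γ₂] using h4
  obtain ⟨a₂, ha₂, ea₂⟩ := exists_factor h𝒳 γ₂ hγ.symm g₂ (a₁ ≫ g₁) inferInstance
    (IsHomLift.comp 𝒳.p _ _ _ _)
  obtain ⟨c, hc, ec⟩ := exists_factor h𝒴 (𝟙 _) (Category.id_comp γ₁) (F.map a₁) f₁
    (BasedFunctor.preserves_isHomLift F _ a₁) hf₁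
  have ec₂ : c ≫ F.map a₂ = f₂ := by
    have h1 : 𝒴.p.IsHomLift γ₂ (F.map a₂) := BasedFunctor.preserves_isHomLift F _ a₂
    refine cancel' h𝒴 γ₂ (F.map g₂) (IsHomLift.comp_lift_id_left 𝒴.p _ _ _) hf₂ ?_
    rw [Category.assoc, ← F.map_comp, ea₂, F.map_comp, ← Category.assoc, ec, e']
  have hcomp := hx a₁ a₂ hg₁ hg₂ ea₂.symm
  rw [← ec, ← ec₂, op_comp, op_comp, Functor.map_comp_apply, Functor.map_comp_apply]
  exact congrArg (ℱ.obj.map c.op) hcomp

theorem isContinuous (h𝒳 : IsFibGrpd 𝒳.p) (h𝒴 : IsFibGrpd 𝒴.p) (F : 𝒳 ⥤ᵇ 𝒴) :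
    F.toFunctor.IsContinuous (𝒳.p.restrictedTopology J) (𝒴.p.restrictedTopology J) :=
  Functor.isContinuous_of_coverPreserving (compatiblePreserving h𝒳 h𝒴 F _) (coverPreserving h𝒳 h𝒴 F)

end Based

end K751.Rest
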