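import Groth.Prelude.Def_W4stkalgstUpp
import Groth.Prelude.Def_FibCat2
import Mathlib.CategoryTheory.Localization.CalculusOfFractions
import Mathlib.CategoryTheory.Localization.Construction
import Mathlib.CategoryTheory.FiberedCategory.Fibered
import Mathlib.CategoryTheory.Limits.Shapes.Pullback.HasPullback
import Mathlib.CategoryTheory.Limits.Shapes.Pullback.IsPullback.Basic
import Mathlib.CategoryTheory.Limits.Preserves.Shapes.Equalizers

set_option autoImplicit false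
set_option backward.isDefEq.respectTransparency false
set_option backward.isDefEq.respectTransparency.types false

open CategoryTheory CategoryTheory.Limits

universe v₃ u₃ v₂ u₂ v u

namespace K751.Up

section General

variable {𝒳 : Type u₃} [Category.{v₃} 𝒳] {C : Type u} [Category.{v} C] {p : 𝒳 ⥤ C}

/-- A strongly cartesian morphism: existence of factorisations, with `p.map` equations. -/
theorem sc_exists {a b c : 𝒳} {φ : a ⟶ b} (h : p.IsStronglyCartesian (p.map φ) φ) (t : c ⟶ b)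
    (g : p.obj c ⟶ p.obj a) (hg : g ≫ p.map φ = p.map t) :
    ∃ χ : c ⟶ a, p.map χ = g ∧ χ ≫ φ = t := by
  have : p.IsHomLift (p.map t) t := inferInstance
  obtain ⟨χ, ⟨h1, h2⟩, -⟩ := Functor.IsStronglyCartesian.universal_property p (p.map φ) φ g (p.map t) hg.symm t
  refine ⟨χ, ?_, h2⟩
  have := IsHomLift.fac p g χ
  simpa using this.symm

theorem sc_ext {a b c : 𝒳} {φ : a ⟶ b} (h : p.IsStronglyCartesian (p.map φ) φ) {χ χ' : c ⟶ a}
    (h1 : p.map χ = p.map χ') (h2 : χ ≫ φ = χ' ≫ φ) : χ = χ' := by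
  have : p.IsHomLift (p.map χ) χ := inferInstance
  have : p.IsHomLift (p.map χ) χ' := by rw [h1]; infer_instance
  exact Functor.IsStronglyCartesian.ext p (p.map φ) φ (p.map χ) h2

theorem sc_mk {a b : 𝒳} {φ : a ⟶ b}
    (h : ∀ (c : 𝒳) (t : c ⟶ b) (g : p.obj c ⟶ p.obj a), g ≫ p.map φ = p.map t →
      ∃ χ : c ⟶ a, p.map χ = g ∧ χ ≫ φ = t)
    (h' : ∀ (c : 𝒳) (χ χ' : c ⟶ a), p.map χ = p.map χ' → χ ≫ φ = χ' ≫ φ → χ = χ') :
    p.IsStronglyCartesian (p.map φ) φ where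
  universal_property' {c} g t ht := by
    have e : g ≫ p.map φ = p.map t := by
      have := IsHomLift.fac p (g ≫ p.map φ) t
      simpa using this
    obtain ⟨χ, h1, h2⟩ := h c t g e
    refine ⟨χ, ⟨by rw [← h1]; infer_instance, h2⟩, ?_⟩
    rintro χ' ⟨h3, h4⟩
    refine h' c _ _ ?_ (h4.trans h2.symm)
    have := IsHomLift.fac p g χ'
    rw [h1]
    simpa using this.symm

theorem sc_id (a : 𝒳) : p.IsStronglyCartesian (p.map (𝟙 a)) (𝟙 a) :=
  sc_mk (fun c t g hg => ⟨t, by simpa using hg.symm, by simp⟩)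
    (fun c χ χ' _ h => by simpa using h)

theorem sc_comp {a b c : 𝒳} {φ : a ⟶ b} {ψ : b ⟶ c} (hφ : p.IsStronglyCartesian (p.map φ) φ)
    (hψ : p.IsStronglyCartesian (p.map ψ) ψ) : p.IsStronglyCartesian (p.map (φ ≫ ψ)) (φ ≫ ψ) :=
  sc_mk (fun d t g hg => by
      obtain ⟨χ, h1, h2⟩ := sc_exists hψ t (g ≫ p.map φ) (by simpa using hg)
      obtain ⟨χ', h3, h4⟩ := sc_exists hφ χ g h1.symm
      exact ⟨χ', h3, by rw [← Category.assoc, h4, h2]⟩)
    (fun d χ χ' h1 h2 => sc_ext hφ h1 (sc_ext hψ (by simp [h1]) (by simpa using h2)))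

theorem sc_iso {a b : 𝒳} (φ : a ⟶ b) [IsIso φ] : p.IsStronglyCartesian (p.map φ) φ :=
  sc_mk (fun d t g hg => ⟨t ≫ inv φ, by simp [← hg], by simp⟩)
    (fun d χ χ' _ h => (cancel_mono φ).1 h)

/-- Existence of strongly cartesian lifts in a fibred category, up to an isomorphism of the source. -/
theorem exists_sc [p.IsFibered] (a : 𝒳) {R : C} (f : R ⟶ p.obj a) :
    ∃ (b : 𝒳) (φ : b ⟶ a) (e : p.obj b ≅ R), p.IsStronglyCartesian (p.map φ) φ ∧ p.map φ = e.hom ≫ f := by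
  obtain ⟨b, φ, hφ⟩ := IsPreFibered.exists_isCartesian p (rfl : p.obj a = p.obj a) f
  have hs : p.IsStronglyCartesian f φ := inferInstance
  have hb : p.obj b = R := IsHomLift.domain_eq p f φ
  subst hb
  have hf : f = p.map φ := by
    have := IsHomLift.fac p f φ
    simpa using this
  refine ⟨b, φ, Iso.refl _, ?_, by simp [hf]⟩
  rw [← hf]; exact hs

end General

open Stk

variable {C : Type u} [Category.{v} C] {D : Type u₂} [Category.{v₂} D] (u : C ⥤ D)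
  (𝒮 : BasedCategory.{v₃, u₃} C)

theorem isMultiplicative : (uppR u 𝒮).IsMultiplicative where
  id_mem a := ⟨sc_id _, by rw [UppObj.id_bot]; infer_instance⟩
  comp_mem f g hf hg := ⟨by rw [UppObj.comp_top]; exact sc_comp hf.1 hg.1, by
    have := hf.2
    have := hg.2
    rw [UppObj.comp_bot]; infer_instance⟩

variable {u 𝒮}

theorem exists_right [𝒮.p.IsFibered] [HasPullbacks C] [PreservesLimitsOfShape WalkingCospan u]
    {X Y Y' : UppObj u 𝒮} (f : X ⟶ Y') (s : Y ⟶ Y') (hs : uppR u 𝒮 s) :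
    ∃ (Z : UppObj u 𝒮) (t : Z ⟶ X) (g : Z ⟶ Y), uppR u 𝒮 t ∧ t ≫ f = g ≫ s := by
  have hsb := hs.2
  have hP := (IsPullback.of_hasPullback (𝒮.p.map f.top) (𝒮.p.map s.top)).map u
  have hw : X.φ ≫ u.map (𝒮.p.map f.top) = (f.bot ≫ inv s.bot ≫ Y.φ) ≫ u.map (𝒮.p.map s.top) := by
    rw [f.w, Category.assoc, Category.assoc, s.w]
    simp
  obtain ⟨x', l, e, hl, hle⟩ := exists_sc X.x (pullback.fst (𝒮.p.map f.top) (𝒮.p.map s.top))
  obtain ⟨χ, h1, h2⟩ := sc_exists hs.1 (l ≫ f.top)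
    (e.hom ≫ pullback.snd (𝒮.p.map f.top) (𝒮.p.map s.top)) (by
      rw [Functor.map_comp, hle, Category.assoc, Category.assoc, pullback.condition])
  have hinv : u.map e.inv ≫ u.map e.hom = 𝟙 _ := by rw [← u.map_comp]; simp
  refine ⟨⟨x', X.V, hP.lift _ _ hw ≫ u.map e.inv⟩, ⟨l, 𝟙 _, ?_⟩, ⟨χ, f.bot ≫ inv s.bot, ?_⟩, ⟨hl, ?_⟩, ?_⟩
  · dsimp only
    rw [hle, u.map_comp, Category.assoc, reassoc_of% hinv, IsPullback.lift_fst, Category.id_comp]
  · dsimp only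
    rw [h1, u.map_comp, Category.assoc, reassoc_of% hinv, IsPullback.lift_snd, Category.assoc]
  · dsimp only; infer_instance
  · apply UppObj.hom_ext
    · exact h2.symm
    · change 𝟙 _ ≫ f.bot = (f.bot ≫ inv s.bot) ≫ s.bot
      simp

theorem exists_equ [𝒮.p.IsFibered] [HasEqualizers C] [PreservesLimitsOfShape WalkingParallelPair u]
    {X Y Y' : UppObj u 𝒮} (f₁ f₂ : X ⟶ Y) (s : Y ⟶ Y') (hs : uppR u 𝒮 s) (h : f₁ ≫ s = f₂ ≫ s) :
    ∃ (Z : UppObj u 𝒮) (t : Z ⟶ X), uppR u 𝒮 t ∧ t ≫ f₁ = t ≫ f₂ := by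
  have hsb := hs.2
  have hb : f₁.bot = f₂.bot := by
    have := congrArg UppObj.Hom.bot h
    change f₁.bot ≫ s.bot = f₂.bot ≫ s.bot at this
    exact (cancel_mono _).1 this
  have ht : f₁.top ≫ s.top = f₂.top ≫ s.top := congrArg UppObj.Hom.top h
  have hw : X.φ ≫ u.map (𝒮.p.map f₁.top) = X.φ ≫ u.map (𝒮.p.map f₂.top) := by
    rw [f₁.w, f₂.w, hb]
  let hE := isLimitForkMapOfIsLimit u (equalizer.condition (𝒮.p.map f₁.top) (𝒮.p.map f₂.top))
    (equalizerIsEqualizer (𝒮.p.map f₁.top) (𝒮.p.map f₂.top))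
  obtain ⟨m, hm⟩ := Fork.IsLimit.lift' hE X.φ hw
  have hm' : m ≫ u.map (equalizer.ι (𝒮.p.map f₁.top) (𝒮.p.map f₂.top)) = X.φ := by simpa using hm
  obtain ⟨x', l, e, hl, hle⟩ := exists_sc X.x (equalizer.ι (𝒮.p.map f₁.top) (𝒮.p.map f₂.top))
  have hinv : u.map e.inv ≫ u.map e.hom = 𝟙 _ := by rw [← u.map_comp]; simp
  refine ⟨⟨x', X.V, m ≫ u.map e.inv⟩, ⟨l, 𝟙 _, ?_⟩, ⟨hl, ?_⟩, ?_⟩
  · dsimp only
    rw [hle, u.map_comp, Category.assoc, reassoc_of% hinv, hm', Category.id_comp]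
  · dsimp only; infer_instance
  · apply UppObj.hom_ext
    · refine sc_ext hs.1 ?_ ?_
      · change 𝒮.p.map (l ≫ f₁.top) = 𝒮.p.map (l ≫ f₂.top)
        rw [Functor.map_comp, Functor.map_comp, hle, Category.assoc, Category.assoc, equalizer.condition]
      · change (l ≫ f₁.top) ≫ s.top = (l ≫ f₂.top) ≫ s.top
        rw [Category.assoc, Category.assoc, ht]
    · change 𝟙 _ ≫ f₁.bot = 𝟙 _ ≫ f₂.bot
      rw [hb]

variable (u 𝒮) in
theorem hasRight [𝒮.p.IsFibered] [HasPullbacks C] [PreservesLimitsOfShape WalkingCospan u]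
    [HasEqualizers C] [PreservesLimitsOfShape WalkingParallelPair u] :
    (uppR u 𝒮).HasRightCalculusOfFractions where
  __ := isMultiplicative u 𝒮
  exists_rightFraction X Y φ := by
    obtain ⟨Z, t, g, ht, h⟩ := exists_right φ.f φ.s φ.hs
    exact ⟨⟨t, ht, g⟩, h⟩
  ext X Y Y' f₁ f₂ s hs h := by
    obtain ⟨Z, t, ht, h⟩ := exists_equ f₁ f₂ s hs h
    exact ⟨Z, t, ht, h⟩

/-! ### The localised category -/

variable (u 𝒮) in
/-- The structure functor of `u_p 𝒮`. -/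
noncomputable abbrev F : (uppR u 𝒮).Localization ⥤ D :=
  Localization.Construction.lift (UppObj.forget u 𝒮) (uppR_isInvertedBy u 𝒮)

theorem F_map_Q {a b : UppObj u 𝒮} (f : a ⟶ b) : (F u 𝒮).map ((uppR u 𝒮).Q.map f) = f.bot := by
  have := Functor.congr_hom (Localization.Construction.fac (UppObj.forget u 𝒮) (uppR_isInvertedBy u 𝒮)) f
  simpa using this

theorem exists_obj (a : (uppR u 𝒮).Localization) : ∃ b : UppObj u 𝒮, (uppR u 𝒮).Q.obj b = a :=
  ⟨(Localization.Construction.objEquiv _).symm a, (Localization.Construction.objEquiv _).right_inv a⟩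

theorem exists_den [(uppR u 𝒮).HasRightCalculusOfFractions] {a b : UppObj u 𝒮}
    (χ : (uppR u 𝒮).Q.obj b ⟶ (uppR u 𝒮).Q.obj a) :
    ∃ (c : UppObj u 𝒮) (s : c ⟶ b) (t : c ⟶ a), uppR u 𝒮 s ∧
      (uppR u 𝒮).Q.map s ≫ χ = (uppR u 𝒮).Q.map t := by
  obtain ⟨φ, hφ⟩ := Localization.exists_rightFraction (uppR u 𝒮).Q (uppR u 𝒮) χ
  refine ⟨φ.X', φ.s, φ.f, φ.hs, ?_⟩
  rw [hφ]; simp

theorem isIso_Q {a b : UppObj u 𝒮} {s : a ⟶ b} (hs : uppR u 𝒮 s) : IsIso ((uppR u 𝒮).Q.map s) :=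
  (uppR u 𝒮).Q_inverts s hs

/-- The cartesian lift in `u_pp`: `(𝟙, f) : (x, V', f ≫ φ) ⟶ (x, V, φ)`. -/
@[simps]
def liftObj (a : UppObj u 𝒮) {V' : D} (f : V' ⟶ a.V) : UppObj u 𝒮 where
  x := a.x
  V := V'
  φ := f ≫ a.φ

/-- The cartesian lift in `u_pp`: `(𝟙, f) : (x, V', f ≫ φ) ⟶ (x, V, φ)`. -/
def liftHom (a : UppObj u 𝒮) {V' : D} (f : V' ⟶ a.V) : liftObj a f ⟶ a where
  top := 𝟙 _
  bot := f
  w := by simp

theorem sc_liftHom [(uppR u 𝒮).HasRightCalculusOfFractions] (a : UppObj u 𝒮) {V' : D} (f : V' ⟶ a.V) :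
    (F u 𝒮).IsStronglyCartesian ((F u 𝒮).map ((uppR u 𝒮).Q.map (liftHom a f)))
      ((uppR u 𝒮).Q.map (liftHom a f)) := by
  refine sc_mk ?_ ?_
  · intro b ψ g hg
    obtain ⟨b, rfl⟩ := exists_obj b
    rw [F_map_Q] at hg
    change g ≫ f = _ at hg
    obtain ⟨c, s, t, hs, hst⟩ := exists_den ψ
    have := isIso_Q hs
    have hF := congrArg (F u 𝒮).map hst
    rw [Functor.map_comp, F_map_Q, F_map_Q, ← hg] at hF
    let t' : c ⟶ liftObj a f := ⟨t.top, s.bot ≫ g, by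
      rw [t.w, ← hF]
      simp only [liftObj_φ, Category.assoc]⟩
    have ht' : t' ≫ liftHom a f = t := by
      apply UppObj.hom_ext
      · exact Category.comp_id _
      · change (s.bot ≫ g) ≫ f = t.bot
        rw [← hF, Category.assoc]
    refine ⟨inv ((uppR u 𝒮).Q.map s) ≫ (uppR u 𝒮).Q.map t', ?_, ?_⟩
    · rw [← cancel_epi ((F u 𝒮).map ((uppR u 𝒮).Q.map s)), ← Functor.map_comp, IsIso.hom_inv_id_assoc,
        F_map_Q, F_map_Q]
    · rw [Category.assoc, ← Functor.map_comp, ht', ← hst, IsIso.inv_hom_id_assoc]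
  · intro b χ₁ χ₂ h1 h2
    obtain ⟨b, rfl⟩ := exists_obj b
    obtain ⟨c₁, s₁, t₁, hs₁, hst₁⟩ := exists_den χ₁
    obtain ⟨c, s₂, t₂, hs₂, hst₂⟩ := exists_den ((uppR u 𝒮).Q.map s₁ ≫ χ₂)
    have := isIso_Q hs₁
    have := isIso_Q hs₂
    have e1 : (uppR u 𝒮).Q.map (s₂ ≫ s₁) ≫ χ₁ = (uppR u 𝒮).Q.map (s₂ ≫ t₁) := by
      rw [Functor.map_comp, Functor.map_comp, Category.assoc, hst₁]
    have e2 : (uppR u 𝒮).Q.map (s₂ ≫ s₁) ≫ χ₂ = (uppR u 𝒮).Q.map t₂ := by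
      rw [Functor.map_comp, Category.assoc, hst₂]
    have hI : IsIso ((uppR u 𝒮).Q.map (s₂ ≫ s₁)) := by rw [Functor.map_comp]; infer_instance
    rw [← cancel_epi ((uppR u 𝒮).Q.map (s₂ ≫ s₁)), e1, e2]
    have e3 : (uppR u 𝒮).Q.map ((s₂ ≫ t₁) ≫ liftHom a f) = (uppR u 𝒮).Q.map (t₂ ≫ liftHom a f) := by
      rw [(uppR u 𝒮).Q.map_comp (s₂ ≫ t₁) (liftHom a f), (uppR u 𝒮).Q.map_comp t₂ (liftHom a f),
        ← e1, ← e2, Category.assoc, Category.assoc, h2]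
    obtain ⟨d, s', hs', h3⟩ := (MorphismProperty.map_eq_iff_precomp (uppR u 𝒮).Q (uppR u 𝒮) _ _).1 e3
    refine (MorphismProperty.map_eq_iff_precomp (uppR u 𝒮).Q (uppR u 𝒮) _ _).2 ⟨d, s', hs', ?_⟩
    apply UppObj.hom_ext
    · have := congrArg UppObj.Hom.top h3
      change s'.top ≫ (s₂ ≫ t₁).top ≫ 𝟙 _ = s'.top ≫ t₂.top ≫ 𝟙 _ at this
      rw [Category.comp_id, Category.comp_id] at this
      exact this
    · change s'.bot ≫ (s₂ ≫ t₁).bot = s'.bot ≫ t₂.bot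
      rw [← F_map_Q (s₂ ≫ t₁), ← F_map_Q t₂, ← e1, ← e2, (F u 𝒮).map_comp _ χ₁, (F u 𝒮).map_comp _ χ₂, h1]

theorem isFibered_F [(uppR u 𝒮).HasRightCalculusOfFractions] : (F u 𝒮).IsFibered :=
  Functor.IsFibered.of_exists_isStronglyCartesian fun a R f => by
    obtain ⟨a, rfl⟩ := exists_obj a
    have h := sc_liftHom a f
    rw [F_map_Q] at h
    exact ⟨_, _, h⟩

theorem sc_F [(uppR u 𝒮).HasRightCalculusOfFractions] (h𝒮 : FibCat.IsFibGrpd 𝒮.p)
    {x y : (uppR u 𝒮).Localization} (ψ : x ⟶ y) : (F u 𝒮).IsStronglyCartesian ((F u 𝒮).map ψ) ψ := by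
  obtain ⟨b, rfl⟩ := exists_obj x
  obtain ⟨a, rfl⟩ := exists_obj y
  obtain ⟨c, s, t, hs, hst⟩ := exists_den ψ
  have := isIso_Q hs
  let t₁ : c ⟶ liftObj a t.bot := ⟨t.top, 𝟙 _, by rw [t.w]; simp⟩
  have ht₁ : uppR u 𝒮 t₁ := ⟨h𝒮.isStronglyCartesian _, by dsimp only [t₁]; infer_instance⟩
  have e : t₁ ≫ liftHom a t.bot = t := by
    apply UppObj.hom_ext
    · exact Category.comp_id _
    · exact Category.id_comp _
  have := isIso_Q ht₁
  have hψ : ψ = (inv ((uppR u 𝒮).Q.map s) ≫ (uppR u 𝒮).Q.map t₁) ≫ (uppR u 𝒮).Q.map (liftHom a t.bot) := by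
    rw [Category.assoc, ← Functor.map_comp, e, ← hst, IsIso.inv_hom_id_assoc]
  rw [hψ]
  exact sc_comp (sc_iso _) (sc_liftHom a t.bot)

theorem isFibGrpd_F [(uppR u 𝒮).HasRightCalculusOfFractions] (h𝒮 : FibCat.IsFibGrpd 𝒮.p) :
    FibCat.IsFibGrpd (F u 𝒮) where
  exists_lift {x V} f := by
    obtain ⟨a, rfl⟩ := exists_obj x
    have h := sc_liftHom a f
    rw [F_map_Q] at h
    exact ⟨_, _, h.toIsHomLift⟩
  isStronglyCartesian ψ := sc_F h𝒮 ψ

/-- A category fibred in groupoids is fibred. -/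
theorem isFibered_of_isFibGrpd {𝒳 : Type u₃} [Category.{v₃} 𝒳] {p : 𝒳 ⥤ C} (hp : FibCat.IsFibGrpd p) :
    p.IsFibered :=
  Functor.IsFibered.of_exists_isStronglyCartesian fun a R f => by
    obtain ⟨b, φ, hφ⟩ := hp.exists_lift f
    refine ⟨b, φ, ?_⟩
    have hb : p.obj b = R := IsHomLift.domain_eq p f φ
    subst hb
    have hf : f = p.map φ := by
      have := IsHomLift.fac p f φ
      simpa using this
    rw [hf]
    exact hp.isStronglyCartesian φ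

variable (u) in
theorem hasPullbacks_of (hC : ∀ (I : Type) [SmallCategory I] [FinCategory I], Nonempty I → HasLimitsOfShape I C)
    (hu : ∀ (I : Type) [SmallCategory I] [FinCategory I], Nonempty I → PreservesLimitsOfShape I u) :
    HasPullbacks C ∧ PreservesLimitsOfShape WalkingCospan u ∧ HasEqualizers C ∧
      PreservesLimitsOfShape WalkingParallelPair u :=
  ⟨hC WalkingCospan ⟨WalkingCospan.one⟩, hu WalkingCospan ⟨WalkingCospan.one⟩,
    hC WalkingParallelPair ⟨WalkingParallelPair.one⟩, hu WalkingParallelPair ⟨WalkingParallelPair.one⟩⟩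

variable (u 𝒮) in
theorem hasRight' [𝒮.p.IsFibered]
    (hC : ∀ (I : Type) [SmallCategory I] [FinCategory I], Nonempty I → HasLimitsOfShape I C)
    (hu : ∀ (I : Type) [SmallCategory I] [FinCategory I], Nonempty I → PreservesLimitsOfShape I u) :
    (uppR u 𝒮).HasRightCalculusOfFractions := by
  obtain ⟨h1, h2, h3, h4⟩ := hasPullbacks_of u hC hu
  exact hasRight u 𝒮

variable (u 𝒮) in
theorem isFibered_up [𝒮.p.IsFibered]
    (hC : ∀ (I : Type) [SmallCategory I] [FinCategory I], Nonempty I → HasLimitsOfShape I C)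
    (hu : ∀ (I : Type) [SmallCategory I] [FinCategory I], Nonempty I → PreservesLimitsOfShape I u) :
    (Stk.up u 𝒮).p.IsFibered := by
  have := hasRight' u 𝒮 hC hu
  exact isFibered_F (u := u) (𝒮 := 𝒮)

variable (u 𝒮) in
theorem isFibGrpd_up (h𝒮 : FibCat.IsFibGrpd 𝒮.p)
    (hC : ∀ (I : Type) [SmallCategory I] [FinCategory I], Nonempty I → HasLimitsOfShape I C)
    (hu : ∀ (I : Type) [SmallCategory I] [FinCategory I], Nonempty I → PreservesLimitsOfShape I u) :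
    FibCat.IsFibGrpd (Stk.up u 𝒮).p := by
  have := isFibered_of_isFibGrpd h𝒮
  have := hasRight' u 𝒮 hC hu
  exact isFibGrpd_F (u := u) (𝒮 := 𝒮) h𝒮

end K751.Up
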