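import Groth.Agent.Stk.K751.Over
import Mathlib.CategoryTheory.Limits.Shapes.Pullback.Categorical.Basic

/-!
# Functors over a functor of base categories, extension along a cofiltered-type functor (seat 751)

`K751.Kan.phi_isEquivalence`: for `u : C ⥤ D`, `𝒮` fibred in groupoids over `D` and `w : 𝒜 ⥤ ℬ` over `u`
with cofiltered comma categories `b ↓ w`, functors `ℬ ⟶ 𝒮` over `D` are the same as functors
`𝒜 ⟶ C ×_D 𝒮` over `C`.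
-/

set_option autoImplicit false
set_option backward.isDefEq.respectTransparency false
set_option backward.isDefEq.respectTransparency.types false

universe w v₅ u₅ v₄ u₄ v₃ u₃ v₂ u₂ v u

open CategoryTheory CategoryTheory.Limits Functor K751.FG K751.Test K751.Inv K751.FF K751.Over FibCat

namespace K751.Kan

/-- the comma categories of `w` are cofiltered, in elementary form -/
structure Cof {A : Type u₂} [Category.{v₂} A] {B : Type u₃} [Category.{v₃} B] (w : A ⥤ B) : Prop where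
  ne : ∀ b : B, ∃ a : A, Nonempty (b ⟶ w.obj a)
  span : ∀ {b : B} {a a' : A} (k : b ⟶ w.obj a) (k' : b ⟶ w.obj a'), ∃ (a'' : A) (g : a'' ⟶ a) (g' : a'' ⟶ a')
    (k'' : b ⟶ w.obj a''), k'' ≫ w.map g = k ∧ k'' ≫ w.map g' = k'
  eq : ∀ {b : B} {a a' : A} (h h' : a ⟶ a') (k : b ⟶ w.obj a), k ≫ w.map h = k ≫ w.map h' →
    ∃ (a'' : A) (g : a'' ⟶ a) (k'' : b ⟶ w.obj a''), k'' ≫ w.map g = k ∧ g ≫ h = g ≫ h'

variable {C : Type u} [Category.{v} C] {D : Type u₂} [Category.{v₂} D] (u : C ⥤ D)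
  (𝒮 : BasedCategory.{v₃, u₃} D)

/-- the 2-fibre product `C ×_D 𝒮` as a category over `C` -/
abbrev pb : BasedCategory C := BasedCategory.ofFunctor (CategoricalPullback.π₁ u 𝒮.p)

variable {u 𝒮}

theorem pb_hom_ext {X Y : (pb u 𝒮).obj} {f g : X ⟶ Y} (h₁ : f.fst = g.fst) (h₂ : f.snd = g.snd) : f = g :=
  CategoricalPullback.hom_ext h₁ h₂

theorem pb_lift_iff {X Y : (pb u 𝒮).obj} (f : X.fst ⟶ Y.fst) (φ : X ⟶ Y) :
    (pb u 𝒮).p.IsHomLift f φ ↔ φ.fst = f := by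
  constructor
  · intro h
    exact map_eq_of_isHomLift (p := (pb u 𝒮).p) φ h
  · rintro rfl
    exact CategoryTheory.IsHomLift.map (pb u 𝒮).p φ

theorem isFibGrpd_pb (h𝒮 : IsFibGrpd 𝒮.p) : IsFibGrpd (pb u 𝒮).p := by
  refine ⟨fun {X V} f => ?_, fun {Y X} φ => ⟨fun {Z} g ψ hψ => ?_⟩⟩
  · obtain ⟨s', a, ha⟩ := h𝒮.exists_lift (x := X.snd) (u.map f ≫ X.iso.hom : u.obj V ⟶ 𝒮.p.obj X.snd)
    have hd : 𝒮.p.obj s' = u.obj V := IsHomLift.domain_eq 𝒮.p (u.map f ≫ X.iso.hom) a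
    let X' : (pb u 𝒮).obj := (⟨V, s', eqToIso hd.symm⟩ : CategoricalPullback u 𝒮.p)
    let m : X' ⟶ X := ⟨f, a, by
      change u.map f ≫ X.iso.hom = eqToHom hd.symm ≫ 𝒮.p.map a
      rw [map_of_lift _ a ha]
      simp⟩
    exact ⟨X', m, CategoryTheory.IsHomLift.map (pb u 𝒮).p m⟩
  · have h0 : ψ.fst = g ≫ φ.fst := (pb_lift_iff (g ≫ φ.fst) ψ).1 hψ
    let γ : 𝒮.p.obj Z.snd ⟶ 𝒮.p.obj Y.snd := Z.iso.inv ≫ u.map g ≫ Y.iso.hom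
    have hγ : γ ≫ 𝒮.p.map φ.snd = 𝒮.p.map ψ.snd := by
      have h1 := φ.w
      have h2 := ψ.w
      simp only [γ, Category.assoc]
      rw [Iso.inv_comp_eq, ← h1, ← h2, h0, u.map_comp, Category.assoc]
    obtain ⟨c, hc, ec⟩ := exists_factor_map h𝒮 φ.snd ψ.snd γ hγ
    let m : Z ⟶ Y := ⟨g, c, by rw [hc]; simp [γ]⟩
    refine ⟨m, ⟨(pb_lift_iff g m).2 rfl, pb_hom_ext h0.symm ec⟩, ?_⟩
    rintro m' ⟨h1, h2⟩
    have h3 : m'.fst = g := (pb_lift_iff g m').1 h1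
    refine pb_hom_ext h3 ?_
    refine cancel h𝒮 φ.snd ?_ ((congrArg (fun t => t.snd) h2).trans ec.symm)
    have h4 := m'.w
    rw [h3] at h4
    have h5 : 𝒮.p.map m'.snd = γ := by
      simp only [γ]
      rw [h4]
      simp
    exact h5.trans hc.symm

section Phi

variable {𝒜 : BasedCategory.{v₄, u₄} C} {ℬ : BasedCategory.{v₅, u₅} D} (w : 𝒜.obj ⥤ ℬ.obj)
  (hw : w ⋙ ℬ.p ≅ 𝒜.p ⋙ u)

theorem isoG_nat (G : ℬ ⥤ᵇ 𝒮) {b b' : ℬ.obj} (f : b ⟶ b') :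
    ℬ.p.map f ≫ eqToHom (G.w_obj b').symm = eqToHom (G.w_obj b).symm ≫ 𝒮.p.map (G.map f) := by
  have h2 : 𝒮.p.IsHomLift (ℬ.p.map f) (G.map f) := inferInstance
  rw [IsHomLift.fac' 𝒮.p (ℬ.p.map f) (G.map f)]
  simp

theorem isoG_app {G G' : ℬ ⥤ᵇ 𝒮} (α : G ⟶ G') (b : ℬ.obj) :
    eqToHom (G.w_obj b).symm ≫ 𝒮.p.map (α.toNatTrans.app b) = eqToHom (G'.w_obj b).symm := by
  have h2 : 𝒮.p.IsHomLift (𝟙 (ℬ.p.obj b)) (α.toNatTrans.app b) := α.isHomLift' b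
  rw [IsHomLift.fac' 𝒮.p (𝟙 (ℬ.p.obj b)) (α.toNatTrans.app b)]
  simp

/-- the object of the 2-fibre product -/
abbrev phiObj (G : ℬ ⥤ᵇ 𝒮) (a : 𝒜.obj) : CategoricalPullback u 𝒮.p :=
  { fst := 𝒜.p.obj a
    snd := G.obj (w.obj a)
    iso := (hw.app a).symm ≪≫ eqToIso (G.w_obj (w.obj a)).symm }

def phiMap (G : ℬ ⥤ᵇ 𝒮) {a a' : 𝒜.obj} (f : a ⟶ a') : phiObj w hw G a ⟶ phiObj w hw G a' :=
  ⟨𝒜.p.map f, G.map (w.map f), by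
    have h1 : ℬ.p.map (w.map f) ≫ hw.hom.app a' = hw.hom.app a ≫ u.map (𝒜.p.map f) := hw.hom.naturality f
    have h2 := isoG_nat G (w.map f)
    change u.map (𝒜.p.map f) ≫ hw.inv.app a' ≫ eqToHom (G.w_obj (w.obj a')).symm =
      (hw.inv.app a ≫ eqToHom (G.w_obj (w.obj a)).symm) ≫ 𝒮.p.map (G.map (w.map f))
    have h3 : u.map (𝒜.p.map f) ≫ hw.inv.app a' = hw.inv.app a ≫ ℬ.p.map (w.map f) := hw.inv.naturality f
    rw [Category.assoc, ← h2, ← Category.assoc, ← Category.assoc, h3]⟩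

/-- the functor from functors `ℬ ⟶ 𝒮` over `D` to functors `𝒜 ⟶ C ×_D 𝒮` over `C` -/
def phi : (ℬ ⥤ᵇ 𝒮) ⥤ (𝒜 ⥤ᵇ pb u 𝒮) where
  obj G := mkFunctor (𝒳 := 𝒜) (𝒴 := pb u 𝒮) (fun a => phiObj w hw G a) (fun f => phiMap w hw G f)
    (fun f => CategoryTheory.IsHomLift.map (pb u 𝒮).p (phiMap w hw G f))
    (fun a => pb_hom_ext (𝒜.p.map_id a) (by
      change G.map (w.map (𝟙 a)) = 𝟙 _
      rw [w.map_id, G.map_id]))
    (fun f g => pb_hom_ext (𝒜.p.map_comp f g) (by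
      change G.map (w.map (f ≫ g)) = G.map (w.map f) ≫ G.map (w.map g)
      rw [w.map_comp, G.map_comp]))
  map {G G'} α := mkNatTrans (fun a => (⟨𝟙 _, α.toNatTrans.app (w.obj a), by
      have h1 := isoG_app α (w.obj a)
      change u.map (𝟙 (𝒜.p.obj a)) ≫ hw.inv.app a ≫ eqToHom (G'.w_obj (w.obj a)).symm =
        (hw.inv.app a ≫ eqToHom (G.w_obj (w.obj a)).symm) ≫ 𝒮.p.map (α.toNatTrans.app (w.obj a))
      rw [Category.assoc, h1, u.map_id]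
      exact Category.id_comp _⟩ : phiObj w hw G a ⟶ phiObj w hw G' a))
    (fun a => (pb_lift_iff (X := phiObj w hw G a) (Y := phiObj w hw G' a) (𝟙 (𝒜.p.obj a)) _).2 rfl)
    (fun f => pb_hom_ext ((Category.comp_id _).trans (Category.id_comp _).symm)
      (α.toNatTrans.naturality (w.map f)))
  map_id G := natTrans_ext fun a => rfl
  map_comp α β := natTrans_ext fun a => pb_hom_ext (Category.comp_id _).symm rfl

variable {w}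

theorem phi_faithful (h𝒮 : IsFibGrpd 𝒮.p) (hc : Cof w) : (phi (𝒮 := 𝒮) w hw).Faithful := by
  refine ⟨fun {G G'} α β e => natTrans_ext fun b => ?_⟩
  obtain ⟨a, ⟨k⟩⟩ := hc.ne b
  have h1 : α.toNatTrans.app (w.obj a) = β.toNatTrans.app (w.obj a) :=
    congrArg (fun t => t.snd) (natTrans_app_eq e a)
  refine cancel' h𝒮 (𝟙 _) (G'.map k) (α.isHomLift' b) (β.isHomLift' b) ?_
  rw [← nat α k, ← nat β k, h1]

theorem phi_full (h𝒮 : IsFibGrpd 𝒮.p) (hc : Cof w) : (phi (𝒮 := 𝒮) w hw).Full := by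
  refine ⟨fun {G G'} γ => ?_⟩
  let c : ∀ a : 𝒜.obj, G.obj (w.obj a) ⟶ G'.obj (w.obj a) := fun a => (γ.toNatTrans.app a).snd
  have hc1 : ∀ a, (γ.toNatTrans.app a).fst = 𝟙 (𝒜.p.obj a) := fun a =>
    (pb_lift_iff (X := phiObj w hw G a) (Y := phiObj w hw G' a) (𝟙 (𝒜.p.obj a)) _).1 (γ.isHomLift' a)
  have hc2 : ∀ a, 𝒮.p.IsHomLift (𝟙 (ℬ.p.obj (w.obj a))) (c a) := by
    intro a
    have h1 : u.map (γ.toNatTrans.app a).fst ≫ hw.inv.app a ≫ eqToHom (G'.w_obj (w.obj a)).symm =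
      (hw.inv.app a ≫ eqToHom (G.w_obj (w.obj a)).symm) ≫ 𝒮.p.map (c a) := (γ.toNatTrans.app a).w
    have h0 : u.map (γ.toNatTrans.app a).fst = 𝟙 _ := by
      rw [hc1 a]; exact u.map_id _
    have h1' : hw.inv.app a ≫ eqToHom (G'.w_obj (w.obj a)).symm =
        hw.inv.app a ≫ eqToHom (G.w_obj (w.obj a)).symm ≫ 𝒮.p.map (c a) := by
      rw [← Category.assoc, ← h1, h0]
      exact (Category.id_comp _).symm
    have h2 := (cancel_epi _).1 h1'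
    refine IsHomLift.of_fac' 𝒮.p _ _ (G.w_obj _) (G'.w_obj _) ?_
    have h3 : 𝒮.p.map (c a) = eqToHom (G.w_obj (w.obj a)) ≫ eqToHom (G'.w_obj (w.obj a)).symm := by
      rw [h2]; simp
    rw [h3]
    simp
  have nc : ∀ {a a' : 𝒜.obj} (f : a ⟶ a'), G.map (w.map f) ≫ c a' = c a ≫ G'.map (w.map f) := fun f =>
    congrArg (fun t => t.snd) (nat γ f)
  have hne := hc.ne
  choose A K using hne
  let k : ∀ b : ℬ.obj, b ⟶ w.obj (A b) := fun b => (K b).some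
  have hlk : ∀ b, 𝒮.p.IsHomLift (ℬ.p.map (k b)) (G'.map (k b)) := fun b => inferInstance
  have hlk' : ∀ b, 𝒮.p.IsHomLift (ℬ.p.map (k b)) (G.map (k b) ≫ c (A b)) := fun b => by
    have h1 : 𝒮.p.IsHomLift (ℬ.p.map (k b)) (G.map (k b)) := inferInstance
    have h2 := hc2 (A b)
    exact IsHomLift.comp_lift_id_right _ _ _ _
  let α : ∀ b, G.obj b ⟶ G'.obj b := fun b =>
    factor h𝒮 (𝟙 _) (Category.id_comp (ℬ.p.map (k b))) (G'.map (k b)) (G.map (k b) ≫ c (A b)) (hlk b) (hlk' b)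
  have hα : ∀ b, 𝒮.p.IsHomLift (𝟙 (ℬ.p.obj b)) (α b) := fun b =>
    factor_lift h𝒮 (𝟙 _) (Category.id_comp (ℬ.p.map (k b))) (G'.map (k b)) (G.map (k b) ≫ c (A b)) (hlk b) (hlk' b)
  have eα : ∀ b, α b ≫ G'.map (k b) = G.map (k b) ≫ c (A b) := fun b =>
    factor_fac h𝒮 (𝟙 _) (Category.id_comp (ℬ.p.map (k b))) (G'.map (k b)) (G.map (k b) ≫ c (A b)) (hlk b) (hlk' b)
  have key : ∀ (b : ℬ.obj) (a : 𝒜.obj) (l : b ⟶ w.obj a), α b ≫ G'.map l = G.map l ≫ c a := by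
    intro b a l
    obtain ⟨a'', g, g', k'', e1, e2⟩ := hc.span (k b) l
    have h1 : α b ≫ G'.map k'' = G.map k'' ≫ c a'' := by
      have h2 : 𝒮.p.IsHomLift (ℬ.p.map k'') (G'.map k'') := inferInstance
      have h3 : 𝒮.p.IsHomLift (ℬ.p.map k'') (G.map k'') := inferInstance
      have h4 := hα b
      have h5 := hc2 a''
      refine cancel' h𝒮 (ℬ.p.map k'') (G'.map (w.map g)) (IsHomLift.comp_lift_id_left _ _ _ _)
        (IsHomLift.comp_lift_id_right _ _ _ _) ?_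
      rw [Category.assoc, ← G'.map_comp, e1, eα, Category.assoc, ← nc g, ← Category.assoc, ← G.map_comp, e1]
    rw [← e2, G'.map_comp, ← Category.assoc, h1, Category.assoc, ← nc g', ← Category.assoc, ← G.map_comp]
  refine ⟨mkNatTrans α hα (fun {b b'} f => ?_), natTrans_ext fun a => pb_hom_ext (hc1 a).symm ?_⟩
  · have h1 : 𝒮.p.IsHomLift (ℬ.p.map f) (G'.map f) := inferInstance
    have h2 : 𝒮.p.IsHomLift (ℬ.p.map f) (G.map f) := inferInstance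
    have h3 := hα b
    have h4 := hα b'
    refine cancel' h𝒮 (ℬ.p.map f) (G'.map (k b')) (IsHomLift.comp_lift_id_right _ _ _ _)
      (IsHomLift.comp_lift_id_left _ _ _ _) ?_
    rw [Category.assoc, Category.assoc, eα, ← G'.map_comp, key, ← Category.assoc, ← G.map_comp]
  · have h1 := key (w.obj a) a (𝟙 _)
    rw [G.map_id, G'.map_id, Category.id_comp, Category.comp_id] at h1
    exact h1

section Ess

variable (h𝒮 : IsFibGrpd 𝒮.p) (hc : Cof w) (H : 𝒜 ⥤ᵇ pb u 𝒮)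

/-- second components -/
abbrev H₂ (a : 𝒜.obj) : 𝒮.obj := (H.obj a).snd

/-- the canonical isomorphism of the base -/
def th (a : 𝒜.obj) : ℬ.p.obj (w.obj a) ⟶ 𝒮.p.obj (H₂ H a) :=
  hw.hom.app a ≫ u.map (eqToHom (H.w_obj a).symm) ≫ (H.obj a).iso.hom

theorem H_fst {a a' : 𝒜.obj} (f : a ⟶ a') :
    𝒜.p.map f ≫ eqToHom (H.w_obj a').symm = eqToHom (H.w_obj a).symm ≫ (H.map f).fst := isoG_nat H f

theorem th_nat {a a' : 𝒜.obj} (f : a ⟶ a') :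
    ℬ.p.map (w.map f) ≫ th hw H a' = th hw H a ≫ 𝒮.p.map (H.map f).snd := by
  have h1 : ℬ.p.map (w.map f) ≫ hw.hom.app a' = hw.hom.app a ≫ u.map (𝒜.p.map f) := hw.hom.naturality f
  have h2 := H_fst H f
  have h3 := (H.map f).w
  simp only [th, Category.assoc]
  rw [← h3, reassoc_of% h1, ← Category.assoc (u.map (𝒜.p.map f)), ← u.map_comp, h2, u.map_comp]
  simp

/-- morphisms to `H₂ a` over the structure morphism -/
abbrev LM {b : ℬ.obj} {a : 𝒜.obj} (k : b ⟶ w.obj a) {z : 𝒮.obj} (m : z ⟶ H₂ H a) : Prop :=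
  𝒮.p.IsHomLift (ℬ.p.map k ≫ th hw H a) m

/-- the two morphisms come from a common one -/
def Rel {b : ℬ.obj} {z : 𝒮.obj} {a₀ : 𝒜.obj} (k₀ : b ⟶ w.obj a₀) (m₀ : z ⟶ H₂ H a₀) {a : 𝒜.obj}
    (k : b ⟶ w.obj a) (m : z ⟶ H₂ H a) : Prop :=
  ∃ (a'' : 𝒜.obj) (g : a'' ⟶ a₀) (g' : a'' ⟶ a) (k'' : b ⟶ w.obj a'') (m'' : z ⟶ H₂ H a''),
    k'' ≫ w.map g = k₀ ∧ k'' ≫ w.map g' = k ∧ LM hw H k'' m'' ∧ m'' ≫ (H.map g).snd = m₀ ∧
      m'' ≫ (H.map g').snd = m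

variable {H}

include h𝒮 in
theorem exists_LM {b : ℬ.obj} {z : 𝒮.obj} {a a' : 𝒜.obj} (g : a' ⟶ a) (k' : b ⟶ w.obj a') {k : b ⟶ w.obj a}
    (e : k' ≫ w.map g = k) (m : z ⟶ H₂ H a) (hm : LM hw H k m) :
    ∃ m' : z ⟶ H₂ H a', LM hw H k' m' ∧ m' ≫ (H.map g).snd = m := by
  have h1 : (ℬ.p.map k' ≫ th hw H a') ≫ 𝒮.p.map (H.map g).snd = ℬ.p.map k ≫ th hw H a := by
    rw [Category.assoc, ← th_nat, ← Category.assoc, ← ℬ.p.map_comp, e]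
  exact exists_factor h𝒮 (ℬ.p.map k' ≫ th hw H a') h1 (H.map g).snd m inferInstance hm

theorem LM_comp {b : ℬ.obj} {z : 𝒮.obj} {a a' : 𝒜.obj} (g : a ⟶ a') (k : b ⟶ w.obj a) (m : z ⟶ H₂ H a)
    (hm : LM hw H k m) : LM hw H (k ≫ w.map g) (m ≫ (H.map g).snd) := by
  have h1 : (ℬ.p.map k ≫ th hw H a) ≫ 𝒮.p.map (H.map g).snd = ℬ.p.map (k ≫ w.map g) ≫ th hw H a' := by
    rw [Category.assoc, ← th_nat, ← Category.assoc, ← ℬ.p.map_comp]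
  have h2 : 𝒮.p.IsHomLift ((ℬ.p.map k ≫ th hw H a) ≫ 𝒮.p.map (H.map g).snd) (m ≫ (H.map g).snd) :=
    IsHomLift.comp 𝒮.p _ _ _ _
  rw [h1] at h2
  exact h2

include h𝒮 in
theorem LM_cancel {b : ℬ.obj} {z : 𝒮.obj} {a a' : 𝒜.obj} (g : a ⟶ a') (k : b ⟶ w.obj a) {m m' : z ⟶ H₂ H a}
    (hm : LM hw H k m) (hm' : LM hw H k m') (e : m ≫ (H.map g).snd = m' ≫ (H.map g).snd) : m = m' :=
  cancel' h𝒮 _ (H.map g).snd hm hm' e

theorem map_snd_comp {a a' a'' : 𝒜.obj} (g : a ⟶ a') (g' : a' ⟶ a'') :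
    (H.map (g ≫ g')).snd = (H.map g).snd ≫ (H.map g').snd := by
  rw [H.map_comp]; rfl

theorem Rel.right_LM {b : ℬ.obj} {z : 𝒮.obj} {a₀ : 𝒜.obj} {k₀ : b ⟶ w.obj a₀} {m₀ : z ⟶ H₂ H a₀} {a : 𝒜.obj}
    {k : b ⟶ w.obj a} {m : z ⟶ H₂ H a} (h : Rel hw H k₀ m₀ k m) : LM hw H k m := by
  obtain ⟨a'', g, g', k'', m'', e1, e2, h1, e3, e4⟩ := h
  rw [← e2, ← e4]
  exact LM_comp hw g' k'' m'' h1

include h𝒮 hc in
theorem exists_rel {b : ℬ.obj} {z : 𝒮.obj} {a₀ : 𝒜.obj} (k₀ : b ⟶ w.obj a₀) (m₀ : z ⟶ H₂ H a₀)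
    (h₀ : LM hw H k₀ m₀) {a : 𝒜.obj} (k : b ⟶ w.obj a) : ∃ m : z ⟶ H₂ H a, Rel hw H k₀ m₀ k m := by
  obtain ⟨a'', g, g', k'', e1, e2⟩ := hc.span k₀ k
  obtain ⟨m'', h1, e3⟩ := exists_LM hw h𝒮 g k'' e1 m₀ h₀
  exact ⟨_, a'', g, g', k'', m'', e1, e2, h1, e3, rfl⟩

include h𝒮 hc in
theorem rel_unique {b : ℬ.obj} {z : 𝒮.obj} {a₀ : 𝒜.obj} {k₀ : b ⟶ w.obj a₀} {m₀ : z ⟶ H₂ H a₀} {a : 𝒜.obj}
    {k : b ⟶ w.obj a} {m m' : z ⟶ H₂ H a} (h : Rel hw H k₀ m₀ k m) (h' : Rel hw H k₀ m₀ k m') : m = m' := by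
  obtain ⟨a₁, g₁, g₁', k₁, m₁, e1, e2, h1, e3, e4⟩ := h
  obtain ⟨a₂, g₂, g₂', k₂, m₂, f1, f2, i1, f3, f4⟩ := h'
  obtain ⟨a₃, p₁, p₂, k₃, q1, q2⟩ := hc.span k₁ k₂
  obtain ⟨a₄, p₃, k₄, q3, q4⟩ := hc.eq (p₁ ≫ g₁) (p₂ ≫ g₂) k₃ (by
    rw [w.map_comp, w.map_comp, ← Category.assoc, ← Category.assoc, q1, q2, e1, f1])
  obtain ⟨a₅, p₄, k₅, q5, q6⟩ := hc.eq (p₃ ≫ p₁ ≫ g₁') (p₃ ≫ p₂ ≫ g₂') k₄ (by
    simp only [w.map_comp, ← Category.assoc, q3, q1, q2, e2, f2])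
  let r₁ : a₅ ⟶ a₁ := p₄ ≫ p₃ ≫ p₁
  let r₂ : a₅ ⟶ a₂ := p₄ ≫ p₃ ≫ p₂
  have s1 : k₅ ≫ w.map r₁ = k₁ := by
    simp only [r₁, w.map_comp]
    rw [← Category.assoc, q5, ← Category.assoc, q3, q1]
  have s2 : k₅ ≫ w.map r₂ = k₂ := by
    simp only [r₂, w.map_comp]
    rw [← Category.assoc, q5, ← Category.assoc, q3, q2]
  have t1 : r₁ ≫ g₁ = r₂ ≫ g₂ := by
    simp only [r₁, r₂, Category.assoc]
    rw [q4]
  have t2 : r₁ ≫ g₁' = r₂ ≫ g₂' := by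
    simp only [r₁, r₂, Category.assoc]
    exact q6
  obtain ⟨m₅, j1, j2⟩ := exists_LM hw h𝒮 r₁ k₅ s1 m₁ h1
  have j3 : m₅ ≫ (H.map r₂).snd = m₂ := by
    refine LM_cancel hw h𝒮 g₂ k₂ ?_ i1 ?_
    · have := LM_comp hw r₂ k₅ m₅ j1
      rw [s2] at this
      exact this
    · rw [Category.assoc, ← map_snd_comp, ← t1, map_snd_comp, ← Category.assoc, j2, e3, f3]
  rw [← e4, ← f4, ← j2, ← j3, Category.assoc, Category.assoc, ← map_snd_comp, ← map_snd_comp, t2]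

theorem rel_comp {b : ℬ.obj} {z : 𝒮.obj} {a₀ : 𝒜.obj} {k₀ : b ⟶ w.obj a₀} {m₀ : z ⟶ H₂ H a₀} {a : 𝒜.obj}
    {k : b ⟶ w.obj a} {m : z ⟶ H₂ H a} (h : Rel hw H k₀ m₀ k m) {a' : 𝒜.obj} (g : a ⟶ a') :
    Rel hw H k₀ m₀ (k ≫ w.map g) (m ≫ (H.map g).snd) := by
  obtain ⟨a₁, g₁, g₁', k₁, m₁, e1, e2, h1, e3, e4⟩ := h
  refine ⟨a₁, g₁, g₁' ≫ g, k₁, m₁, e1, ?_, h1, e3, ?_⟩
  · rw [w.map_comp, ← Category.assoc, e2]
  · rw [map_snd_comp, ← Category.assoc, e4]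

theorem rel_refl {b : ℬ.obj} {z : 𝒮.obj} {a₀ : 𝒜.obj} (k₀ : b ⟶ w.obj a₀) (m₀ : z ⟶ H₂ H a₀)
    (h₀ : LM hw H k₀ m₀) : Rel hw H k₀ m₀ k₀ m₀ := by
  have e : (H.map (𝟙 a₀)).snd = 𝟙 _ := by rw [H.map_id]; rfl
  exact ⟨a₀, 𝟙 _, 𝟙 _, k₀, m₀, by simp, by simp, h₀, by rw [e, Category.comp_id], by rw [e, Category.comp_id]⟩

theorem rel_restrict {b b' : ℬ.obj} {z z' : 𝒮.obj} (f : b' ⟶ b) (j : z' ⟶ z) (hj : 𝒮.p.IsHomLift (ℬ.p.map f) j)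
    {a₀ : 𝒜.obj} {k₀ : b ⟶ w.obj a₀} {m₀ : z ⟶ H₂ H a₀} {a : 𝒜.obj}
    {k : b ⟶ w.obj a} {m : z ⟶ H₂ H a} (h : Rel hw H k₀ m₀ k m) :
    Rel hw H (f ≫ k₀) (j ≫ m₀) (f ≫ k) (j ≫ m) := by
  obtain ⟨a₁, g₁, g₁', k₁, m₁, e1, e2, h1, e3, e4⟩ := h
  refine ⟨a₁, g₁, g₁', f ≫ k₁, j ≫ m₁, by rw [Category.assoc, e1], by rw [Category.assoc, e2], ?_,
    by rw [Category.assoc, e3], by rw [Category.assoc, e4]⟩
  have h2 : 𝒮.p.IsHomLift (ℬ.p.map f ≫ (ℬ.p.map k₁ ≫ th hw H a₁)) (j ≫ m₁) := IsHomLift.comp 𝒮.p _ _ _ _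
  rw [← Category.assoc, ← ℬ.p.map_comp] at h2
  exact h2

include h𝒮 hc in
theorem rel_trans {b : ℬ.obj} {z : 𝒮.obj} {a₀ : 𝒜.obj} {k₀ : b ⟶ w.obj a₀} {m₀ : z ⟶ H₂ H a₀} {a : 𝒜.obj}
    {k : b ⟶ w.obj a} {m : z ⟶ H₂ H a} (h : Rel hw H k₀ m₀ k m) {a' : 𝒜.obj}
    {k' : b ⟶ w.obj a'} {m' : z ⟶ H₂ H a'} (h' : Rel hw H k m k' m') : Rel hw H k₀ m₀ k' m' := by
  obtain ⟨a₁, g₁, g₁', k₁, m₁, e1, e2, h1, e3, e4⟩ := h
  obtain ⟨a₂, g₂, g₂', k₂, m₂, f1, f2, i1, f3, f4⟩ := h'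
  obtain ⟨a₃, p₁, p₂, k₃, q1, q2⟩ := hc.span k₁ k₂
  obtain ⟨a₄, p₃, k₄, q3, q4⟩ := hc.eq (p₁ ≫ g₁') (p₂ ≫ g₂) k₃ (by
    rw [w.map_comp, w.map_comp, ← Category.assoc, ← Category.assoc, q1, q2, e2, f1])
  let r₁ : a₄ ⟶ a₁ := p₃ ≫ p₁
  let r₂ : a₄ ⟶ a₂ := p₃ ≫ p₂
  have s1 : k₄ ≫ w.map r₁ = k₁ := by
    simp only [r₁, w.map_comp]
    rw [← Category.assoc, q3, q1]
  have s2 : k₄ ≫ w.map r₂ = k₂ := by
    simp only [r₂, w.map_comp]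
    rw [← Category.assoc, q3, q2]
  have t1 : r₁ ≫ g₁' = r₂ ≫ g₂ := by
    simp only [r₁, r₂, Category.assoc]
    exact q4
  obtain ⟨m₄, j1, j2⟩ := exists_LM hw h𝒮 r₁ k₄ s1 m₁ h1
  have j3 : m₄ ≫ (H.map r₂).snd = m₂ := by
    refine LM_cancel hw h𝒮 g₂ k₂ ?_ i1 ?_
    · have := LM_comp hw r₂ k₄ m₄ j1
      rw [s2] at this
      exact this
    · rw [Category.assoc, ← map_snd_comp, ← t1, map_snd_comp, ← Category.assoc, j2, e4, f3]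
  refine ⟨a₄, r₁ ≫ g₁, r₂ ≫ g₂', k₄, m₄, ?_, ?_, j1, ?_, ?_⟩
  · rw [w.map_comp, ← Category.assoc, s1, e1]
  · rw [w.map_comp, ← Category.assoc, s2, f2]
  · rw [map_snd_comp, ← Category.assoc, j2, e3]
  · rw [map_snd_comp, ← Category.assoc, j3, f4]

theorem phi_essSurj (h𝒮 : IsFibGrpd 𝒮.p) (hc : Cof w) : (phi (𝒮 := 𝒮) w hw).EssSurj := by
  refine ⟨fun H => ?_⟩
  have hne := hc.ne
  choose A K using hne
  let k₀ : ∀ b : ℬ.obj, b ⟶ w.obj (A b) := fun b => (K b).some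
  have hz : ∀ b : ℬ.obj, ∃ (z : 𝒮.obj) (m : z ⟶ H₂ H (A b)), LM hw H (k₀ b) m := fun b =>
    h𝒮.exists_lift (x := H₂ H (A b)) (ℬ.p.map (k₀ b) ≫ th hw H (A b))
  choose z m₀ hm₀ using hz
  have hpz : ∀ b, 𝒮.p.obj (z b) = ℬ.p.obj b := fun b => by
    have := hm₀ b
    exact IsHomLift.domain_eq 𝒮.p (ℬ.p.map (k₀ b) ≫ th hw H (A b)) (m₀ b)
  have hcn : ∀ (b : ℬ.obj) (a : 𝒜.obj) (k : b ⟶ w.obj a), ∃ m : z b ⟶ H₂ H a, Rel hw H (k₀ b) (m₀ b) k m :=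
    fun b a k => exists_rel hw h𝒮 hc (k₀ b) (m₀ b) (hm₀ b) k
  choose c hcr using hcn
  have hcl : ∀ b a k, LM hw H k (c b a k) := fun b a k => (hcr b a k).right_LM
  have hc0 : ∀ b, c b (A b) (k₀ b) = m₀ b := fun b =>
    rel_unique hw h𝒮 hc (hcr b (A b) (k₀ b)) (rel_refl hw (k₀ b) (m₀ b) (hm₀ b))
  have hcc : ∀ b a (k : b ⟶ w.obj a) a' (g : a ⟶ a'), c b a k ≫ (H.map g).snd = c b a' (k ≫ w.map g) := fun b a k a' g =>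
    rel_unique hw h𝒮 hc (rel_comp hw (hcr b a k) g) (hcr b a' (k ≫ w.map g))
  -- the morphisms
  have hmor : ∀ (b b' : ℬ.obj) (f : b ⟶ b'), ∃! j : z b ⟶ z b', 𝒮.p.IsHomLift (ℬ.p.map f) j ∧
      j ≫ m₀ b' = c b (A b') (f ≫ k₀ b') := by
    intro b b' f
    have h1 := hcl b (A b') (f ≫ k₀ b')
    have h2 : ℬ.p.map f ≫ (ℬ.p.map (k₀ b') ≫ th hw H (A b')) = ℬ.p.map (f ≫ k₀ b') ≫ th hw H (A b') := by
      rw [← Category.assoc, ← ℬ.p.map_comp]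
    exact existsUnique_factor h𝒮 (ℬ.p.map f) h2 (m₀ b') (c b (A b') (f ≫ k₀ b')) (hm₀ b') h1
  choose j hj1 hj2 using hmor
  have hjc : ∀ (b b' : ℬ.obj) (f : b ⟶ b') (a : 𝒜.obj) (k : b' ⟶ w.obj a), j b b' f ≫ c b' a k = c b a (f ≫ k) := by
    intro b b' f a k
    have h1 := rel_restrict hw f (j b b' f) (hj1 b b' f).1 (hcr b' a k)
    rw [(hj1 b b' f).2] at h1
    exact rel_unique hw h𝒮 hc (rel_trans hw h𝒮 hc (hcr b (A b') (f ≫ k₀ b')) h1) (hcr b a (f ≫ k))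
  let G : ℬ ⥤ᵇ 𝒮 := mkFunctor z (fun {b b'} f => j b b' f) (fun {b b'} f => (hj1 b b' f).1)
    (fun b => (hj2 b b (𝟙 b) (𝟙 _) ⟨by
        have : 𝒮.p.IsHomLift (𝟙 (ℬ.p.obj b)) (𝟙 (z b)) := IsHomLift.id (hpz b)
        rw [ℬ.p.map_id]; exact this, by rw [Category.id_comp, Category.id_comp, hc0]⟩).symm)
    (fun {b b' b''} f g => (hj2 b b'' (f ≫ g) (j b b' f ≫ j b' b'' g) ⟨by
        have h1 := (hj1 b b' f).1
        have h2 := (hj1 b' b'' g).1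
        rw [ℬ.p.map_comp]
        exact IsHomLift.comp 𝒮.p _ _ _ _, by
        rw [Category.assoc, (hj1 b' b'' g).2, hjc, Category.assoc]⟩).symm)
  have hpc : ∀ a : 𝒜.obj, 𝒮.p.map (c (w.obj a) a (𝟙 _)) = eqToHom (hpz _) ≫ th hw H a := by
    intro a
    have h1 : LM hw H (𝟙 (w.obj a)) (c (w.obj a) a (𝟙 _)) := hcl (w.obj a) a (𝟙 _)
    have h2 : 𝒮.p.IsHomLift (th hw H a) (c (w.obj a) a (𝟙 _)) := by
      have h3 : ℬ.p.map (𝟙 (w.obj a)) ≫ th hw H a = th hw H a := by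
        rw [ℬ.p.map_id, Category.id_comp]
      rw [← h3]
      exact h1
    exact map_of_lift _ _ h2
  let α : (phi w hw).obj G ⟶ H :=
    mkNatTrans (fun a => (⟨eqToHom (H.w_obj a).symm, c (w.obj a) a (𝟙 _), by
        change u.map (eqToHom (H.w_obj a).symm) ≫ (H.obj a).iso.hom =
          (hw.inv.app a ≫ eqToHom (G.w_obj (w.obj a)).symm) ≫ 𝒮.p.map (c (w.obj a) a (𝟙 _))
        rw [hpc, Category.assoc]
        have h1 : eqToHom (G.w_obj (w.obj a)).symm ≫ eqToHom (hpz (w.obj a)) ≫ th hw H a = th hw H a := by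
          rw [← Category.assoc, eqToHom_trans, eqToHom_refl, Category.id_comp]
        rw [h1, th]
        simp⟩ : phiObj w hw G a ⟶ H.obj a))
      (fun a => IsHomLift.of_fac' (pb u 𝒮).p (𝟙 (𝒜.p.obj a)) _ rfl (H.w_obj a) (by
        change eqToHom (H.w_obj a).symm = _
        simp))
      (fun {a a'} f => pb_hom_ext (H_fst H f) (by
        change j _ _ (w.map f) ≫ c (w.obj a') a' (𝟙 _) = c (w.obj a) a (𝟙 _) ≫ (H.map f).snd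
        rw [hjc, hcc, Category.comp_id, Category.id_comp]))
  have := isIso_natTrans (isFibGrpd_pb h𝒮) α
  exact ⟨G, ⟨asIso α⟩⟩

end Ess

theorem phi_isEquivalence (h𝒮 : IsFibGrpd 𝒮.p) (hc : Cof w) : (phi (𝒮 := 𝒮) w hw).IsEquivalence :=
  { faithful := phi_faithful hw h𝒮 hc
    full := phi_full hw h𝒮 hc
    essSurj := phi_essSurj hw h𝒮 hc }

end Phi

end K751.Kan
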