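import Groth.Agent.Stk.K751.Rest

/-!
# Stacks over stacks (seat 751)
-/

set_option autoImplicit false
set_option backward.isDefEq.respectTransparency false
set_option backward.isDefEq.respectTransparency.types false

universe w v₅ u₅ v₄ u₄ v₃ u₃ v₂ u₂ v u

open CategoryTheory Functor K751.FG K751.Test K751.Inv K751.FF K751.Loc K751.Rest FibCat

namespace K751.Trans

variable {C : Type u} [Category.{v} C]

section General

variable {𝒳 : BasedCategory.{v₂, u₂} C} {𝒜 : BasedCategory.{v₃, u₃} C}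

/-- a cocone of `D` over the cocone `t` of the base -/
structure Coc {U : C} (t : ∀ a : 𝒜.obj, 𝒜.p.obj a ⟶ U) (D : 𝒜 ⥤ᵇ 𝒳) where
  pt : 𝒳.obj
  ι : ∀ a : 𝒜.obj, D.obj a ⟶ pt
  lift : ∀ a, 𝒳.p.IsHomLift (t a) (ι a)
  nat : ∀ {a b : 𝒜.obj} (f : a ⟶ b), D.map f ≫ ι b = ι a
  pt_obj : 𝒳.p.obj pt = U

/-- the cocone of the base attached to a functor to a sieve category -/
def tOf {U : C} {R : Sieve U} (K : 𝒜 ⥤ᵇ Stk.sieveCat R) (a : 𝒜.obj) : 𝒜.p.obj a ⟶ U :=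
  eqToHom (K.w_obj a).symm ≫ (K.obj a).obj.hom

/-- descent along an index category equivalent to the sieve category -/
theorem exists_coc {U : C} {R : Sieve U} (hR : ∀ D' : Stk.sieveCat R ⥤ᵇ 𝒳, Nonempty (Eff D'))
    (K : 𝒜 ⥤ᵇ Stk.sieveCat R) (hK : IsEquivOver K) (D : 𝒜 ⥤ᵇ 𝒳) : Nonempty (Coc (tOf K) D) := by
  obtain ⟨L, ⟨η⟩, ⟨ε⟩⟩ := hK
  obtain ⟨E⟩ := hR (BasedFunctor.comp L D)
  refine ⟨⟨E.pt, fun a => D.map (η.inv.toNatTrans.app a) ≫ E.ι (K.obj a), fun a => ?_, fun {a b} f => ?_, E.pt_obj⟩⟩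
  · have h1 : 𝒜.p.IsHomLift (𝟙 (𝒜.p.obj a)) (η.inv.toNatTrans.app a) := η.inv.isHomLift' a
    have h2 : 𝒳.p.IsHomLift (𝟙 (𝒜.p.obj a)) (D.map (η.inv.toNatTrans.app a)) :=
      BasedFunctor.preserves_isHomLift D _ _
    have h3 := E.lift (K.obj a)
    have h4 : 𝒳.p.IsHomLift (tOf K a) (E.ι (K.obj a)) := by
      rw [tOf, IsHomLift.lift_eqToHom_comp_iff]; exact h3
    exact IsHomLift.comp_lift_id_left _ _ _ _
  · have h1 := nat η.inv f
    have h2 : D.map (L.map (K.map f)) ≫ E.ι (K.obj b) = E.ι (K.obj a) := E.nat (K.map f)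
    rw [← h2, ← Category.assoc, ← Category.assoc, ← D.map_comp, ← D.map_comp]
    congr 2

/-- an effective cocone from a cocone over an equivalent index category -/
theorem eff_of_coc {U : C} {R : Sieve U} (K : 𝒜 ⥤ᵇ Stk.sieveCat R) (hK : IsEquivOver K)
    {D : Stk.sieveCat R ⥤ᵇ 𝒳} (E : Coc (tOf K) (BasedFunctor.comp K D)) : Nonempty (Eff D) := by
  obtain ⟨L, ⟨η⟩, ⟨ε⟩⟩ := hK
  refine ⟨⟨E.pt, fun a => D.map (ε.inv.toNatTrans.app a) ≫ E.ι (L.obj a), fun a => ?_, fun {a b} f => ?_, E.pt_obj⟩⟩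
  · have h1 : (Stk.sieveCat R).p.IsHomLift (𝟙 a.obj.left) (ε.inv.toNatTrans.app a) := ε.inv.isHomLift' a
    have h2 : 𝒳.p.IsHomLift (𝟙 a.obj.left) (D.map (ε.inv.toNatTrans.app a)) :=
      BasedFunctor.preserves_isHomLift D _ _
    have h3 := E.lift (L.obj a)
    rw [tOf, IsHomLift.lift_eqToHom_comp_iff] at h3
    have h4 : 𝒳.p.IsHomLift a.obj.hom (E.ι (L.obj a)) := by
      have h5 : (ε.inv.toNatTrans.app a).hom.left ≫ (K.obj (L.obj a)).obj.hom = a.obj.hom :=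
        Over.w (ε.inv.toNatTrans.app a).hom
      have h6 : (Stk.sieveCat R).p.map (ε.inv.toNatTrans.app a) = eqToHom _ ≫ 𝟙 _ ≫ eqToHom _ :=
        IsHomLift.fac' (Stk.sieveCat R).p (𝟙 a.obj.left) (ε.inv.toNatTrans.app a)
      have h7 : (ε.inv.toNatTrans.app a).hom.left = eqToHom (by
          have := (BasedFunctor.comp L K).w_obj a
          exact this.symm) := by
        refine h6.trans ?_
        simp
      rw [← h5, h7, IsHomLift.lift_eqToHom_comp_iff]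
      exact h3
    exact IsHomLift.comp_lift_id_left _ _ _ _
  · have h1 := nat ε.inv f
    have h2 : D.map (K.map (L.map f)) ≫ E.ι (L.obj b) = E.ι (L.obj a) := E.nat (L.map f)
    rw [← h2, ← Category.assoc, ← Category.assoc, ← D.map_comp, ← D.map_comp]
    congr 2

/-- strictification of a functor to a category fibred in groupoids -/
theorem exists_strict (h𝒳 : IsFibGrpd 𝒳.p) (H : 𝒜.obj ⥤ 𝒳.obj) (θ : 𝒜.p ≅ H ⋙ 𝒳.p) :
    ∃ (H' : 𝒜 ⥤ᵇ 𝒳) (ν : H'.toFunctor ≅ H), ∀ a, 𝒳.p.IsHomLift (θ.hom.app a) (ν.hom.app a) := by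
  have h1 : ∀ a : 𝒜.obj, ∃ (y : 𝒳.obj) (φ : y ⟶ H.obj a), 𝒳.p.IsHomLift (θ.hom.app a) φ := fun a =>
    h𝒳.exists_lift (x := H.obj a) (θ.hom.app a)
  choose y φ hφ using h1
  have hi : ∀ a, IsIso (φ a) := fun a => isIso_of_isHomLift h𝒳 (θ.hom.app a) (φ a) (hφ a)
  have h2 : ∀ (a b : 𝒜.obj) (f : a ⟶ b), 𝒳.p.IsHomLift (𝒜.p.map f ≫ θ.hom.app b) (φ a ≫ H.map f) := by
    intro a b f
    rw [θ.hom.naturality f]
    have h3 : 𝒳.p.IsHomLift ((H ⋙ 𝒳.p).map f) (H.map f) := CategoryTheory.IsHomLift.map 𝒳.p (H.map f)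
    exact IsHomLift.comp 𝒳.p _ _ _ _
  let H' : 𝒜 ⥤ᵇ 𝒳 := mkFunctor y
    (fun {a b} f => factor h𝒳 (𝒜.p.map f) rfl (φ b) (φ a ≫ H.map f) (hφ b) (h2 a b f))
    (fun {a b} f => factor_lift h𝒳 (𝒜.p.map f) rfl (φ b) (φ a ≫ H.map f) (hφ b) (h2 a b f))
    (fun a => by
      rw [← cancel_mono (φ a), factor_fac]
      simp)
    (fun {a b c} f g => by
      rw [← cancel_mono (φ c), factor_fac, Category.assoc, factor_fac, factor_fac_assoc]
      simp)
  refine ⟨H', NatIso.ofComponents (fun a => asIso (φ a)) (fun {a b} f => ?_), hφ⟩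
  exact factor_fac h𝒳 (𝒜.p.map f) rfl (φ b) (φ a ≫ H.map f) (hφ b) (h2 a b f)

end General

section SieveOver

variable {𝒴 : BasedCategory.{v₃, u₃} C}

/-- the sieve category of a sieve of `𝒴`, as a category over `C` -/
abbrev sieveOver {y : 𝒴.obj} (S : Sieve y) : BasedCategory.{v₃, max u₃ v₃} C :=
  BasedCategory.ofFunctor (S.arrows.diagram ⋙ 𝒴.p)

/-- comparison with the sieve category of the image sieve -/
def compS {y : 𝒴.obj} (S : Sieve y) {R : Sieve (𝒴.p.obj y)} (h : ∀ ⦃z : 𝒴.obj⦄ (b : z ⟶ y), S b → R (𝒴.p.map b)) :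
    sieveOver S ⥤ᵇ Stk.sieveCat R where
  toFunctor :=
    { obj := fun b => ⟨Over.mk (𝒴.p.map b.obj.hom), h _ b.property⟩
      map := fun {b b'} f => ObjectProperty.homMk (Over.homMk (𝒴.p.map f.hom.left) (by
        have h1 : f.hom.left ≫ b'.obj.hom = b.obj.hom := Over.w f.hom
        change 𝒴.p.map f.hom.left ≫ 𝒴.p.map b'.obj.hom = 𝒴.p.map b.obj.hom
        rw [← 𝒴.p.map_comp, h1]))
      map_id := fun b => by
        apply ObjectProperty.hom_ext
        apply Over.OverMorphism.ext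
        exact 𝒴.p.map_id _
      map_comp := fun f g => by
        apply ObjectProperty.hom_ext
        apply Over.OverMorphism.ext
        exact 𝒴.p.map_comp _ _ }
  w := rfl

theorem isEquivOver_compS (h𝒴 : IsFibGrpd 𝒴.p) {y : 𝒴.obj} (S : Sieve y) {R : Sieve (𝒴.p.obj y)}
    (h : ∀ ⦃z : 𝒴.obj⦄ (b : z ⟶ y), S b → R (𝒴.p.map b))
    (h' : ∀ ⦃z : 𝒴.obj⦄ (b : z ⟶ y), R (𝒴.p.map b) → S b) : IsEquivOver (compS S h) := by
  have h1 : (compS S h).toFunctor.Faithful := ⟨fun {a b} f g e => by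
    apply ObjectProperty.hom_ext
    apply Over.OverMorphism.ext
    refine cancel h𝒴 b.obj.hom ?_ ((Over.w f.hom).trans (Over.w g.hom).symm)
    exact congrArg (fun t => t.hom.left) e⟩
  have h2 : (compS S h).toFunctor.Full := ⟨fun {a b} f => by
    obtain ⟨c, hc, ec⟩ := exists_factor_map h𝒴 b.obj.hom a.obj.hom f.hom.left (Over.w f.hom)
    refine ⟨ObjectProperty.homMk (Over.homMk c ec), ?_⟩
    apply ObjectProperty.hom_ext
    apply Over.OverMorphism.ext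
    exact hc⟩
  refine isEquivOver_of_ff_of_exists_iso _ fun a => ?_
  obtain ⟨z, c, hc⟩ := h𝒴.exists_lift a.obj.hom
  have h3 : 𝒴.p.map c = eqToHom (IsHomLift.domain_eq 𝒴.p a.obj.hom c) ≫ a.obj.hom := by
    have := IsHomLift.fac' 𝒴.p a.obj.hom c
    simpa using this
  let b : S.arrows.category := ⟨Over.mk c, h' c (by rw [h3]; exact R.downward_closed a.property _)⟩
  let i : (compS S h).obj b ⟶ a := homS (eqToHom (IsHomLift.domain_eq 𝒴.p a.obj.hom c)) h3.symm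
  let j : a ⟶ (compS S h).obj b := homS (eqToHom (IsHomLift.domain_eq 𝒴.p a.obj.hom c).symm) (by
    change eqToHom (IsHomLift.domain_eq 𝒴.p a.obj.hom c).symm ≫ 𝒴.p.map c = a.obj.hom
    rw [h3]
    simp)
  have hd := IsHomLift.domain_eq 𝒴.p a.obj.hom c
  refine ⟨b, ⟨i, j, ?_, ?_⟩, ?_⟩
  · apply ObjectProperty.hom_ext
    apply Over.OverMorphism.ext
    change eqToHom hd ≫ eqToHom hd.symm = 𝟙 _
    simp
  · apply ObjectProperty.hom_ext
    apply Over.OverMorphism.ext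
    change eqToHom hd.symm ≫ eqToHom hd = 𝟙 _
    simp
  · refine IsHomLift.of_fac' (Stk.sieveCat R).p (𝟙 a.obj.left) i (IsHomLift.domain_eq 𝒴.p a.obj.hom c) rfl ?_
    change eqToHom hd = _
    simp

end SieveOver

end K751.Trans
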